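import Cfsg.Agent.Helper21.CADefs

/-!
# S2202 piece GB : counting a union of subgroups meeting pairwise trivially (Mathlib only)
-/

set_option autoImplicit false

namespace Cfsg.Agent.Helper21.CA

/-- (G5) a finite subset `T ∋ 1` of a group containing the subgroups `S i` (`i : ι`), all of order `d`
and meeting pairwise trivially, has at least `1 + #ι (d-1)` elements
(the sets `S i \ {1}` are pairwise disjoint subsets of `T \ {1}`). -/
theorem card_union_ti {E : Type*} [Group E] {ι : Type*} [Fintype ι] (S : ι → Subgroup E)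
    (T : Set E) (hT : T.Finite) (h1 : (1 : E) ∈ T) (d : ℕ) (hd : ∀ i, Nat.card (S i) = d)
    (hti : ∀ i j, i ≠ j → S i ⊓ S j = ⊥) (hST : ∀ i, ((S i : Subgroup E) : Set E) ⊆ T) :
    1 + Fintype.card ι * (d - 1) ≤ Nat.card T := by
  classical
  have hSfin : ∀ i, ((S i : Subgroup E) : Set E).Finite := fun i => hT.subset (hST i)
  set Tf : Finset E := hT.toFinset with hTf
  have hcardT : Nat.card T = Tf.card := by
    rw [Nat.card_coe_set_eq, Set.ncard_eq_toFinset_card T hT]
  set F : ι → Finset E := fun i => (hSfin i).toFinset.erase 1 with hF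
  have hFcard : ∀ i, (F i).card = d - 1 := by
    intro i
    have h1S : (1 : E) ∈ (hSfin i).toFinset := by
      rw [Set.Finite.mem_toFinset]; exact (S i).one_mem
    rw [hF, Finset.card_erase_of_mem h1S, ← Set.ncard_eq_toFinset_card _ (hSfin i),
      ← Nat.card_coe_set_eq]
    have : Nat.card ((S i : Subgroup E) : Set E) = Nat.card (S i) := rfl
    rw [this, hd i]
  have hdisj : ∀ i ∈ (Finset.univ : Finset ι), ∀ j ∈ (Finset.univ : Finset ι), i ≠ j →
      Disjoint (F i) (F j) := by
    intro i _ j _ hij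
    rw [Finset.disjoint_left]
    intro x hxi hxj
    rw [hF, Finset.mem_erase, Set.Finite.mem_toFinset] at hxi hxj
    have hx : x ∈ S i ⊓ S j := ⟨hxi.2, hxj.2⟩
    rw [hti i j hij, Subgroup.mem_bot] at hx
    exact hxi.1 hx
  have hsub : (Finset.univ : Finset ι).biUnion F ⊆ Tf.erase 1 := by
    intro x hx
    rw [Finset.mem_biUnion] at hx
    obtain ⟨i, _, hxi⟩ := hx
    rw [hF, Finset.mem_erase, Set.Finite.mem_toFinset] at hxi
    rw [Finset.mem_erase, hTf, Set.Finite.mem_toFinset]
    exact ⟨hxi.1, hST i hxi.2⟩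
  have hcard := Finset.card_le_card hsub
  rw [Finset.card_biUnion hdisj] at hcard
  simp only [hFcard, Finset.sum_const, Finset.card_univ, smul_eq_mul] at hcard
  have h1T : (1 : E) ∈ Tf := by rw [hTf, Set.Finite.mem_toFinset]; exact h1
  rw [Finset.card_erase_of_mem h1T] at hcard
  have hpos : 0 < Tf.card := Finset.card_pos.mpr ⟨1, h1T⟩
  rw [hcardT]
  omega

end Cfsg.Agent.Helper21.CA
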