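import Cfsg.Agent.Helper21.CA.II
import Cfsg.Agent.Helper21.CA.GB

/-!
# S2202 piece AA : Case A (`C(k) ≤ N(P)` for all `1 ≠ k ∈ K_P`, all `P`): the two-point stabilizer `D(P,Q)` has order `f`.
Uses II, GA, GB, IA, IB.
-/

set_option autoImplicit false
open scoped Pointwise

namespace Cfsg.Agent.Helper21.CA

universe u
variable {G : Type u} [Group G] [Finite G]

/-- (A1) `1 ≠ k ∈ K_P ∩ K_Q`: `Q ≤ C(k) ≤ N(P)`, so the involutions of `Q` lie in `P` (I7) and `P = Q` (I5). -/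
theorem KK_ti (S : Setup G) (hA : ∀ P : Sylow 2 G, CaseA P) {P Q : Sylow 2 G} (hPQ : P ≠ Q) :
    KK P ⊓ KK Q = ⊥ := by
  rw [eq_bot_iff]
  intro k hk
  rw [Subgroup.mem_inf] at hk
  rw [Subgroup.mem_bot]
  by_contra hk1
  have hc : Subgroup.centralizer ({k} : Set G) ≤ NN P := hA P k hk.1 hk1
  obtain ⟨t, ht, htQ⟩ := exists_inv_mem S Q
  have hkH : k ∈ HH Q := (basic_le Q).1 hk.2
  have htc : t ∈ Subgroup.centralizer ({k} : Set G) := by
    rw [Subgroup.mem_centralizer_iff]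
    intro h hh
    rw [Set.mem_singleton_iff] at hh
    subst hh
    have := (Subgroup.mem_centralizer_iff.mp hkH) t htQ
    exact this.symm
  have htP : t ∈ P := inv_mem_of_mem_NN P ht (hc htc)
  exact hPQ (sylow_eq_of_inv S.ca P Q ht htP htQ)

theorem AA_mem_DD {P Q : Sylow 2 G} {x : G} : x ∈ DD P Q ↔ x ∈ NN P ∧ x ∈ NN Q :=
  Subgroup.mem_inf

theorem AA_mul_self {v : G} (hv : orderOf v = 2) : v * v = 1 := by
  have h : v ^ 2 = 1 := by rw [← hv]; exact pow_orderOf_eq_one v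
  rwa [sq] at h

/-- `E_P = D ∩ K_P` and `E_Q = D ∩ K_Q` commute elementwise. -/
theorem AA_comm (S : Setup G) (hA : ∀ P : Sylow 2 G, CaseA P) {P Q : Sylow 2 G} (hPQ : P ≠ Q)
    {a b : G} (ha : a ∈ DD P Q ⊓ KK P) (hb : b ∈ DD P Q ⊓ KK Q) : a * b = b * a := by
  rw [Subgroup.mem_inf] at ha hb
  have haD := AA_mem_DD.mp ha.1
  have hbD := AA_mem_DD.mp hb.1
  have h1 : a * b * a⁻¹ * b⁻¹ ∈ KK Q :=
    (KK Q).mul_mem ((basic_le Q).2.2.2.2.1 a haD.2 b hb.2) ((KK Q).inv_mem hb.2)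
  have h2 : a * b * a⁻¹ * b⁻¹ ∈ KK P := by
    have : a * b * a⁻¹ * b⁻¹ = a * (b * a⁻¹ * b⁻¹) := by group
    rw [this]
    exact (KK P).mul_mem ha.2 ((basic_le P).2.2.2.2.1 b hbD.1 a⁻¹ ((KK P).inv_mem ha.2))
  have h3 : a * b * a⁻¹ * b⁻¹ ∈ KK P ⊓ KK Q := Subgroup.mem_inf.mpr ⟨h2, h1⟩
  rw [KK_ti S hA hPQ, Subgroup.mem_bot] at h3
  have : a * b = (a * b * a⁻¹ * b⁻¹) * (b * a) := by group
  rw [this, h3, one_mul]

/-- the product map `K_P × K_Q → G` is injective. -/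
theorem AA_prod_inj (S : Setup G) (hA : ∀ P : Sylow 2 G, CaseA P) {P Q : Sylow 2 G} (hPQ : P ≠ Q)
    {a a' b b' : G} (ha : a ∈ KK P) (ha' : a' ∈ KK P) (hb : b ∈ KK Q) (hb' : b' ∈ KK Q)
    (h : a * b = a' * b') : a = a' ∧ b = b' := by
  have h1 : a'⁻¹ * a ∈ KK P := (KK P).mul_mem ((KK P).inv_mem ha') ha
  have h2 : a'⁻¹ * a = b' * b⁻¹ := by
    rw [inv_mul_eq_iff_eq_mul, ← mul_assoc, ← h, mul_inv_cancel_right]
  have h3 : a'⁻¹ * a ∈ KK Q := by rw [h2]; exact (KK Q).mul_mem hb' ((KK Q).inv_mem hb)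
  have h4 : a'⁻¹ * a ∈ KK P ⊓ KK Q := Subgroup.mem_inf.mpr ⟨h1, h3⟩
  rw [KK_ti S hA hPQ, Subgroup.mem_bot, inv_mul_eq_one] at h4
  subst h4
  exact ⟨rfl, mul_left_cancel h⟩

/-- `#(D ∩ K_Q) = #(D ∩ K_P)`. -/
theorem AA_card_EQ (S : Setup G) {P Q : Sylow 2 G} (hPQ : P ≠ Q) :
    Nat.card (DD P Q ⊓ KK Q : Subgroup G) = Nat.card (DD P Q ⊓ KK P : Subgroup G) := by
  have h1 := (DD_trans S hPQ).2.2.2
  have h2 := (DD_trans S (Ne.symm hPQ)).2.2.2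
  have hDD : DD Q P = DD P Q := inf_comm _ _
  rw [hDD, ← ff_eq P Q, h1] at h2
  have hf : 0 < ff P := by have := (three_le_ff S P).1; omega
  exact (Nat.eq_of_mul_eq_mul_left hf h2).symm

/-- `C_D(v) = D ∩ K_R ⊆ E_P E_Q`. -/
theorem AA_fixed_sub (S : Setup G) (hA : ∀ P : Sylow 2 G, CaseA P) {P Q : Sylow 2 G} (hPQ : P ≠ Q)
    {v : G} (hv : v ∈ JJ P Q) {R : Sylow 2 G} (hvR : v ∈ R) {x : G} (hx : x ∈ DD P Q ⊓ KK R) :
    ∃ a ∈ DD P Q ⊓ KK P, ∃ b ∈ DD P Q ⊓ KK Q, x = a * b := by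
  obtain ⟨hRP, hRQ, hfix, hcard⟩ := DD_fixed S hPQ hv hvR
  obtain ⟨hvQP, hvD, hvK, hvE⟩ := JJ_basic S hv
  have hvv : v * v = 1 := AA_mul_self hv.1
  have hmem : ∀ k : G, k ∈ DD P Q ⊓ KK P → k * (v * k * v⁻¹) ∈ DD P Q ⊓ KK R := by
    intro k hk
    have hb := hvE k hk
    have hxD : k * (v * k * v⁻¹) ∈ DD P Q :=
      (DD P Q).mul_mem (Subgroup.mem_inf.mp hk).1 (Subgroup.mem_inf.mp hb).1
    refine Subgroup.mem_inf.mpr ⟨hxD, ?_⟩
    rw [← hfix _ hxD]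
    have hc := AA_comm S hA hPQ hk hb
    have : v * (k * (v * k * v⁻¹)) * v⁻¹ = (v * k * v⁻¹) * ((v * v) * k * (v * v)⁻¹) := by group
    rw [this, hvv, one_mul, inv_one, mul_one, hc]
  let φ : (DD P Q ⊓ KK P : Subgroup G) → (DD P Q ⊓ KK R : Subgroup G) := fun k =>
    ⟨(k : G) * (v * k * v⁻¹), hmem k k.2⟩
  have hinj : Function.Injective φ := by
    intro k k' h
    have h' : (k : G) * (v * k * v⁻¹) = (k' : G) * (v * k' * v⁻¹) := congrArg Subtype.val h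
    exact Subtype.ext (AA_prod_inj S hA hPQ (Subgroup.mem_inf.mp k.2).2 (Subgroup.mem_inf.mp k'.2).2
      (Subgroup.mem_inf.mp (hvE k k.2)).2 (Subgroup.mem_inf.mp (hvE k' k'.2)).2 h').1
  have hbij : Function.Bijective φ := hinj.bijective_of_nat_card_le (le_of_eq hcard)
  obtain ⟨k, hk⟩ := hbij.2 ⟨x, hx⟩
  refine ⟨k, k.2, v * k * v⁻¹, hvE k k.2, ?_⟩
  exact (congrArg Subtype.val hk).symm

/-- (A2) the main counting argument. -/
theorem DD_inf_KK (S : Setup G) (hA : ∀ P : Sylow 2 G, CaseA P) {P Q : Sylow 2 G} (hPQ : P ≠ Q) :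
    DD P Q ⊓ KK P = ⊥ := by
  classical
  -- a Sylow 2-subgroup for each involution of `JJ P Q`
  have hex : ∀ v : JJ P Q, ∃ R : Sylow 2 G, (v : G) ∈ R := fun v => exists_sylow_of_inv v.2.1
  choose Rv hRv using hex
  let Rf : Option (Option (JJ P Q)) → Sylow 2 G := fun i =>
    match i with
    | none => P
    | some none => Q
    | some (some v) => Rv v
  have hRinj : ∀ i j, i ≠ j → Rf i ≠ Rf j := by
    intro i j hij
    rcases i with _ | _ | v <;> rcases j with _ | _ | w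
    · exact absurd rfl hij
    · exact hPQ
    · exact (DD_fixed S hPQ w.2 (hRv w)).1.symm
    · exact hPQ.symm
    · exact absurd rfl hij
    · exact (DD_fixed S hPQ w.2 (hRv w)).2.1.symm
    · exact (DD_fixed S hPQ v.2 (hRv v)).1
    · exact (DD_fixed S hPQ v.2 (hRv v)).2.1
    · intro h
      apply hij
      have h' : Rv v = Rv w := h
      have : (v : G) = w := JJ_sylow_inj S hPQ v.2 w.2 (hRv v) (h' ▸ hRv w)
      rw [Subtype.ext this]
  let Sf : Option (Option (JJ P Q)) → Subgroup G := fun i => DD P Q ⊓ KK (Rf i)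
  let T : Set G := Set.range
    (fun p : (DD P Q ⊓ KK P : Subgroup G) × (DD P Q ⊓ KK Q : Subgroup G) => (p.1 : G) * (p.2 : G))
  have hT1 : (1 : G) ∈ T := ⟨(1, 1), by simp⟩
  have hcardS : ∀ i, Nat.card (Sf i) = Nat.card (DD P Q ⊓ KK P : Subgroup G) := by
    intro i
    rcases i with _ | _ | v
    · rfl
    · exact AA_card_EQ S hPQ
    · exact (DD_fixed S hPQ v.2 (hRv v)).2.2.2
  have hti : ∀ i j, i ≠ j → Sf i ⊓ Sf j = ⊥ := by
    intro i j hij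
    rw [eq_bot_iff]
    intro x hx
    rw [Subgroup.mem_inf] at hx
    have h1 : x ∈ KK (Rf i) := (Subgroup.mem_inf.mp hx.1).2
    have h2 : x ∈ KK (Rf j) := (Subgroup.mem_inf.mp hx.2).2
    have : x ∈ KK (Rf i) ⊓ KK (Rf j) := Subgroup.mem_inf.mpr ⟨h1, h2⟩
    rwa [KK_ti S hA (hRinj i j hij)] at this
  have hST : ∀ i, ((Sf i : Subgroup G) : Set G) ⊆ T := by
    intro i x hx
    rcases i with _ | _ | v
    · exact ⟨(⟨x, hx⟩, 1), by simp⟩
    · exact ⟨(1, ⟨x, hx⟩), by simp⟩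
    · obtain ⟨a, ha, b, hb, hab⟩ := AA_fixed_sub S hA hPQ v.2 (hRv v) hx
      exact ⟨(⟨a, ha⟩, ⟨b, hb⟩), hab.symm⟩
  haveI : Fintype (JJ P Q) := Fintype.ofFinite _
  have hcount := card_union_ti Sf T (Set.toFinite T) hT1 _ hcardS hti hST
  have hι : Fintype.card (Option (Option (JJ P Q))) = ff P + 2 := by
    rw [Fintype.card_option, Fintype.card_option, ← Nat.card_eq_fintype_card, card_JJ S hPQ]
  rw [hι] at hcount
  -- `#T ≤ d²`
  have hTle : Nat.card T ≤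
      Nat.card (DD P Q ⊓ KK P : Subgroup G) * Nat.card (DD P Q ⊓ KK P : Subgroup G) := by
    have h := Finite.card_range_le
      (fun p : (DD P Q ⊓ KK P : Subgroup G) × (DD P Q ⊓ KK Q : Subgroup G) => (p.1 : G) * (p.2 : G))
    rw [Nat.card_prod, AA_card_EQ S hPQ] at h
    exact h
  -- `d² ≤ #D = f d`
  have hdd : Nat.card (DD P Q ⊓ KK P : Subgroup G) * Nat.card (DD P Q ⊓ KK P : Subgroup G)
      ≤ ff P * Nat.card (DD P Q ⊓ KK P : Subgroup G) := by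
    rw [← (DD_trans S hPQ).2.2.2]
    have h := Nat.card_le_card_of_injective
      (fun p : (DD P Q ⊓ KK P : Subgroup G) × (DD P Q ⊓ KK Q : Subgroup G) =>
        (⟨(p.1 : G) * (p.2 : G),
          (DD P Q).mul_mem (Subgroup.mem_inf.mp p.1.2).1 (Subgroup.mem_inf.mp p.2.2).1⟩ : DD P Q))
      (by
        intro p q hpq
        have h' : (p.1 : G) * (p.2 : G) = (q.1 : G) * (q.2 : G) := congrArg Subtype.val hpq
        have := AA_prod_inj S hA hPQ (Subgroup.mem_inf.mp p.1.2).2 (Subgroup.mem_inf.mp q.1.2).2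
          (Subgroup.mem_inf.mp p.2.2).2 (Subgroup.mem_inf.mp q.2.2).2 h'
        exact Prod.ext (Subtype.ext this.1) (Subtype.ext this.2))
    rw [Nat.card_prod, AA_card_EQ S hPQ] at h
    exact h
  have hdpos : 0 < Nat.card (DD P Q ⊓ KK P : Subgroup G) := Nat.card_pos
  apply Subgroup.eq_bot_of_card_eq
  generalize Nat.card (DD P Q ⊓ KK P : Subgroup G) = d at *
  generalize ff P = f at *
  by_contra hd1
  obtain ⟨e, rfl⟩ : ∃ e, d = e + 2 := ⟨d - 2, by omega⟩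
  have hef : e + 2 ≤ f := Nat.le_of_mul_le_mul_right hdd (by omega)
  have h3 : 1 + (f + 2) * (e + 2 - 1) ≤ (e + 2) * (e + 2) := le_trans hcount hTle
  have h4 : e + 2 - 1 = e + 1 := by omega
  rw [h4] at h3
  nlinarith

/-- (A3) consequences. -/
theorem DD_structure (S : Setup G) (hA : ∀ P : Sylow 2 G, CaseA P) {P Q : Sylow 2 G} (hPQ : P ≠ Q) :
    Nat.card (DD P Q) = ff P ∧ DD P Q ⊓ HH P = ⊥ ∧
    (∀ v ∈ JJ P Q, ∀ x ∈ DD P Q, v * x * v⁻¹ = x⁻¹) ∧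
    (∀ x ∈ DD P Q, ∀ y ∈ DD P Q, x * y = y * x) := by
  have hE := DD_inf_KK S hA hPQ
  obtain ⟨_, _, h3, h4⟩ := DD_trans S hPQ
  have hinv : ∀ v ∈ JJ P Q, (∀ x ∈ DD P Q, v * x * v⁻¹ = x⁻¹) ∧
      (∀ x ∈ DD P Q, ∀ y ∈ DD P Q, x * y = y * x) := by
    intro v hv
    obtain ⟨R, hvR⟩ := exists_sylow_of_inv (G := G) hv.1
    obtain ⟨_, _, hfix, hcard⟩ := DD_fixed S hPQ hv hvR
    have hER : DD P Q ⊓ KK R = ⊥ := by
      apply Subgroup.eq_bot_of_card_eq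
      rw [hcard, hE, Subgroup.card_bot]
    apply inverts_of_fix_trivial (DD P Q) (DD_odd S hPQ) v hv.1 (JJ_basic S hv).2.1
    intro x hx hxv
    have : x ∈ DD P Q ⊓ KK R := Subgroup.mem_inf.mpr ⟨hx, (hfix x hx).mp hxv⟩
    rw [hER, Subgroup.mem_bot] at this
    exact this
  refine ⟨?_, ?_, fun v hv => (hinv v hv).1, ?_⟩
  · rw [h4, hE, Subgroup.card_bot, mul_one]
  · rw [h3, hE]
  · obtain ⟨v, hv⟩ := JJ_nonempty S hPQ
    exact (hinv v hv).2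

end Cfsg.Agent.Helper21.CA
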