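import Cfsg.Agent.Helper21.CA.AA

/-!
# S2202 piece AB : Case A: nonidentity elements of `D(P,Q)` fix only `P, Q`; `C(P)` is regular on the other Sylows.
Uses AA, II, IA, IB.
-/

set_option autoImplicit false
open scoped Pointwise

namespace Cfsg.Agent.Helper21.CA

universe u
variable {G : Type u} [Group G] [Finite G]

omit [Finite G] in
/-- membership in `DD P Q`. -/
theorem AB_mem_DD {P Q : Sylow 2 G} {x : G} : x ∈ DD P Q ↔ x ∈ NN P ∧ x ∈ NN Q :=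
  Subgroup.mem_inf

/-- elements of `D(P,Q)` have odd order. -/
theorem AB_odd_orderOf (S : Setup G) {P Q : Sylow 2 G} (hPQ : P ≠ Q) {y : G} (hy : y ∈ DD P Q) :
    Odd (orderOf y) := by
  have hodd := DD_odd S hPQ
  have hdvd : orderOf y ∣ Nat.card (DD P Q) := by
    have h1 : orderOf (⟨y, hy⟩ : DD P Q) ∣ Nat.card (DD P Q) := orderOf_dvd_natCard _
    have h2 : orderOf (⟨y, hy⟩ : DD P Q) = orderOf y := by
      rw [← Subgroup.orderOf_coe]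
    rwa [h2] at h1
  exact Odd.of_dvd_nat hodd hdvd

/-- (A4-0) no element of `N(P)` inverts `1 ≠ y ∈ D(P,Q)`: write `g = d h`, `d ∈ D = D(P,Q)`, `h ∈ C(P)` (II5). `D` is abelian
(A3), so `g y g⁻¹ = y⁻¹` gives `h y h⁻¹ = y⁻¹`, `h (y h⁻¹ y⁻¹) = y⁻²`; the left side is in `C(P)` (normal in `N(P)`), the right
side in `D`; `D ∩ C(P) = 1` (A3) gives `y² = 1`, and `y` has odd order. -/
theorem not_inverted_in_NN (S : Setup G) (hA : ∀ P : Sylow 2 G, CaseA P) {P Q : Sylow 2 G}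
    (hPQ : P ≠ Q) {y g : G} (hy : y ∈ DD P Q) (hy1 : y ≠ 1) (hg : g ∈ NN P) :
    g * y * g⁻¹ ≠ y⁻¹ := by
  intro hinv
  obtain ⟨-, hgen, -, -⟩ := DD_trans S hPQ
  obtain ⟨d, hd, h, hh, rfl⟩ := hgen g hg
  obtain ⟨-, hDH, -, hcomm⟩ := DD_structure S hA hPQ
  obtain ⟨-, -, -, -, -, hnorm⟩ := basic_le P
  have hyN : y ∈ NN P := (AB_mem_DD.1 hy).1
  have h1 : h * y * h⁻¹ = y⁻¹ := by
    have h2 : h * y * h⁻¹ = d⁻¹ * (d * h * y * (d * h)⁻¹) * d := by group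
    rw [h2, hinv]
    have h3 := hcomm d hd y⁻¹ (inv_mem hy)
    rw [mul_assoc, ← h3, ← mul_assoc, inv_mul_cancel, one_mul]
  have h4 : y⁻¹ * y⁻¹ ∈ DD P Q ⊓ HH P := by
    refine Subgroup.mem_inf.2 ⟨mul_mem (inv_mem hy) (inv_mem hy), ?_⟩
    have h5 : y⁻¹ * y⁻¹ = h * (y * h⁻¹ * y⁻¹) := by
      rw [← h1]; group
    rw [h5]
    exact mul_mem hh (hnorm y hyN h⁻¹ (inv_mem hh))
  rw [hDH, Subgroup.mem_bot] at h4
  have h6 : y ^ 2 = 1 := by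
    have : (y ^ 2)⁻¹ = 1 := by rw [← h4]; group
    exact inv_eq_one.1 this
  have h7 : orderOf y ∣ 2 := orderOf_dvd_of_pow_eq_one h6
  have h8 : Odd (orderOf y) := AB_odd_orderOf S hPQ hy
  have h9 : orderOf y = 1 := by
    rcases (Nat.dvd_prime Nat.prime_two).1 h7 with h | h
    · exact h
    · rw [h] at h8; exact absurd h8 (by decide)
  exact hy1 (orderOf_eq_one_iff.1 h9)

/-- (A4) a nonidentity element `y` of `D(P,Q)` normalizes no third Sylow 2-subgroup `R`: otherwise `y` lies in `D(P,Q)`,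
`D(Q,R)`, `D(R,P)`; take `v₁ ∈ J(P,Q)`, `v₂ ∈ J(Q,R)`, `v₃ ∈ J(R,P)` (`JJ_nonempty`); each inverts `y` (A3), so `g = v₃ v₂ v₁`
inverts `y`, and `g • P = P`: contradiction with (A4-0). -/
theorem normalizes_two (S : Setup G) (hA : ∀ P : Sylow 2 G, CaseA P) {P Q R : Sylow 2 G}
    (hPQ : P ≠ Q) {y : G} (hy : y ∈ DD P Q) (hy1 : y ≠ 1) (hR : y ∈ NN R) : R = P ∨ R = Q := by
  by_contra hcon
  obtain ⟨hRP, hRQ⟩ := not_or.1 hcon
  have hyP : y ∈ NN P := (AB_mem_DD.1 hy).1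
  have hyQ : y ∈ NN Q := (AB_mem_DD.1 hy).2
  have hQR : Q ≠ R := fun h => hRQ h.symm
  obtain ⟨v₁, hv₁⟩ := JJ_nonempty S hPQ
  obtain ⟨v₂, hv₂⟩ := JJ_nonempty S hQR
  obtain ⟨v₃, hv₃⟩ := JJ_nonempty S hRP
  have i₁ := (DD_structure S hA hPQ).2.2.1 v₁ hv₁ y hy
  have i₂ := (DD_structure S hA hQR).2.2.1 v₂ hv₂ y (AB_mem_DD.2 ⟨hyQ, hR⟩)
  have i₃ := (DD_structure S hA hRP).2.2.1 v₃ hv₃ y (AB_mem_DD.2 ⟨hR, hyP⟩)
  have hgP : (v₃ * v₂ * v₁) • P = P := by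
    rw [mul_smul, mul_smul, hv₁.2, hv₂.2, hv₃.2]
  have hg : v₃ * v₂ * v₁ ∈ NN P := ((basic_le P).2.2.2.1 _).1 hgP
  refine not_inverted_in_NN S hA hPQ hy hy1 hg ?_
  have e1 : v₃ * v₂ * v₁ * y * (v₃ * v₂ * v₁)⁻¹ = v₃ * (v₂ * (v₁ * y * v₁⁻¹) * v₂⁻¹) * v₃⁻¹ := by
    group
  rw [e1, i₁]
  have e2 : v₂ * y⁻¹ * v₂⁻¹ = (v₂ * y * v₂⁻¹)⁻¹ := by group
  rw [e2, i₂, inv_inv, i₃]

/-- (A5a), strong form: for `Q ≠ P`, every `x ∈ N(P) \ C(P)` normalizes `h' • Q` for some `h' ∈ C(P)`. -/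
theorem AB_exists_other_fixed_strong (S : Setup G) (hA : ∀ P : Sylow 2 G, CaseA P) {P Q : Sylow 2 G}
    (hPQ : P ≠ Q) {x : G} (hx : x ∈ NN P) (hxH : x ∉ HH P) :
    ∃ h' ∈ HH P, h' • Q ≠ P ∧ x ∈ NN (h' • Q) := by
  obtain ⟨-, hgen, -, -⟩ := DD_trans S hPQ
  obtain ⟨d, hd, h, hh, rfl⟩ := hgen x hx
  obtain ⟨-, hDH, -, -⟩ := DD_structure S hA hPQ
  obtain ⟨-, hHN, -, hfix, -, hnorm⟩ := basic_le P
  have hdP : d ∈ NN P := (AB_mem_DD.1 hd).1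
  have hdQ : d ∈ NN Q := (AB_mem_DD.1 hd).2
  have hd1 : d ≠ 1 := by
    rintro rfl
    exact hxH (by simpa using hh)
  -- moving `Q` by an element of `C(P)` never gives `P`
  have hne : ∀ c ∈ HH P, c • Q ≠ P := by
    intro c hc hcQ
    have hcP : c • P = P := (hfix c).2 (hHN hc)
    have : c • Q = c • P := by rw [hcQ, hcP]
    exact hPQ (smul_left_cancel c this).symm
  -- the map `φ`
  let φ : HH P → HH P := fun a =>
    ⟨d⁻¹ * (a : G) * d * (a : G)⁻¹, by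
      have h1 : d⁻¹ * (a : G) * d ∈ HH P := by
        have := hnorm d⁻¹ (inv_mem hdP) (a : G) a.2
        simpa using this
      exact mul_mem h1 (inv_mem a.2)⟩
  have hφ : Function.Injective φ := by
    intro a b hab
    have hab' : d⁻¹ * (a : G) * d * (a : G)⁻¹ = d⁻¹ * (b : G) * d * (b : G)⁻¹ :=
      congrArg Subtype.val hab
    -- `c = b⁻¹ a` commutes with `d`
    have hc : ((b : G)⁻¹ * (a : G)) * d * ((b : G)⁻¹ * (a : G))⁻¹ = d := by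
      have e1 : ((b : G)⁻¹ * (a : G)) * d * ((b : G)⁻¹ * (a : G))⁻¹
          = (b : G)⁻¹ * d * (d⁻¹ * (a : G) * d * (a : G)⁻¹) * (b : G) := by group
      rw [e1, hab']; group
    have hcH : (b : G)⁻¹ * (a : G) ∈ HH P := mul_mem (inv_mem b.2) a.2
    have hdcQ : d ∈ NN (((b : G)⁻¹ * (a : G)) • Q) := by
      have := ((conj_mem_iff Q ((b : G)⁻¹ * (a : G)) d).2.2.1).2 hdQ
      rwa [hc] at this
    have hcQ : ((b : G)⁻¹ * (a : G)) • Q = Q := by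
      rcases normalizes_two S hA hPQ hd hd1 hdcQ with h | h
      · exact absurd h (hne _ hcH)
      · exact h
    have hcD : (b : G)⁻¹ * (a : G) ∈ DD P Q ⊓ HH P := by
      refine Subgroup.mem_inf.2 ⟨AB_mem_DD.2 ⟨hHN hcH, ?_⟩, hcH⟩
      exact ((basic_le Q).2.2.2.1 _).1 hcQ
    rw [hDH, Subgroup.mem_bot] at hcD
    have : (a : G) = (b : G) := by
      have := congrArg (fun z => (b : G) * z) hcD
      simpa using this
    exact Subtype.ext this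
  have hsurj : Function.Surjective φ := Finite.surjective_of_injective hφ
  obtain ⟨a, ha⟩ := hsurj ⟨h, hh⟩
  have ha' : d⁻¹ * (a : G) * d * (a : G)⁻¹ = h := congrArg Subtype.val ha
  refine ⟨(a : G), a.2, hne _ a.2, ?_⟩
  have e : d * h = (a : G) * d * (a : G)⁻¹ := by
    rw [← ha']; group
  rw [e]
  exact ((conj_mem_iff Q (a : G) d).2.2.1).2 hdQ

/-- (A5a) every `x ∈ N(P) \ C(P)` normalizes another Sylow 2-subgroup. Fix `Q ≠ P`, `D = D(P,Q)`; `x = d h` with `d ∈ D`, `h ∈ C(P)`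
(II5), `d ≠ 1`. The map `φ : C(P) → C(P)`, `h' ↦ d⁻¹ h' d h'⁻¹` is a homomorphism (`C(P)` abelian, normalized by `d`) with kernel
`C_{C(P)}(d)`; if `h'` commutes with `d` then `d ∈ D(P,Q) ∩ D(P, h' • Q)`, so `h' • Q = Q` by (A4) and `h' ∈ D ∩ C(P) = 1`. So `φ` is
injective, hence onto: `h = φ h'`, i.e. `x = d h = h' d h'⁻¹ ∈ N(h' • Q)`, and `h' • Q ≠ P`. -/
theorem exists_other_fixed (S : Setup G) (hA : ∀ P : Sylow 2 G, CaseA P) (P : Sylow 2 G) {x : G}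
    (hx : x ∈ NN P) (hxH : x ∉ HH P) : ∃ Q : Sylow 2 G, Q ≠ P ∧ x ∈ NN Q := by
  obtain ⟨Q, hQ⟩ := exists_ne_sylow S P
  obtain ⟨h', -, hne, hxN⟩ := AB_exists_other_fixed_strong S hA (Ne.symm hQ) hx hxH
  exact ⟨h' • Q, hne, hxN⟩

/-- (A5') uniqueness, from (A4). -/
theorem other_fixed_unique (S : Setup G) (hA : ∀ P : Sylow 2 G, CaseA P) (P : Sylow 2 G) {x : G}
    (hx : x ∈ NN P) (hxH : x ∉ HH P) {Q Q' : Sylow 2 G} (hQ : Q ≠ P) (hxQ : x ∈ NN Q)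
    (hQ' : Q' ≠ P) (hxQ' : x ∈ NN Q') : Q = Q' := by
  have hx1 : x ≠ 1 := by
    rintro rfl
    exact hxH (one_mem _)
  rcases normalizes_two S hA (Ne.symm hQ) (AB_mem_DD.2 ⟨hx, hxQ⟩) hx1 hxQ' with h | h
  · exact absurd h hQ'
  · exact h.symm

/-- (A5) `C(P)` acts regularly on the Sylow 2-subgroups other than `P`. Semiregular: `D(P,Q) ∩ C(P) = 1` (A3).
Transitive: given `Q, R ≠ P` pick `1 ≠ x ∈ D(P,R)` (`#D = f ≥ 3`); `x ∉ C(P)`; by the proof of (A5a) `x ∈ N(h' • Q)` with `h' ∈ C(P)`;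
by (A4) `h' • Q = R`. (State and use (A5a) in the stronger form "`∃ h' ∈ HH P, x ∈ NN (h' • Q)`" if convenient.) -/
theorem HH_regular (S : Setup G) (hA : ∀ P : Sylow 2 G, CaseA P) (P : Sylow 2 G) :
    (∀ Q : Sylow 2 G, Q ≠ P → ∀ h ∈ HH P, h • Q = Q → h = 1) ∧
    (∀ Q R : Sylow 2 G, Q ≠ P → R ≠ P → ∃ h ∈ HH P, h • Q = R) := by
  obtain ⟨-, hHN, -, -, -, -⟩ := basic_le P
  refine ⟨?_, ?_⟩
  · intro Q hQ h hh hhQ
    obtain ⟨-, hDH, -, -⟩ := DD_structure S hA (Ne.symm hQ)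
    have hD : h ∈ DD P Q ⊓ HH P := by
      refine Subgroup.mem_inf.2 ⟨AB_mem_DD.2 ⟨hHN hh, ?_⟩, hh⟩
      exact ((basic_le Q).2.2.2.1 _).1 hhQ
    rw [hDH, Subgroup.mem_bot] at hD
    exact hD
  · intro Q R hQ hR
    obtain ⟨hcard, hDH, -, -⟩ := DD_structure S hA (Ne.symm hR)
    have h3 : 3 ≤ ff P := (three_le_ff S P).1
    have hlt : 1 < Nat.card (DD P R) := by omega
    have hnt : Nontrivial (DD P R) := Finite.one_lt_card_iff_nontrivial.1 hlt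
    obtain ⟨⟨x, hxD⟩, hx1⟩ := exists_ne (1 : DD P R)
    have hx1' : x ≠ 1 := by
      intro h
      apply hx1
      exact Subtype.ext h
    have hxN : x ∈ NN P := (AB_mem_DD.1 hxD).1
    have hxH : x ∉ HH P := by
      intro hxH
      have : x ∈ DD P R ⊓ HH P := Subgroup.mem_inf.2 ⟨hxD, hxH⟩
      rw [hDH, Subgroup.mem_bot] at this
      exact hx1' this
    obtain ⟨h', hh', hne, hxQ⟩ := AB_exists_other_fixed_strong S hA (Ne.symm hQ) hxN hxH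
    refine ⟨h', hh', ?_⟩
    rcases normalizes_two S hA (Ne.symm hR) hxD hx1' hxQ with h | h
    · exact absurd h hne
    · exact h

end Cfsg.Agent.Helper21.CA
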