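import Cfsg.Agent.Helper21.CA.AB
import Cfsg.Prelude.Def_LieExceptional

/-!
# S2202 piece AC : Case A, `G = ⟨involutions⟩`, `Z(G) = 1`: `G` is a Zassenhaus group on `Sylow 2 G`. Uses AB, AA, II, IA, IB.
`Cfsg.IsZassenhausGroup G Ω := FaithfulSMul G Ω ∧ MulAction.IsMultiplyPretransitive G Ω 2 ∧ (no g ≠ 1 fixes 3 points) ∧
(some g ≠ 1 fixes 2 points) ∧ ∀ N : Subgroup G, N.Normal → MulAction.IsPretransitive N Ω → ∃ a, MulAction.stabilizer N a ≠ ⊥`
(see `Cfsg/Prelude/Def_LieExceptional.lean`; `Cfsg/Agent/Helper95/Zass*.lean` and `Cfsg/Agent/S0885.lean` work with this definition).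
-/

set_option autoImplicit false
open scoped Pointwise

namespace Cfsg.Agent.Helper21.CA

universe u
variable {G : Type u} [Group G] [Finite G]

/-- an element of a Sylow 2-subgroup fixes it. -/
theorem AC_smul_of_mem (P : Sylow 2 G) {x : G} (hx : x ∈ P) : x • P = P :=
  ((basic_le P).2.2.2.1 x).2 ((basic_le P).2.2.1 hx)

/-- an involution of `P` fixes no other Sylow 2-subgroup. -/
theorem AC_inv_fix (hCA : CA2 G) (P Q : Sylow 2 G) {t : G} (ht : orderOf t = 2) (htP : t ∈ P)
    (htQ : t • Q = Q) : Q = P := by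
  have h1 : t ∈ NN Q := ((basic_le Q).2.2.2.1 t).1 htQ
  have h2 : t ∈ Q := inv_mem_of_mem_NN Q ht h1
  exact sylow_eq_of_inv hCA Q P ht h2 htP

/-- a nonidentity element of a Sylow 2-subgroup has a power of order 2. -/
theorem AC_exists_pow_inv (P : Sylow 2 G) {y : G} (hy : y ∈ P) (hy1 : y ≠ 1) :
    ∃ n : ℕ, orderOf (y ^ n) = 2 := by
  have : Fact (Nat.Prime 2) := ⟨Nat.prime_two⟩
  have h1 : (⟨y, hy⟩ : ↥(P : Subgroup G)) ≠ 1 := by
    intro h
    exact hy1 (congrArg Subtype.val h)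
  have h2 : 2 ∣ orderOf (⟨y, hy⟩ : ↥(P : Subgroup G)) := P.isPGroup'.dvd_orderOf h1
  rw [Subgroup.orderOf_mk] at h2
  exact ⟨orderOf y / 2, orderOf_pow_orderOf_div (orderOf_pos y).ne' h2⟩

omit [Finite G] in
/-- powers of an element fixing `Q` fix `Q`. -/
theorem AC_pow_smul {y : G} {Q : Sylow 2 G} (h : y • Q = Q) (n : ℕ) : (y ^ n) • Q = Q := by
  induction n with
  | zero => rw [pow_zero, one_smul]
  | succ m ih => rw [pow_succ, mul_smul, h, ih]

/-- the kernel of the action on the Sylow 2-subgroups is trivial. -/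
theorem AC_kernel (S : Setup G) (hgen : Subgroup.closure {t : G | orderOf t = 2} = ⊤)
    (hZ : Subgroup.center G = ⊥) {g : G} (hg : ∀ P : Sylow 2 G, g • P = P) : g = 1 := by
  have hginv : ∀ P : Sylow 2 G, g⁻¹ • P = P := by
    intro P
    conv_lhs => rw [← hg P]
    exact inv_smul_smul g P
  have hcomm : ∀ t : G, orderOf t = 2 → g * t * g⁻¹ * t⁻¹ = 1 := by
    intro t ht
    obtain ⟨P, htP⟩ := exists_sylow_of_inv ht
    by_contra hy1
    have hyP : g * t * g⁻¹ * t⁻¹ ∈ P := by
      have h1 : g * t * g⁻¹ ∈ g • P := ((conj_mem_iff P g t).2.2.2).2 htP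
      rw [hg P] at h1
      exact (P : Subgroup G).mul_mem h1 ((P : Subgroup G).inv_mem htP)
    have hyfix : ∀ Q : Sylow 2 G, (g * t * g⁻¹ * t⁻¹) • Q = Q := by
      intro Q
      rw [mul_smul, mul_smul, mul_smul, hginv, smul_inv_smul, hg]
    obtain ⟨n, hn⟩ := AC_exists_pow_inv P hyP hy1
    have hsP : (g * t * g⁻¹ * t⁻¹) ^ n ∈ P := (P : Subgroup G).pow_mem hyP n
    have hsfix : ∀ Q : Sylow 2 G, ((g * t * g⁻¹ * t⁻¹) ^ n) • Q = Q := by
      intro Q
      exact AC_pow_smul (hyfix Q) n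
    obtain ⟨Q, hQ⟩ := exists_ne_sylow S P
    exact hQ (AC_inv_fix S.ca P Q hn hsP (hsfix Q))
  have hcen : g ∈ Subgroup.center G := by
    rw [Subgroup.mem_center_iff]
    have hle : Subgroup.closure {t : G | orderOf t = 2} ≤ Subgroup.centralizer ({g} : Set G) := by
      rw [Subgroup.closure_le]
      intro t ht
      rw [SetLike.mem_coe, Subgroup.mem_centralizer_iff]
      intro h hh
      rw [Set.mem_singleton_iff] at hh
      subst hh
      have := hcomm t ht
      have h2 : h * t * h⁻¹ = t := by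
        rw [mul_inv_eq_one] at this
        exact this
      exact mul_inv_eq_iff_eq_mul.1 h2
    intro x
    have hx : x ∈ Subgroup.centralizer ({g} : Set G) := hle (by rw [hgen]; trivial)
    rw [Subgroup.mem_centralizer_iff] at hx
    exact (hx g rfl).symm
  rw [hZ] at hcen
  exact Subgroup.mem_bot.1 hcen

/-- 2-transitivity. -/
theorem AC_two_trans (S : Setup G) (hA : ∀ P : Sylow 2 G, CaseA P) {a b c d : Sylow 2 G}
    (hab : a ≠ b) (hcd : c ≠ d) : ∃ g : G, g • a = c ∧ g • b = d := by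
  obtain ⟨g₁, -, hg₁⟩ := sylow_trans S a c
  have hne : g₁ • b ≠ c := by
    intro h
    rw [← hg₁] at h
    exact hab (smul_left_cancel g₁ h).symm
  obtain ⟨h, hh, hhb⟩ := (HH_regular S hA c).2 (g₁ • b) d hne hcd.symm
  have hhc : h • c = c := ((basic_le c).2.2.2.1 h).2 ((basic_le c).2.1 hh)
  refine ⟨h * g₁, ?_, ?_⟩
  · rw [mul_smul, hg₁, hhc]
  · rw [mul_smul, hhb]

/-- no regular normal subgroup. -/
theorem AC_no_regular (S : Setup G) (N : Subgroup G) (hN : N.Normal)
    (htr : MulAction.IsPretransitive N (Sylow 2 G))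
    (hreg : ∀ n ∈ N, ∀ Q : Sylow 2 G, n • Q = Q → n = 1) : False := by
  -- `N` has no involution
  have hnoinv : ∀ s ∈ N, orderOf s ≠ 2 := by
    intro s hs h2
    obtain ⟨R, hsR⟩ := exists_sylow_of_inv h2
    have := hreg s hs R (AC_smul_of_mem R hsR)
    rw [this, orderOf_one] at h2
    exact absurd h2 (by norm_num)
  have hodd : Odd (Nat.card N) := by
    by_contra hne
    rw [Nat.not_odd_iff_even] at hne
    have : Fact (Nat.Prime 2) := ⟨Nat.prime_two⟩
    obtain ⟨x, hx⟩ := exists_prime_orderOf_dvd_card' (G := ↥N) 2 hne.two_dvd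
    refine hnoinv (x : G) x.2 ?_
    rw [Subgroup.orderOf_coe]
    exact hx
  obtain ⟨P⟩ : Nonempty (Sylow 2 G) := inferInstance
  obtain ⟨t, t', ht, htP, ht', ht'P, -, htt', htt'P⟩ := exists_two_inv S P
  have hfix : ∀ s : G, orderOf s = 2 → s ∈ P → ∀ x ∈ N, s * x * s⁻¹ = x → x = 1 := by
    intro s hs hsP x hx hsx
    have hcomm : s * x = x * s := mul_inv_eq_iff_eq_mul.1 hsx
    have h1 : s • (x • P) = x • P := by
      rw [← mul_smul, hcomm, mul_smul, AC_smul_of_mem P hsP]
    have h2 : x • P = P := AC_inv_fix S.ca P (x • P) hs hsP h1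
    exact hreg x hx P h2
  have hnorm : ∀ s : G, ∀ x ∈ N, s * x * s⁻¹ ∈ N := fun s x hx => hN.conj_mem x hx s
  have hinv : ∀ s : G, orderOf s = 2 → s ∈ P → ∀ x ∈ N, s * x * s⁻¹ = x⁻¹ := by
    intro s hs hsP
    exact (inverts_of_fix_trivial N hodd s hs (hnorm s) (hfix s hs hsP)).1
  have hall : ∀ x ∈ N, x = 1 := by
    intro x hx
    apply hfix (t * t') htt' htt'P x hx
    have h1 := hinv t' ht' ht'P x hx
    have h2 := hinv t ht htP x⁻¹ (N.inv_mem hx)
    calc t * t' * x * (t * t')⁻¹ = t * (t' * x * t'⁻¹) * t⁻¹ := by group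
      _ = t * x⁻¹ * t⁻¹ := by rw [h1]
      _ = x⁻¹⁻¹ := h2
      _ = x := inv_inv x
  obtain ⟨Q, hQ⟩ := exists_ne_sylow S P
  obtain ⟨n, hn⟩ := MulAction.exists_smul_eq (M := ↥N) P Q
  have hn1 : (n : G) = 1 := hall n n.2
  have : (n : G) • P = Q := hn
  rw [hn1, one_smul] at this
  exact hQ this.symm

/-- (A6) Faithful: if `g` normalizes every Sylow 2-subgroup, then for an involution `t ∈ P`, `y = g t g⁻¹ t⁻¹` lies in `P` and
normalizes every Sylow; a nonidentity element of `P` has a power which is an involution `s ∈ P`, and `s ∈ N(Q)` forces `s ∈ Q`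
(I7), `P = Q` (I5); so `y = 1`: `g` centralizes every involution, hence `G` (`hgen`), so `g ∈ Z(G) = 1`.
2-transitive: `G` is transitive on `Sylow 2 G` and `C(P) ≤ N(P)` is transitive on the others (A5).
Three points: (A4). Two points: `#D(P,Q) = f ≥ 3` (A3). No regular normal subgroup `N`: `#N = #Sylow 2 G = 1 + #C(P)` would be odd
(`#C(P)` even), and an involution `t ∈ P` fixes only the point `P`; via `n ↦ n • P` the action of `t` on the points corresponds to
conjugation on `N`, so `C_N(t) = 1` and `t` inverts `N` (G2); the same holds for `t'` and `t t'` (`exists_two_inv`), so `N` has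
exponent 2 and odd order: `N = 1`, but there are at least 2 points. -/
theorem zassenhaus (S : Setup G) (hA : ∀ P : Sylow 2 G, CaseA P)
    (hgen : Subgroup.closure {t : G | orderOf t = 2} = ⊤) (hZ : Subgroup.center G = ⊥) :
    Cfsg.IsZassenhausGroup G (Sylow 2 G) := by
  refine ⟨⟨?_⟩, ?_, ?_, ?_, ?_⟩
  · -- faithful
    intro g₁ g₂ h
    have : g₂⁻¹ * g₁ = 1 := by
      apply AC_kernel S hgen hZ
      intro P
      rw [mul_smul, h P, inv_smul_smul]
    exact (inv_mul_eq_one.1 this).symm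
  · -- 2-transitive
    rw [MulAction.is_two_pretransitive_iff]
    intro a b c d hab hcd
    exact AC_two_trans S hA hab hcd
  · -- three points
    intro g a b c hab hbc hac ha hb hc
    by_contra hg1
    have hga : g ∈ NN a := ((basic_le a).2.2.2.1 g).1 ha
    have hgb : g ∈ NN b := ((basic_le b).2.2.2.1 g).1 hb
    have hgc : g ∈ NN c := ((basic_le c).2.2.2.1 g).1 hc
    have hD : g ∈ DD a b := Subgroup.mem_inf.2 ⟨hga, hgb⟩
    rcases normalizes_two S hA hab hD hg1 hgc with h | h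
    · exact hac h.symm
    · exact hbc h.symm
  · -- two points
    obtain ⟨P⟩ : Nonempty (Sylow 2 G) := inferInstance
    obtain ⟨Q, hQ⟩ := exists_ne_sylow S P
    have hcard : Nat.card (DD P Q) = ff P := (DD_structure S hA hQ.symm).1
    have h3 := (three_le_ff S P).1
    have hne : DD P Q ≠ ⊥ := by
      rw [← Subgroup.one_lt_card_iff_ne_bot, hcard]
      omega
    obtain ⟨g, hg, hg1⟩ := (Subgroup.ne_bot_iff_exists_ne_one.1 hne |> fun ⟨x, hx⟩ =>
      (⟨(x : G), x.2, fun h => hx (Subtype.ext h)⟩ : ∃ g : G, g ∈ DD P Q ∧ g ≠ 1))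
    have hg' := Subgroup.mem_inf.1 hg
    exact ⟨g, hg1, P, Q, hQ.symm, ((basic_le P).2.2.2.1 g).2 hg'.1,
      ((basic_le Q).2.2.2.1 g).2 hg'.2⟩
  · -- no regular normal subgroup
    intro N hN htr
    by_contra hcon
    push Not at hcon
    apply AC_no_regular S N hN htr
    intro n hn Q hnQ
    have hmem : (⟨n, hn⟩ : ↥N) ∈ MulAction.stabilizer (↥N) Q := by
      rw [MulAction.mem_stabilizer_iff]
      exact hnQ
    rw [hcon Q, Subgroup.mem_bot] at hmem
    exact congrArg Subtype.val hmem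

end Cfsg.Agent.Helper21.CA
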