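import Cfsg.Agent.Helper21.CADefs
import Cfsg.Agent.Helper5.PSL2
import Cfsg.Agent.S2507
import Cfsg.Agent.S2503

/-!
# S2202 piece FA : concrete facts on `SL₂(F)`, `F` a finite field of characteristic 2.
Landed material used: `Cfsg.Agent.Helper5.card_SL2` (Helper5/ProjLine.lean),
`Cfsg.Agent.Helper5.two_eq_zero_of_even_card` (Helper5/PSL2.lean), `Cfsg/Agent/S2507.lean`
(`nonScalar_of_ne_one`, `card_centralizer_add : #C(g) + rootCount (trace g) = q + 1` for `g ≠ 1`),
`Cfsg/Agent/S2503.lean` (`upperU : Multiplicative F →* SL₂(F)`, `upperU_injective`),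
`Cfsg/Agent/Helper42/SL2Char2Count.lean` (`rootCount_zero : rootCount 0 = 1`).
-/

set_option autoImplicit false
set_option linter.unusedSectionVars false

namespace Cfsg.Agent.Helper21.CA

/-- transfer of properties from one Sylow `2`-subgroup to all of them -/
theorem FA_sylow_transfer {S : Type*} [Group S] [Finite S] (H : Subgroup S) (hH : IsPGroup 2 H)
    (hidx : ¬ 2 ∣ H.index) (hexp : ∀ x ∈ H, x ^ 2 = 1)
    (hcen : Subgroup.centralizer (H : Set S) = H) (U : Sylow 2 S) :
    Nat.card U = Nat.card H ∧ (∀ x ∈ U, x ^ 2 = 1) ∧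
      Subgroup.centralizer ((U : Subgroup S) : Set S) = (U : Subgroup S) := by
  have : Fact (Nat.Prime 2) := ⟨Nat.prime_two⟩
  obtain ⟨g, hg⟩ := MulAction.exists_smul_eq S (hH.toSylow hidx) U
  have hmem : ∀ x : S, x ∈ (U : Subgroup S) ↔ g⁻¹ * x * g ∈ H := by
    intro x
    rw [← hg, Sylow.coe_subgroup_smul, Subgroup.mem_pointwise_smul_iff_inv_smul_mem,
      IsPGroup.toSylow_coe, MulAut.smul_def, ← map_inv, MulAut.conj_apply, inv_inv]
  have hcomm : ∀ x ∈ H, ∀ y ∈ H, x * y = y * x := by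
    intro x hx y hy
    have hy' : y ∈ Subgroup.centralizer (H : Set S) := by rw [hcen]; exact hy
    exact (Subgroup.mem_centralizer_iff.1 hy') x hx
  refine ⟨?_, ?_, ?_⟩
  · apply Nat.card_congr
    refine ⟨fun x => ⟨g⁻¹ * x.1 * g, (hmem x.1).1 x.2⟩,
      fun y => ⟨g * y.1 * g⁻¹, (hmem _).2 (by
        have : g⁻¹ * (g * y.1 * g⁻¹) * g = y.1 := by group
        rw [this]; exact y.2)⟩, ?_, ?_⟩
    · intro x
      apply Subtype.ext
      show g * (g⁻¹ * x.1 * g) * g⁻¹ = x.1
      group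
    · intro y
      apply Subtype.ext
      show g⁻¹ * (g * y.1 * g⁻¹) * g = y.1
      group
  · intro x hx
    have h1 := hexp _ ((hmem x).1 hx)
    have h2 : g⁻¹ * x * g = g⁻¹ * x * g⁻¹⁻¹ := by rw [inv_inv]
    rw [h2, conj_pow, inv_inv] at h1
    have h3 : x ^ 2 = g * (g⁻¹ * x ^ 2 * g) * g⁻¹ := by group
    rw [h3, h1]
    group
  · ext z
    rw [Subgroup.mem_centralizer_iff]
    constructor
    · intro hz
      rw [hmem]
      rw [← hcen, Subgroup.mem_centralizer_iff]
      intro h hh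
      have hx : g * h * g⁻¹ ∈ (U : Subgroup S) := by
        rw [hmem]
        have : g⁻¹ * (g * h * g⁻¹) * g = h := by group
        rw [this]; exact hh
      have h1 := hz _ hx
      calc h * (g⁻¹ * z * g) = g⁻¹ * ((g * h * g⁻¹) * z) * g := by group
        _ = g⁻¹ * (z * (g * h * g⁻¹)) * g := by rw [h1]
        _ = g⁻¹ * z * g * h := by group
    · intro hz x hx
      have h1 := hcomm _ ((hmem x).1 hx) _ ((hmem z).1 hz)
      calc x * z = g * ((g⁻¹ * x * g) * (g⁻¹ * z * g)) * g⁻¹ := by group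
        _ = g * ((g⁻¹ * z * g) * (g⁻¹ * x * g)) * g⁻¹ := by rw [h1]
        _ = z * x := by group

section F
variable (F : Type*) [Field F] [Fintype F] [CharP F 2]

local notation "SL2F" => Matrix.SpecialLinearGroup (Fin 2) F

/-- (F1) -/
theorem card_SL2 : Nat.card SL2F = Fintype.card F * (Fintype.card F ^ 2 - 1) :=
  Cfsg.Agent.Helper5.card_SL2

/-- the upper unitriangular subgroup -/
theorem FA_card_U0 : Nat.card ((Cfsg.Agent.S2503.upperU F).range) = Fintype.card F := by
  rw [Nat.card_congr (MonoidHom.ofInjective (Cfsg.Agent.S2503.upperU_injective (F := F))).toEquiv.symm]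
  rw [Nat.card_eq_fintype_card]
  exact Fintype.card_congr Multiplicative.toAdd

theorem FA_sq_U0 : ∀ x ∈ (Cfsg.Agent.S2503.upperU F).range, x ^ 2 = 1 := by
  rintro _ ⟨z, rfl⟩
  rw [← map_pow]
  have : z ^ 2 = 1 := by
    apply Multiplicative.toAdd.injective
    rw [sq]
    show Multiplicative.toAdd z + Multiplicative.toAdd z = 0
    exact CharTwo.add_self_eq_zero _
  rw [this, map_one]

theorem FA_comm_U0 : ∀ x ∈ (Cfsg.Agent.S2503.upperU F).range,
    ∀ y ∈ (Cfsg.Agent.S2503.upperU F).range, x * y = y * x := by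
  rintro _ ⟨z, rfl⟩ _ ⟨w, rfl⟩
  rw [← map_mul, ← map_mul, mul_comm]

theorem FA_two_le_card : 2 ≤ Fintype.card F := Fintype.one_lt_card

theorem FA_cen_U0 :
    Subgroup.centralizer (((Cfsg.Agent.S2503.upperU F).range : Subgroup SL2F) : Set SL2F) =
      (Cfsg.Agent.S2503.upperU F).range := by
  classical
  have : Finite SL2F := inferInstance
  -- a nonidentity element of `U₀`
  set u : SL2F := Cfsg.Agent.S2503.upperU F (Multiplicative.ofAdd (1 : F)) with hu
  have hu1 : u ≠ 1 := by
    intro h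
    have h1 : Cfsg.Agent.S2503.upperU F (Multiplicative.ofAdd (1 : F)) =
        Cfsg.Agent.S2503.upperU F 1 := by rw [(Cfsg.Agent.S2503.upperU F).map_one]; exact h
    have h2 := Cfsg.Agent.S2503.upperU_injective h1
    have h3 : (1 : F) = 0 := congrArg Multiplicative.toAdd h2
    exact one_ne_zero h3
  have huU : u ∈ (Cfsg.Agent.S2503.upperU F).range := ⟨_, rfl⟩
  have htr : ((u : SL2F) : Matrix (Fin 2) (Fin 2) F).trace = 0 := by
    rw [hu, Cfsg.Agent.S2503.upperU_apply, Matrix.trace_fin_two]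
    simp only [Matrix.of_apply, Matrix.cons_val', Matrix.cons_val_zero, Matrix.cons_val_one,
      Matrix.cons_val_fin_one]
    exact CharTwo.add_self_eq_zero _
  have hcard := Cfsg.Agent.S2507.card_centralizer_add u (Cfsg.Agent.S2507.nonScalar_of_ne_one u hu1)
  rw [htr, Cfsg.Agent.Helper42.rootCount_zero] at hcard
  have hcu : Nat.card (Subgroup.centralizer ({u} : Set SL2F)) = Fintype.card F := by omega
  -- `U₀ ≤ C(u)` and equal cardinalities
  have hle : (Cfsg.Agent.S2503.upperU F).range ≤ Subgroup.centralizer ({u} : Set SL2F) := by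
    intro x hx
    rw [Subgroup.mem_centralizer_singleton_iff]
    exact (FA_comm_U0 F u huU x hx).symm
  have heq : (Cfsg.Agent.S2503.upperU F).range = Subgroup.centralizer ({u} : Set SL2F) := by
    apply Subgroup.eq_of_le_of_card_ge hle
    rw [hcu, FA_card_U0]
  apply le_antisymm
  · intro z hz
    rw [heq, Subgroup.mem_centralizer_singleton_iff]
    exact ((Subgroup.mem_centralizer_iff.1 hz) u huU).symm
  · intro z hz
    rw [Subgroup.mem_centralizer_iff]
    intro x hx
    exact FA_comm_U0 F x hx z hz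

/-- (F3) a Sylow 2-subgroup of `SL₂(F)` has order `q = #F`, exponent 2, and is self-centralizing.
Proof: `U₀ = range upperU` has order `q`, the 2-part of `q(q²-1)`, and exponent 2; all Sylow 2-subgroups are
conjugate to it. For `1 ≠ u ∈ U₀`: `trace u = 0`, `#C(u) = q + 1 - rootCount 0 = q`, and `U₀ ≤ C(u)`, so
`C(U₀) ≤ C(u) = U₀`. -/
theorem sylow_two_SL2 (U : Sylow 2 SL2F) :
    Nat.card U = Fintype.card F ∧ (∀ x ∈ U, x ^ 2 = 1) ∧
      Subgroup.centralizer ((U : Subgroup SL2F) : Set SL2F) = (U : Subgroup SL2F) := by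
  have : Finite SL2F := inferInstance
  obtain ⟨n, -, hn⟩ := FiniteField.card F 2
  have hp : IsPGroup 2 ((Cfsg.Agent.S2503.upperU F).range) :=
    IsPGroup.of_card (n := (n : ℕ)) (by rw [FA_card_U0, hn])
  have hidx : ¬ 2 ∣ ((Cfsg.Agent.S2503.upperU F).range).index := by
    have h1 := Subgroup.index_mul_card ((Cfsg.Agent.S2503.upperU F).range)
    rw [FA_card_U0, card_SL2 F] at h1
    have hq : 2 ≤ Fintype.card F := FA_two_le_card F
    have h2 : ((Cfsg.Agent.S2503.upperU F).range).index = Fintype.card F ^ 2 - 1 := by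
      have h3 : ((Cfsg.Agent.S2503.upperU F).range).index * Fintype.card F =
          (Fintype.card F ^ 2 - 1) * Fintype.card F := by rw [h1, mul_comm]
      exact Nat.eq_of_mul_eq_mul_right (by omega) h3
    rw [h2, hn]
    have hn0 : (n : ℕ) ≠ 0 := n.ne_zero
    have heven : 2 ∣ (2 ^ (n : ℕ)) ^ 2 := by
      rw [← pow_mul]
      exact dvd_pow_self 2 (by positivity)
    have hpos : 1 ≤ (2 ^ (n : ℕ)) ^ 2 := Nat.one_le_pow _ _ (by positivity)
    omega
  have h := FA_sylow_transfer ((Cfsg.Agent.S2503.upperU F).range) hp hidx (FA_sq_U0 F)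
    (FA_cen_U0 F) U
  rw [FA_card_U0] at h
  exact h

/-- (F9) -/
theorem center_SL2 : Subgroup.center SL2F = ⊥ := by
  rw [Subgroup.eq_bot_iff_forall]
  intro x hx
  by_contra hx1
  have hns := Cfsg.Agent.S2507.nonScalar_of_ne_one x hx1
  rw [Matrix.SpecialLinearGroup.mem_center_iff] at hx
  obtain ⟨r, -, hrx⟩ := hx
  apply hns
  rw [← hrx]
  simp

end F

/-- (F7) `PSL₂(F) ≃* SL₂(F)` in characteristic 2 (the centre is trivial). -/
theorem isSL2_of_equiv_PSL2 {G : Type*} [Group G] (F : Type) [Field F] [Fintype F]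
    (hF : Even (Fintype.card F))
    (e : G ≃* Matrix.ProjectiveSpecialLinearGroup (Fin 2) F) : IsSL2 G := by
  have h20 : (2 : F) = 0 := Cfsg.Agent.Helper5.two_eq_zero_of_even_card hF
  have hchar : CharP F 2 := CharTwo.of_one_ne_zero_of_two_eq_zero one_ne_zero h20
  have hcenter : Subgroup.center (Matrix.SpecialLinearGroup (Fin 2) F) = ⊥ := center_SL2 F
  have hbij : Function.Bijective
      (QuotientGroup.mk' (Subgroup.center (Matrix.SpecialLinearGroup (Fin 2) F))) := by
    refine ⟨?_, QuotientGroup.mk'_surjective _⟩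
    rw [← MonoidHom.ker_eq_bot_iff, QuotientGroup.ker_mk', hcenter]
  let e' : Matrix.SpecialLinearGroup (Fin 2) F ≃* Matrix.ProjectiveSpecialLinearGroup (Fin 2) F :=
    MulEquiv.ofBijective
      (QuotientGroup.mk' (Subgroup.center (Matrix.SpecialLinearGroup (Fin 2) F))) hbij
  exact ⟨F, inferInstance, inferInstance, hchar, ⟨e.trans e'.symm⟩⟩

end Cfsg.Agent.Helper21.CA
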