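import Cfsg.Agent.Helper21.CA.AC
import Cfsg.Agent.Helper21.CA.FA
import Cfsg.Agent.S0885
import Cfsg.Agent.S1230

/-!
# S2202 piece AD : conclusion of Case A through Feit's theorem (S0885) and S1230. Uses AC, AB, AA, FA.
-/

set_option autoImplicit false
set_option linter.style.haveILetI false
open scoped Pointwise

namespace Cfsg.Agent.Helper21.CA

universe u
variable {G : Type u} [Group G] [Finite G]

/-- a finite group acting freely on a finite set: its order divides the number of points. -/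
theorem AD_card_dvd_of_free {D X : Type*} [Group D] [MulAction D X] [Finite D] [Finite X]
    (hfree : ∀ (x : X) (d : D), d • x = x → d = 1) : Nat.card D ∣ Nat.card X := by
  classical
  haveI : Fintype (Quotient (MulAction.orbitRel D X)) := Fintype.ofFinite _
  rw [Nat.card_congr (MulAction.selfEquivSigmaOrbitsQuotientStabilizer D X), Nat.card_sigma]
  apply Finset.dvd_sum
  intro ω _
  have hst : MulAction.stabilizer D ω.out = ⊥ := by
    rw [Subgroup.eq_bot_iff_forall]
    intro d hd
    exact hfree _ d (MulAction.mem_stabilizer_iff.mp hd)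
  rw [hst, ← Subgroup.index_eq_card, Subgroup.index_bot]

/-- the stabilizer of the point `P` is `N(P)`. -/
theorem AD_stabilizer_eq (P : Sylow 2 G) : MulAction.stabilizer G P = NN P := by
  ext g
  rw [MulAction.mem_stabilizer_iff]
  exact (basic_le P).2.2.2.1 g

/-- an element of `N(P)` does not move another point to `P`. -/
theorem AD_smul_ne (P : Sylow 2 G) {x : G} (hx : x ∈ NN P) {Q : Sylow 2 G} (hQ : Q ≠ P) :
    x • Q ≠ P := by
  intro h
  apply hQ
  have h2 : x⁻¹ • P = P := ((basic_le P).2.2.2.1 _).mpr ((NN P).inv_mem hx)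
  calc Q = x⁻¹ • (x • Q) := (inv_smul_smul x Q).symm
    _ = x⁻¹ • P := by rw [h]
    _ = P := h2

/-- the number of Sylow 2-subgroups is `#C(P) + 1` in Case A. -/
theorem AD_card_sylow (S : Setup G) (hA : ∀ P : Sylow 2 G, CaseA P) (P : Sylow 2 G) :
    Nat.card (Sylow 2 G) = Nat.card (HH P) + 1 := by
  classical
  obtain ⟨Q, hQP⟩ := exists_ne_sylow S P
  obtain ⟨hsemi, htrans⟩ := HH_regular S hA P
  have hmem : ∀ h : HH P, (h : G) • Q ≠ P := fun h =>
    AD_smul_ne P ((basic_le P).2.1 h.2) hQP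
  let f : HH P → {R : Sylow 2 G // R ≠ P} := fun h => ⟨(h : G) • Q, hmem h⟩
  have hf : Function.Bijective f := by
    constructor
    · intro h h' hhh
      have h1 : (h : G) • Q = (h' : G) • Q := congrArg Subtype.val hhh
      have h2 : ((h' : G)⁻¹ * (h : G)) • Q = Q := by
        rw [mul_smul, h1, inv_smul_smul]
      have h3 := hsemi Q hQP _ ((HH P).mul_mem ((HH P).inv_mem h'.2) h.2) h2
      apply Subtype.ext
      exact (inv_mul_eq_one.mp h3).symm
    · rintro ⟨R, hR⟩
      obtain ⟨h, hh, hhQ⟩ := htrans Q R hQP hR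
      exact ⟨⟨h, hh⟩, Subtype.ext hhQ⟩
  have h1 : Nat.card (HH P) = Nat.card {R : Sylow 2 G // R ≠ P} :=
    Nat.card_congr (Equiv.ofBijective f hf)
  have h2 : Nat.card {R : Sylow 2 G // R ≠ P} = Nat.card (Sylow 2 G) - 1 := by
    have : {R : Sylow 2 G | R ≠ P} = ({P} : Set (Sylow 2 G))ᶜ := by
      ext R
      simp
    show Nat.card ↥{R : Sylow 2 G | R ≠ P} = _
    rw [Nat.card_coe_set_eq, this, Set.ncard_compl, Set.ncard_singleton]
  have h3 : 0 < Nat.card (Sylow 2 G) := Nat.card_pos
  omega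

/-- `D(P,Q)` acts freely on the Sylow 2-subgroups other than `P`, `Q`, so its order divides their number. -/
theorem AD_card_DD_dvd (S : Setup G) (hA : ∀ P : Sylow 2 G, CaseA P) {P Q : Sylow 2 G}
    (hPQ : P ≠ Q) : Nat.card (DD P Q) ∣ Nat.card (Sylow 2 G) - 2 := by
  classical
  let X : SubMulAction ↥(DD P Q) (Sylow 2 G) :=
    { carrier := {R | R ≠ P ∧ R ≠ Q}
      smul_mem' := by
        intro d R hR
        have hdP : (d : G) ∈ NN P := d.2.1
        have hdQ : (d : G) ∈ NN Q := d.2.2
        exact ⟨AD_smul_ne P hdP hR.1, AD_smul_ne Q hdQ hR.2⟩ }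
  have hfree : ∀ (x : X) (d : ↥(DD P Q)), d • x = x → d = 1 := by
    intro x d hdx
    by_contra hd1
    have h1 : (d : G) • (x : Sylow 2 G) = (x : Sylow 2 G) := congrArg Subtype.val hdx
    have h2 : (d : G) ∈ NN (x : Sylow 2 G) := ((basic_le _).2.2.2.1 _).mp h1
    have h3 : (d : G) ≠ 1 := fun h => hd1 (Subtype.ext h)
    rcases normalizes_two S hA hPQ d.2 h3 h2 with h | h
    · exact x.2.1 h
    · exact x.2.2 h
  have hdvd := AD_card_dvd_of_free hfree
  have hX : Nat.card X = Nat.card (Sylow 2 G) - 2 := by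
    have : {R : Sylow 2 G | R ≠ P ∧ R ≠ Q} = ({P, Q} : Set (Sylow 2 G))ᶜ := by
      ext R
      simp
    show Nat.card ↥{R : Sylow 2 G | R ≠ P ∧ R ≠ Q} = _
    rw [Nat.card_coe_set_eq, this, Set.ncard_compl, Set.ncard_pair hPQ]
  rwa [hX] at hdvd

/-- (A7) Apply `Cfsg.Agent.S0885.result` with `Ω = Sylow 2 G`, `a = P`, `b = Q ≠ P`, `H = C(P)`, `h = #C(P)`, `e = #D(P,Q) = f` (odd):
the stabilizer of `P` is `N(P)`; `#Ω = #C(P) + 1` and the nonidentity elements of `C(P)` fix only `P` (A5). `C(P)` is abelian (I3), so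
the second alternative fails: `#C(P) - 1 ≤ 2 f`. `D(P,Q)` acts semiregularly on the `#C(P) - 1` points other than `P, Q` (A4), so
`f ∣ #C(P) - 1`, which is odd: `#C(P) = f + 1`. As `f + 1 ≤ #P ≤ #C(P)`: `C(P) = P` and every nonidentity element of `P` is an
involution. -/
theorem card_HH (S : Setup G) (hA : ∀ P : Sylow 2 G, CaseA P)
    (hgen : Subgroup.closure {t : G | orderOf t = 2} = ⊤) (hZ : Subgroup.center G = ⊥)
    (P : Sylow 2 G) :
    Nat.card (HH P) = ff P + 1 ∧ HH P = (P : Subgroup G) ∧ (∀ x ∈ P, x ^ 2 = 1) := by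
  classical
  haveI : Fintype (Sylow 2 G) := Fintype.ofFinite _
  obtain ⟨Q, hQP⟩ := exists_ne_sylow S P
  have hPQ : P ≠ Q := fun h => hQP h.symm
  have hZass := zassenhaus S hA hgen hZ
  obtain ⟨hsemi, htrans⟩ := HH_regular S hA P
  obtain ⟨hDcard, hDH, -, -⟩ := DD_structure S hA hPQ
  obtain ⟨hf3, hfodd, hfP⟩ := three_le_ff S P
  have hne := exists_inv_mem S P
  obtain ⟨-, -, hHcard, hKodd, hPH⟩ := HH_eq_mul S.ca P hne
  have hcardΩ : Fintype.card (Sylow 2 G) = Nat.card (HH P) + 1 := by
    rw [← Nat.card_eq_fintype_card]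
    exact AD_card_sylow S hA P
  have hstab : (MulAction.stabilizer G P ⊓ MulAction.stabilizer G Q : Subgroup G) = DD P Q := by
    rw [AD_stabilizer_eq, AD_stabilizer_eq]
    rfl
  have hFeit := Cfsg.Agent.S0885.result hZass hPQ (Nat.card (HH P)) (ff P) hcardΩ
    (by rw [hstab]; exact hDcard) hfodd (HH P)
    (by rw [AD_stabilizer_eq]; exact (basic_le P).2.1) hcardΩ.symm
    (by
      intro u hu hu1 c hc
      by_contra hcP
      exact hu1 (hsemi c hcP u hu hc))
  have hle : Nat.card (HH P) - 1 ≤ 2 * ff P := by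
    rcases hFeit with h | ⟨-, ⟨u, v, huv⟩, -⟩
    · exact h
    · exfalso
      apply huv
      apply Subtype.ext
      exact HH_comm S.ca P hne u u.2 v v.2
  -- divisibility
  have hdvd : ff P ∣ Nat.card (HH P) - 1 := by
    have := AD_card_DD_dvd S hA hPQ
    rw [hDcard, AD_card_sylow S hA P] at this
    have h2 : Nat.card (HH P) + 1 - 2 = Nat.card (HH P) - 1 := by omega
    rwa [h2] at this
  -- parity
  have hPeven : Even (Nat.card P) := by
    obtain ⟨n, hn⟩ := (IsPGroup.iff_card).mp P.isPGroup'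
    have hn0 : n ≠ 0 := by
      rintro rfl
      rw [pow_zero] at hn
      omega
    rw [hn]
    exact (Nat.even_pow' hn0).mpr even_two
  have hHeven : Even (Nat.card (HH P)) := by
    rw [hHcard]
    exact hPeven.mul_right _
  have hPle : Nat.card P ≤ Nat.card (HH P) := Subgroup.card_le_of_le hPH
  obtain ⟨k, hk⟩ := hdvd
  have hcard : Nat.card (HH P) = ff P + 1 := by
    have hk2 : k ≤ 2 := by
      by_contra hk3
      have : 3 ≤ k := by omega
      have : ff P * 3 ≤ ff P * k := Nat.mul_le_mul_left _ this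
      omega
    have hk0 : k ≠ 0 := by
      rintro rfl
      omega
    have hk2' : k ≠ 2 := by
      rintro rfl
      obtain ⟨r, hr⟩ := hHeven
      omega
    have hk1 : k = 1 := by omega
    rw [hk1, mul_one] at hk
    omega
  have hPcard : Nat.card P = Nat.card (HH P) := by omega
  have hHP : HH P = (P : Subgroup G) :=
    (Subgroup.eq_of_le_of_card_ge hPH (le_of_eq hPcard.symm)).symm
  refine ⟨hcard, hHP, ?_⟩
  -- every element of `P` is `1` or an involution
  intro x hx
  by_contra hx2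
  have hx1 : x ≠ 1 := by
    rintro rfl
    exact hx2 (one_pow 2)
  have hxo : orderOf x ≠ 2 := by
    intro h
    apply hx2
    rw [← h]
    exact pow_orderOf_eq_one x
  have hsub : insert x (insert (1 : G) (Inv (P : Subgroup G))) ⊆ ((P : Subgroup G) : Set G) := by
    intro y hy
    rcases hy with rfl | rfl | hy
    · exact hx
    · exact (P : Subgroup G).one_mem
    · exact hy.2
  have hfin : (((P : Subgroup G) : Set G)).Finite := Set.toFinite _
  have h1 : (1 : G) ∉ Inv (P : Subgroup G) := by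
    intro h
    have := h.1
    rw [orderOf_one] at this
    omega
  have h2 : x ∉ insert (1 : G) (Inv (P : Subgroup G)) := by
    intro h
    rcases h with h | h
    · exact hx1 h
    · exact hxo h.1
  have hcnt := Set.ncard_le_ncard hsub hfin
  rw [Set.ncard_insert_of_notMem h2 (Set.toFinite _), Set.ncard_insert_of_notMem h1 (Set.toFinite _)] at hcnt
  have h3 : (Inv (P : Subgroup G)).ncard = ff P := by
    unfold ff
    rw [Nat.card_coe_set_eq]
  have h4 : (((P : Subgroup G) : Set G)).ncard = Nat.card P := by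
    rw [← Nat.card_coe_set_eq]
    rfl
  rw [h3, h4] at hcnt
  omega

/-- (A8) `C(t) = C(P) = P` is abelian of exponent 2 for every involution `t` ((I2), (I6)): `Cfsg.Agent.S1230.result` gives
`G ≃* PSL₂(F)` with `#F = #P` even; conclude by (F7). -/
theorem isSL2_of_caseA (S : Setup G) (hA : ∀ P : Sylow 2 G, CaseA P)
    (hgen : Subgroup.closure {t : G | orderOf t = 2} = ⊤) (hZ : Subgroup.center G = ⊥) :
    IsSL2 G := by
  classical
  obtain ⟨T⟩ : Nonempty (Sylow 2 G) := inferInstance
  have hC : ∀ t : G, orderOf t = 2 → IsMulCommutative (Subgroup.centralizer ({t} : Set G)) ∧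
      ∀ c ∈ Subgroup.centralizer ({t} : Set G), c ^ 2 = 1 := by
    intro t ht
    refine ⟨S.ca t ht, ?_⟩
    obtain ⟨P, htP⟩ := exists_sylow_of_inv ht
    obtain ⟨-, hHP, hexp⟩ := card_HH S hA hgen hZ P
    rw [centralizer_inv_eq S.ca P ht htP, hHP]
    exact hexp
  obtain ⟨F, hField, hFin, hcard, ⟨e⟩⟩ := Cfsg.Agent.S1230.result T (S.nc T) (S.nn T) hC
  obtain ⟨hTcard, hTH, -⟩ := card_HH S hA hgen hZ T
  obtain ⟨-, hfodd, -⟩ := three_le_ff S T
  have hF : Even (Fintype.card F) := by
    rw [hcard, ← hTH, hTcard]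
    exact hfodd.add_one
  exact isSL2_of_equiv_PSL2 F hF e

end Cfsg.Agent.Helper21.CA
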