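import Cfsg.Agent.Helper21.CA.IA

/-!
# S2202 piece IB : `C(P) = P × K_P`, the number `f` of involutions of `P`, the centre. Uses IA.
-/

set_option autoImplicit false
open scoped Pointwise

namespace Cfsg.Agent.Helper21.CA

universe u
variable {G : Type u} [Group G] [Finite G]

/-! ### auxiliary: an abelian `2`-group with at most two elements of square one is cyclic -/

omit [Finite G] in
theorem IB_odd_lcm {a b : ℕ} (ha : Odd a) (hb : Odd b) : Odd (Nat.lcm a b) :=
  Odd.of_dvd_nat (ha.mul hb) (Nat.lcm_dvd_mul a b)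

theorem IB_card_ker_pow_le {A : Type*} [CommGroup A] [Finite A]
    (h : Nat.card (powMonoidHom 2 : A →* A).ker ≤ 2) (k : ℕ) :
    Nat.card (powMonoidHom (2 ^ k) : A →* A).ker ≤ 2 ^ k := by
  induction k with
  | zero =>
    have h0 : (powMonoidHom (2 ^ 0) : A →* A).ker = ⊥ := by
      ext x
      simp [MonoidHom.mem_ker, powMonoidHom_apply]
    rw [h0]
    simp
  | succ k ih =>
    let f : (powMonoidHom (2 ^ (k + 1)) : A →* A).ker →* (powMonoidHom (2 ^ k) : A →* A).ker :=
      { toFun := fun x => ⟨(x : A) ^ 2, by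
          have hx := x.2
          rw [MonoidHom.mem_ker, powMonoidHom_apply] at hx ⊢
          rw [← pow_mul, ← pow_succ']
          exact hx⟩
        map_one' := by
          apply Subtype.ext
          simp
        map_mul' := by
          intro x y
          apply Subtype.ext
          simp [mul_pow] }
    have h1 : Nat.card f.ker * Nat.card f.range =
        Nat.card (powMonoidHom (2 ^ (k + 1)) : A →* A).ker := by
      rw [← Subgroup.index_ker f]
      exact Subgroup.card_mul_index f.ker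
    have h2 : Nat.card f.ker ≤ 2 := by
      refine le_trans ?_ h
      apply Nat.card_le_card_of_injective
        (fun x : f.ker => (⟨((x : (powMonoidHom (2 ^ (k + 1)) : A →* A).ker) : A), by
          have hx := x.2
          rw [MonoidHom.mem_ker] at hx
          have := congrArg Subtype.val hx
          rw [MonoidHom.mem_ker, powMonoidHom_apply]
          exact this⟩ : (powMonoidHom 2 : A →* A).ker))
      intro x y hxy
      apply Subtype.ext
      apply Subtype.ext
      have h := congrArg Subtype.val hxy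
      exact h
    have h3 : Nat.card f.range ≤ Nat.card (powMonoidHom (2 ^ k) : A →* A).ker :=
      Nat.card_le_card_of_injective _ Subtype.val_injective
    calc Nat.card (powMonoidHom (2 ^ (k + 1)) : A →* A).ker
        = Nat.card f.ker * Nat.card f.range := h1.symm
      _ ≤ 2 * 2 ^ k := Nat.mul_le_mul h2 (h3.trans ih)
      _ = 2 ^ (k + 1) := by rw [pow_succ']

theorem IB_isCyclic_comm {A : Type*} [CommGroup A] [Finite A] (hA : IsPGroup 2 A)
    (h : Nat.card (powMonoidHom 2 : A →* A).ker ≤ 2) : IsCyclic A := by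
  classical
  have := Fintype.ofFinite A
  apply isCyclic_of_card_pow_eq_one_le
  intro n hn
  obtain ⟨N, hN⟩ := hA.exists_card_eq
  obtain ⟨k, -, hgcd⟩ := (Nat.dvd_prime_pow Nat.prime_two).mp (Nat.gcd_dvd_right n (2 ^ N))
  have hsub : ∀ x : A, x ^ n = 1 → x ∈ (powMonoidHom (2 ^ k) : A →* A).ker := by
    intro x hx
    rw [MonoidHom.mem_ker, powMonoidHom_apply, ← hgcd]
    have h1 : orderOf x ∣ n := orderOf_dvd_of_pow_eq_one hx
    have h2 : orderOf x ∣ 2 ^ N := hN ▸ orderOf_dvd_natCard x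
    exact orderOf_dvd_iff_pow_eq_one.mp (Nat.dvd_gcd h1 h2)
  have hle : (Finset.univ.filter fun a : A => a ^ n = 1).card ≤
      Nat.card (powMonoidHom (2 ^ k) : A →* A).ker := by
    rw [← Fintype.card_subtype, ← Nat.card_eq_fintype_card]
    apply Nat.card_le_card_of_injective
      (fun x : {a : A // a ^ n = 1} => (⟨x.1, hsub x.1 x.2⟩ : (powMonoidHom (2 ^ k) : A →* A).ker))
    intro x y hxy
    apply Subtype.ext
    have h := congrArg Subtype.val hxy
    exact h
  calc (Finset.univ.filter fun a : A => a ^ n = 1).card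
      ≤ Nat.card (powMonoidHom (2 ^ k) : A →* A).ker := hle
    _ ≤ 2 ^ k := IB_card_ker_pow_le h k
    _ ≤ n := Nat.le_of_dvd hn (hgcd ▸ Nat.gcd_dvd_left n _)

/-- a finite abelian `2`-group with at most two solutions of `x ^ 2 = 1` is cyclic -/
theorem IB_isCyclic {A : Type*} [Group A] [Finite A] (hc : ∀ x y : A, x * y = y * x)
    (hA : IsPGroup 2 A) (h : Nat.card {x : A // x ^ 2 = 1} ≤ 2) : IsCyclic A := by
  let _ : CommGroup A := { (inferInstance : Group A) with mul_comm := hc }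
  apply IB_isCyclic_comm hA
  refine le_trans ?_ h
  apply Nat.card_le_card_of_injective
    (fun x : (powMonoidHom 2 : A →* A).ker => (⟨x.1, by
      have hx := x.2
      rw [MonoidHom.mem_ker, powMonoidHom_apply] at hx
      exact hx⟩ : {x : A // x ^ 2 = 1}))
  intro x y hxy
  apply Subtype.ext
  have h := congrArg Subtype.val hxy
  exact h

/-- (I9) `K_P` is exactly the set of odd-order elements of the abelian group `C(P)` (closure induction;
in an abelian group `orderOf (x*y) ∣ lcm`). -/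
theorem mem_KK_iff (hCA : CA2 G) (P : Sylow 2 G) (hne : ∃ t : G, orderOf t = 2 ∧ t ∈ P) {x : G} :
    x ∈ KK P ↔ x ∈ HH P ∧ Odd (orderOf x) := by
  constructor
  · intro hx
    unfold KK at hx
    induction hx using Subgroup.closure_induction with
    | mem y hy => exact hy
    | one => exact ⟨one_mem _, by rw [orderOf_one]; exact odd_one⟩
    | mul y z _ _ hy hz =>
      refine ⟨mul_mem hy.1 hz.1, ?_⟩
      have hc : Commute y z := HH_comm hCA P hne y hy.1 z hz.1
      exact Odd.of_dvd_nat (IB_odd_lcm hy.2 hz.2) hc.orderOf_mul_dvd_lcm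
    | inv y _ hy => exact ⟨inv_mem hy.1, by rw [orderOf_inv]; exact hy.2⟩
  · intro hx
    exact Subgroup.subset_closure hx

omit [Finite G] in
theorem IB_two_pow_odd {k : ℕ} (h : Odd (2 ^ k)) : k = 0 := by
  by_contra hk
  have h2 : 2 ∣ 2 ^ k := dvd_pow_self 2 hk
  rcases h with ⟨m, hm⟩
  omega

/-- (I11) `C(P) = P × K_P`: `C(P)` is abelian, each `h` is (2-part) * (odd part), the 2-part is in `P` by (I4). -/
theorem HH_eq_mul (hCA : CA2 G) (P : Sylow 2 G) (hne : ∃ t : G, orderOf t = 2 ∧ t ∈ P) :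
    (∀ h ∈ HH P, ∃ s ∈ P, ∃ k ∈ KK P, h = s * k) ∧ ((P : Subgroup G) ⊓ KK P = ⊥) ∧
    Nat.card (HH P) = Nat.card P * Nat.card (KK P) ∧ Odd (Nat.card (KK P)) ∧
    (P : Subgroup G) ≤ HH P := by
  have hP2 : ∀ x ∈ P, ∃ k : ℕ, orderOf x = 2 ^ k := by
    intro x hx
    obtain ⟨k, hk⟩ := (IsPGroup.iff_orderOf.mp P.isPGroup') ⟨x, hx⟩
    exact ⟨k, by rw [← hk, Subgroup.orderOf_mk]⟩
  have hdec : ∀ h ∈ HH P, ∃ s ∈ P, ∃ k ∈ KK P, h = s * k := by
    intro h hh
    have hn0 : orderOf h ≠ 0 := (orderOf_pos h).ne'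
    obtain ⟨a, m, hm, hn⟩ := Nat.exists_eq_two_pow_mul_odd hn0
    have hcop : Nat.Coprime (2 ^ a) m := Nat.Coprime.pow_left a (Nat.coprime_two_left.mpr hm)
    obtain ⟨u, v, huv⟩ := Nat.isCoprime_iff_coprime.mpr hcop
    -- `s = h ^ (v * m)`, `k = h ^ (u * 2 ^ a)`
    refine ⟨h ^ (v * (m : ℤ)), ?_, h ^ (u * ((2 ^ a : ℕ) : ℤ)), ?_, ?_⟩
    · apply mem_sylow_of_two_elt hCA P (Subgroup.zpow_mem _ hh _)
      have h1 : (h ^ (v * (m : ℤ))) ^ (2 ^ a) = 1 := by
        rw [← zpow_natCast, ← zpow_mul]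
        have e : v * (m : ℤ) * ((2 ^ a : ℕ) : ℤ) = ((orderOf h : ℕ) : ℤ) * v := by
          rw [hn]; push_cast; ring
        rw [e, zpow_mul, zpow_natCast, pow_orderOf_eq_one, one_zpow]
      obtain ⟨j, -, hj⟩ := (Nat.dvd_prime_pow Nat.prime_two).mp (orderOf_dvd_of_pow_eq_one h1)
      exact ⟨j, hj⟩
    · apply Subgroup.subset_closure
      refine ⟨Subgroup.zpow_mem _ hh _, ?_⟩
      have h1 : (h ^ (u * ((2 ^ a : ℕ) : ℤ))) ^ m = 1 := by
        rw [← zpow_natCast, ← zpow_mul]
        have e : u * ((2 ^ a : ℕ) : ℤ) * (m : ℤ) = ((orderOf h : ℕ) : ℤ) * u := by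
          rw [hn]; push_cast; ring
        rw [e, zpow_mul, zpow_natCast, pow_orderOf_eq_one, one_zpow]
      exact Odd.of_dvd_nat hm (orderOf_dvd_of_pow_eq_one h1)
    · rw [← zpow_add]
      have e : v * (m : ℤ) + u * ((2 ^ a : ℕ) : ℤ) = 1 := by
        rw [← huv]; push_cast; ring
      rw [e, zpow_one]
  have hinf : (P : Subgroup G) ⊓ KK P = ⊥ := by
    rw [eq_bot_iff]
    rintro x ⟨hxP, hxK⟩
    obtain ⟨k, hk⟩ := hP2 x hxP
    have hodd := ((mem_KK_iff hCA P hne).mp hxK).2
    rw [hk] at hodd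
    have hk0 := IB_two_pow_odd hodd
    rw [hk0, pow_zero, orderOf_eq_one_iff] at hk
    exact hk
  have hPH : (P : Subgroup G) ≤ HH P := by
    intro x hx
    unfold HH
    rw [Subgroup.mem_centralizer_iff]
    intro y hy
    exact sylow_comm hCA P y hy x hx
  have hKH : KK P ≤ HH P := (basic_le P).1
  refine ⟨hdec, hinf, ?_, ?_, hPH⟩
  · -- the bijection `P × K_P → C(P)`
    let φ : ↥(P : Subgroup G) × ↥(KK P) → ↥(HH P) :=
      fun sk => ⟨(sk.1 : G) * (sk.2 : G), mul_mem (hPH sk.1.2) (hKH sk.2.2)⟩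
    have hbij : Function.Bijective φ := by
      constructor
      · rintro ⟨s, k⟩ ⟨s', k'⟩ h
        have h1 : (s : G) * (k : G) = (s' : G) * (k' : G) := congrArg Subtype.val h
        have h2 : (s' : G)⁻¹ * (s : G) = (k' : G) * (k : G)⁻¹ := by
          have : (s' : G)⁻¹ * ((s : G) * (k : G)) * (k : G)⁻¹ =
              (s' : G)⁻¹ * ((s' : G) * (k' : G)) * (k : G)⁻¹ := by rw [h1]
          calc (s' : G)⁻¹ * (s : G) = (s' : G)⁻¹ * ((s : G) * (k : G)) * (k : G)⁻¹ := by group
            _ = (s' : G)⁻¹ * ((s' : G) * (k' : G)) * (k : G)⁻¹ := this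
            _ = (k' : G) * (k : G)⁻¹ := by group
        have h3 : (s' : G)⁻¹ * (s : G) ∈ (P : Subgroup G) ⊓ KK P :=
          Subgroup.mem_inf.mpr ⟨mul_mem (inv_mem s'.2) s.2, by rw [h2]; exact mul_mem k'.2 (inv_mem k.2)⟩
        rw [hinf, Subgroup.mem_bot] at h3
        have hs : (s : G) = (s' : G) := by
          have := inv_mul_eq_one.mp h3
          exact this.symm
        have hk : (k : G) = (k' : G) := by
          rw [hs] at h1
          exact mul_left_cancel h1
        exact Prod.ext (Subtype.ext hs) (Subtype.ext hk)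
      · rintro ⟨h, hh⟩
        obtain ⟨s, hs, k, hk, rfl⟩ := hdec h hh
        exact ⟨(⟨s, hs⟩, ⟨k, hk⟩), rfl⟩
    rw [← Nat.card_prod]
    exact (Nat.card_congr (Equiv.ofBijective φ hbij)).symm
  · -- `K_P` has odd order
    rw [← Nat.not_even_iff_odd]
    intro hev
    obtain ⟨x, hx⟩ := exists_prime_orderOf_dvd_card' (G := ↥(KK P)) 2 hev.two_dvd
    have hodd := ((mem_KK_iff hCA P hne).mp x.2).2
    rw [← Subgroup.orderOf_coe] at hx
    rw [hx] at hodd
    exact absurd hodd (by decide)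

omit [Finite G] in
/-- the involutions of `P` together with `1` -/
theorem IB_insert_inv (P : Sylow 2 G) :
    {x : G | x ∈ P ∧ x ^ 2 = 1} = insert (1 : G) (Inv (P : Subgroup G)) := by
  ext x
  constructor
  · rintro ⟨hxP, hx2⟩
    by_cases hx1 : x = 1
    · rw [hx1]; exact Set.mem_insert _ _
    · exact Set.mem_insert_of_mem _ ⟨orderOf_eq_prime hx2 hx1, hxP⟩
  · intro hx
    rcases Set.mem_insert_iff.mp hx with rfl | ⟨ho, hxP⟩
    · exact ⟨one_mem _, one_pow 2⟩
    · exact ⟨hxP, by rw [← ho]; exact pow_orderOf_eq_one x⟩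

/-- the subgroup of the elements of square one of the abelian group `P` -/
def IB_Omega (hCA : CA2 G) (P : Sylow 2 G) : Subgroup G where
  carrier := {x : G | x ∈ P ∧ x ^ 2 = 1}
  one_mem' := ⟨one_mem _, one_pow 2⟩
  mul_mem' := by
    rintro x y ⟨hx, hx2⟩ ⟨hy, hy2⟩
    refine ⟨mul_mem hx hy, ?_⟩
    have hc : Commute x y := sylow_comm hCA P x hx y hy
    rw [hc.mul_pow, hx2, hy2, one_mul]
  inv_mem' := by
    rintro x ⟨hx, hx2⟩
    exact ⟨inv_mem hx, by rw [inv_pow, hx2, inv_one]⟩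

theorem IB_card_Omega (hCA : CA2 G) (P : Sylow 2 G) : Nat.card (IB_Omega hCA P) = ff P + 1 := by
  have h1 : ((IB_Omega hCA P : Subgroup G) : Set G) = insert (1 : G) (Inv (P : Subgroup G)) :=
    IB_insert_inv P
  have h2 : Nat.card (IB_Omega hCA P) = Set.ncard ((IB_Omega hCA P : Subgroup G) : Set G) :=
    Nat.card_coe_set_eq _
  rw [h2, h1, Set.ncard_insert_of_notMem _ (Set.toFinite _)]
  · rfl
  · intro h
    have : orderOf (1 : G) = 2 := h.1
    rw [orderOf_one] at this
    omega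

/-- (I14) `P` is an abelian noncyclic 2-group: `{x ∈ P | x² = 1}` is a subgroup of order `2^r = f + 1`, and
`r ≥ 2` (an abelian 2-group with a single involution is cyclic, e.g. by `isCyclic_of_card_pow_eq_one_le`:
`#{x | x^(2^(k+1)) = 1} ≤ 2 * #{x | x^(2^k) = 1}` via `x ↦ x²`). -/
theorem three_le_ff (S : Setup G) (P : Sylow 2 G) : 3 ≤ ff P ∧ Odd (ff P) ∧ ff P + 1 ≤ Nat.card P := by
  have hCA := S.ca
  have hle : IB_Omega hCA P ≤ (P : Subgroup G) := fun x hx => hx.1
  have hcard := IB_card_Omega hCA P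
  obtain ⟨r, hr⟩ := (P.isPGroup'.to_le hle).exists_card_eq
  have hr2 : 2 ≤ r := by
    by_contra hlt
    have hr1 : r ≤ 1 := by omega
    have hO2 : Nat.card (IB_Omega hCA P) ≤ 2 := by
      rw [hr]
      calc 2 ^ r ≤ 2 ^ 1 := Nat.pow_le_pow_right (by norm_num) hr1
        _ = 2 := by norm_num
    apply S.nc P
    apply IB_isCyclic (fun x y => Subtype.ext (sylow_comm hCA P x x.2 y y.2)) P.isPGroup'
    refine le_trans ?_ hO2
    apply Nat.card_le_card_of_injective
      (fun x : {x : ↥(P : Subgroup G) // x ^ 2 = 1} => (⟨(x.1 : G), ⟨x.1.2, by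
        have := congrArg Subtype.val x.2
        simpa using this⟩⟩ : IB_Omega hCA P))
    intro x y hxy
    apply Subtype.ext
    apply Subtype.ext
    have h := congrArg Subtype.val hxy
    exact h
  have h4 : 4 ≤ 2 ^ r := by
    calc 4 = 2 ^ 2 := by norm_num
      _ ≤ 2 ^ r := Nat.pow_le_pow_right (by norm_num) hr2
  have hev : Even (2 ^ r) := (Nat.even_pow.mpr ⟨even_two, by omega⟩)
  rw [hr] at hcard
  refine ⟨by omega, ?_, ?_⟩
  · rcases hev with ⟨m, hm⟩
    exact ⟨m - 1, by omega⟩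
  · rw [← hcard, ← hr]
    exact Subgroup.card_le_of_le hle

/-- two distinct commuting involutions in each Sylow 2-subgroup (from `3 ≤ ff P` and (I1)). -/
theorem exists_two_inv (S : Setup G) (P : Sylow 2 G) :
    ∃ t t' : G, orderOf t = 2 ∧ t ∈ P ∧ orderOf t' = 2 ∧ t' ∈ P ∧ t ≠ t' ∧ orderOf (t * t') = 2 ∧
      t * t' ∈ P := by
  have h3 := (three_le_ff S P).1
  have hfin : Finite ↥(Inv (P : Subgroup G)) := Set.toFinite _
  have hnt : Nontrivial ↥(Inv (P : Subgroup G)) := by
    rw [← Finite.one_lt_card_iff_nontrivial]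
    have : ff P = Nat.card ↥(Inv (P : Subgroup G)) := rfl
    omega
  obtain ⟨a, b, hab⟩ := hnt
  obtain ⟨t, ht, htP⟩ := a
  obtain ⟨t', ht', ht'P⟩ := b
  have hne : t ≠ t' := fun h => hab (Subtype.ext h)
  refine ⟨t, t', ht, htP, ht', ht'P, hne, ?_, mul_mem htP ht'P⟩
  have hc : Commute t t' := sylow_comm S.ca P t htP t' ht'P
  have ht2 : t ^ 2 = 1 := by rw [← ht]; exact pow_orderOf_eq_one t
  have ht'2 : t' ^ 2 = 1 := by rw [← ht']; exact pow_orderOf_eq_one t'
  apply orderOf_eq_prime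
  · rw [hc.mul_pow, ht2, ht'2, one_mul]
  · intro h
    apply hne
    have h1 : t = t'⁻¹ := eq_inv_of_mul_eq_one_left h
    have h2 : t'⁻¹ = t' := by
      rw [inv_eq_iff_mul_eq_one, ← pow_two]; exact ht'2
    rw [h1, h2]

omit [Finite G] in
theorem IB_orderOf_conj (g x : G) : orderOf (g * x * g⁻¹) = orderOf x := by
  have h : SemiconjBy g x (g * x * g⁻¹) := by
    unfold SemiconjBy
    group
  exact (h.orderOf_eq g).symm

theorem ff_eq (P Q : Sylow 2 G) : ff P = ff Q := by
  have : Fact (Nat.Prime 2) := ⟨Nat.prime_two⟩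
  obtain ⟨g, rfl⟩ := MulAction.exists_smul_eq G P Q
  unfold ff
  apply Nat.card_congr
  refine
    { toFun := fun t => ⟨g * (t : G) * g⁻¹, ?_, ?_⟩
      invFun := fun t => ⟨g⁻¹ * (t : G) * g, ?_, ?_⟩
      left_inv := ?_
      right_inv := ?_ }
  · exact (IB_orderOf_conj g (t : G)).trans t.2.1
  · exact ((conj_mem_iff P g (t : G)).2.2.2).mpr t.2.2
  · have h := IB_orderOf_conj g⁻¹ (t : G)
    rw [inv_inv] at h
    exact h.trans t.2.1
  · have h := t.2.2
    have e : (t : G) = g * (g⁻¹ * (t : G) * g) * g⁻¹ := by group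
    rw [e] at h
    exact ((conj_mem_iff P g _).2.2.2).mp h
  · intro t
    apply Subtype.ext
    show g⁻¹ * (g * (t : G) * g⁻¹) * g = (t : G)
    group
  · intro t
    apply Subtype.ext
    show g * (g⁻¹ * (t : G) * g) * g⁻¹ = (t : G)
    group

/-- (I15) the centre has odd order and lies in every `K_P`: a central involution would lie in `P` (I4), hence in
all conjugates of `P`, so `P` would be normal by (I5). Central elements lie in `C(P)` and have odd order, so
they are among the generators of `K_P`. -/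
theorem center_le_KK (S : Setup G) (P : Sylow 2 G) :
    Subgroup.center G ≤ KK P ∧ Odd (Nat.card (Subgroup.center G)) := by
  have hCA := S.ca
  have hZH : ∀ (R : Sylow 2 G), Subgroup.center G ≤ HH R := by
    intro R z hz
    unfold HH
    rw [Subgroup.mem_centralizer_iff]
    intro y _
    exact (Subgroup.mem_center_iff.mp hz y)
  have hodd : Odd (Nat.card (Subgroup.center G)) := by
    rw [← Nat.not_even_iff_odd]
    intro hev
    obtain ⟨z, hz⟩ := exists_prime_orderOf_dvd_card' (G := ↥(Subgroup.center G)) 2 hev.two_dvd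
    rw [← Subgroup.orderOf_coe] at hz
    obtain ⟨Q, hQ⟩ := exists_ne_sylow S P
    have h1 : (z : G) ∈ P := mem_sylow_of_two_elt hCA P (hZH P z.2) ⟨1, by rw [hz, pow_one]⟩
    have h2 : (z : G) ∈ Q := mem_sylow_of_two_elt hCA Q (hZH Q z.2) ⟨1, by rw [hz, pow_one]⟩
    exact hQ (sylow_eq_of_inv hCA Q P hz h2 h1)
  refine ⟨?_, hodd⟩
  intro z hz
  apply Subgroup.subset_closure
  refine ⟨hZH P hz, ?_⟩
  have h1 : orderOf (⟨z, hz⟩ : Subgroup.center G) ∣ Nat.card (Subgroup.center G) := orderOf_dvd_natCard _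
  rw [Subgroup.orderOf_mk] at h1
  exact Odd.of_dvd_nat hodd h1

end Cfsg.Agent.Helper21.CA
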