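import Cfsg.Agent.Helper21.CADefs

/-!
# S2202 piece GC : the dihedral group generated by two involutions (Mathlib only)
-/

set_option autoImplicit false
set_option linter.unusedVariables false

namespace Cfsg.Agent.Helper21.CA

universe u
variable {G : Type u} [Group G]

/-- an involution is its own inverse -/
theorem GC_inv_eq {t : G} (ht : orderOf t = 2) : t⁻¹ = t := by
  have h : t * t = 1 := by rw [← pow_two, ← ht]; exact pow_orderOf_eq_one t
  exact inv_eq_of_mul_eq_one_left h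

/-- `t (tu) t⁻¹ = (tu)⁻¹` -/
theorem GC_conj_left {t u : G} (ht : orderOf t = 2) (hu : orderOf u = 2) :
    t * (t * u) * t⁻¹ = (t * u)⁻¹ := by
  have h1 := GC_inv_eq ht
  have h2 := GC_inv_eq hu
  have ht2 : t * t = 1 := by rw [← pow_two, ← ht]; exact pow_orderOf_eq_one t
  rw [mul_inv_rev, h1, h2, ← mul_assoc, ht2, one_mul]

/-- `u (tu) u⁻¹ = (tu)⁻¹` -/
theorem GC_conj_right {t u : G} (ht : orderOf t = 2) (hu : orderOf u = 2) :
    u * (t * u) * u⁻¹ = (t * u)⁻¹ := by
  have h1 := GC_inv_eq ht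
  have h2 := GC_inv_eq hu
  have hu2 : u * u = 1 := by rw [← pow_two, ← hu]; exact pow_orderOf_eq_one u
  rw [mul_inv_rev, h1, h2, mul_assoc, mul_assoc, hu2, mul_one]

/-- conjugating a power -/
theorem GC_conj_pow {s c : G} (h : s * c * s⁻¹ = c⁻¹) (k : ℕ) : s * c ^ k * s⁻¹ = (c ^ k)⁻¹ := by
  rw [← conj_pow, h, inv_pow]

/-- (G3) two involutions whose product has even order commute with a common involution:
`z = (t*u)^(n/2)`, `n = orderOf (t*u)`; `t (tu) t⁻¹ = ut = (tu)⁻¹`, so `t z t⁻¹ = z⁻¹ = z`, same for `u`. -/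
theorem exists_central_inv_of_even [Finite G] {t u : G} (ht : orderOf t = 2) (hu : orderOf u = 2)
    (he : Even (orderOf (t * u))) :
    ∃ z : G, orderOf z = 2 ∧ z * t = t * z ∧ z * u = u * z := by
  set c := t * u with hc
  have hn0 : orderOf c ≠ 0 := (orderOf_pos c).ne'
  have h2 : 2 ∣ orderOf c := even_iff_two_dvd.mp he
  refine ⟨c ^ (orderOf c / 2), orderOf_pow_orderOf_div hn0 h2, ?_, ?_⟩
  · have hz := orderOf_pow_orderOf_div hn0 h2
    have hzi := GC_inv_eq hz
    have h := GC_conj_pow (GC_conj_left ht hu) (orderOf c / 2)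
    rw [← hc, hzi] at h
    -- `t * z * t⁻¹ = z`
    calc c ^ (orderOf c / 2) * t = (t * c ^ (orderOf c / 2) * t⁻¹) * t := by rw [h]
      _ = t * c ^ (orderOf c / 2) := by rw [inv_mul_cancel_right]
  · have hz := orderOf_pow_orderOf_div hn0 h2
    have hzi := GC_inv_eq hz
    have h := GC_conj_pow (GC_conj_right ht hu) (orderOf c / 2)
    rw [← hc, hzi] at h
    calc c ^ (orderOf c / 2) * u = (u * c ^ (orderOf c / 2) * u⁻¹) * u := by rw [h]
      _ = u * c ^ (orderOf c / 2) := by rw [inv_mul_cancel_right]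

/-- (G4) two involutions whose product has odd order `2m+1` are conjugate by the involution
`v = t * (t*u)^(m+1)` of the dihedral group they generate:
with `c = t*u`, `t c t⁻¹ = c⁻¹`, so `v² = 1`; `v ≠ 1` as `t ∉ ⟨c⟩` (odd order);
`v t v⁻¹ = v t v = t c^(2m+2) = t c = u`. -/
theorem exists_inv_conj_of_odd [Finite G] {t u : G} (ht : orderOf t = 2) (hu : orderOf u = 2)
    (ho : Odd (orderOf (t * u))) :
    ∃ v : G, orderOf v = 2 ∧ v * t * v⁻¹ = u ∧ v ∈ Subgroup.closure ({t, u} : Set G) := by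
  set c := t * u with hc
  obtain ⟨m, hm⟩ := ho
  have hti := GC_inv_eq ht
  have ht2 : t * t = 1 := by rw [← pow_two, ← ht]; exact pow_orderOf_eq_one t
  have hconj := GC_conj_pow (GC_conj_left ht hu) (m + 1)
  rw [← hc] at hconj
  -- `t * c^(m+1) * t = (c^(m+1))⁻¹`
  rw [hti] at hconj
  set v := t * c ^ (m + 1) with hv
  have hv2 : v * v = 1 := by
    calc v * v = (t * c ^ (m + 1) * t) * c ^ (m + 1) := by rw [hv]; simp only [mul_assoc]
      _ = 1 := by rw [hconj, inv_mul_cancel]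
  have hv1 : v ≠ 1 := by
    intro h
    -- `t = (c^(m+1))⁻¹ ∈ ⟨c⟩`
    have htc : t = (c ^ (m + 1))⁻¹ := eq_inv_of_mul_eq_one_left h
    have hmem : t ∈ Subgroup.zpowers c := by
      rw [htc]
      exact Subgroup.inv_mem _ (Subgroup.pow_mem _ (Subgroup.mem_zpowers c) _)
    have hd := orderOf_dvd_of_mem_zpowers hmem
    rw [ht, hm] at hd
    omega
  have hov : orderOf v = 2 := orderOf_eq_prime (by rw [pow_two]; exact hv2) hv1
  refine ⟨v, hov, ?_, ?_⟩
  · rw [GC_inv_eq hov]
    have hcpow : c ^ (m + 1) * c ^ (m + 1) = c := by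
      rw [← pow_add]
      have : m + 1 + (m + 1) = orderOf c + 1 := by omega
      rw [this, pow_succ, pow_orderOf_eq_one, one_mul]
    calc v * t * v = t * c ^ (m + 1) * (t * t) * c ^ (m + 1) := by rw [hv]; simp only [mul_assoc]
      _ = t * (c ^ (m + 1) * c ^ (m + 1)) := by rw [ht2, mul_one, mul_assoc]
      _ = t * c := by rw [hcpow]
      _ = u := by rw [hc, ← mul_assoc, ht2, one_mul]
  · have h1 : t ∈ Subgroup.closure ({t, u} : Set G) := Subgroup.subset_closure (by simp)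
    have h2 : u ∈ Subgroup.closure ({t, u} : Set G) := Subgroup.subset_closure (by simp)
    exact Subgroup.mul_mem _ h1 (Subgroup.pow_mem _ (Subgroup.mul_mem _ h1 h2) _)

/-- an element of odd order is a power of its square -/
theorem GC_mem_zpowers_sq {a : G} (ho : Odd (orderOf a)) : a ∈ Subgroup.zpowers (a ^ 2) := by
  obtain ⟨k, hk⟩ := ho
  have h1 : (a ^ 2) ^ (k + 1) = a := by
    have h2 : 2 * (k + 1) = orderOf a + 1 := by omega
    calc (a ^ 2) ^ (k + 1) = a ^ (2 * (k + 1)) := (pow_mul a 2 (k + 1)).symm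
      _ = a ^ (orderOf a + 1) := by rw [h2]
      _ = a := by rw [pow_succ, pow_orderOf_eq_one, one_mul]
  have h3 : (a ^ 2) ^ (k + 1) ∈ Subgroup.zpowers (a ^ 2) :=
    Subgroup.pow_mem _ (Subgroup.mem_zpowers _) _
  rw [h1] at h3
  exact h3

/-- (G4') uniqueness. `(t*v)² = t (v t v⁻¹) = t*u = (t*v')²`. If `a = t*v` has odd order `n` then
`a = (a²)^((n+1)/2)` is a power of `c = t*u`; same for `b = t*v'`. So `a, b ∈ ⟨c⟩` (of odd order, as `c = a²`)
commute and `(a b⁻¹)² = 1`, hence `a = b` and `v = v'`. -/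
theorem inv_conj_unique [Finite G] {t u v v' : G} (ht : orderOf t = 2)
    (hv : orderOf v = 2) (hv' : orderOf v' = 2) (h : v * t * v⁻¹ = u) (h' : v' * t * v'⁻¹ = u)
    (ho : Odd (orderOf (t * v))) (ho' : Odd (orderOf (t * v'))) : v = v' := by
  set a := t * v with ha
  set b := t * v' with hb
  have ha2 : a ^ 2 = t * u := by
    rw [pow_two, ha, ← h, GC_inv_eq hv]; simp only [mul_assoc]
  have hb2 : b ^ 2 = t * u := by
    rw [pow_two, hb, ← h', GC_inv_eq hv']; simp only [mul_assoc]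
  set c := t * u with hc
  have hac : a ∈ Subgroup.zpowers c := by rw [← ha2]; exact GC_mem_zpowers_sq ho
  have hbc : b ∈ Subgroup.zpowers c := by rw [← hb2]; exact GC_mem_zpowers_sq ho'
  obtain ⟨i, hi⟩ := Subgroup.mem_zpowers_iff.mp hac
  obtain ⟨j, hj⟩ := Subgroup.mem_zpowers_iff.mp hbc
  have hcomm : Commute a b⁻¹ := by
    rw [← hi, ← hj, ← zpow_neg]
    exact (Commute.refl c).zpow_zpow i (-j)
  set x := a * b⁻¹ with hx
  have hx2 : x ^ 2 = 1 := by
    rw [hx, hcomm.mul_pow, inv_pow, ha2, hb2, mul_inv_cancel]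
  have hxc : x ∈ Subgroup.zpowers c :=
    Subgroup.mul_mem _ hac (Subgroup.inv_mem _ hbc)
  have hcodd : Odd (orderOf c) := by
    rw [← ha2]
    exact Odd.of_dvd_nat ho (orderOf_pow_dvd 2)
  have hd1 : orderOf x ∣ 2 := orderOf_dvd_of_pow_eq_one hx2
  have hd2 : orderOf x ∣ orderOf c := orderOf_dvd_of_mem_zpowers hxc
  have hcop : Nat.Coprime 2 (orderOf c) := Nat.coprime_two_left.mpr hcodd
  have hone : orderOf x = 1 := Nat.eq_one_of_dvd_coprimes hcop hd1 hd2
  have hx1 : x = 1 := orderOf_eq_one_iff.mp hone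
  have hab : a = b := by
    rw [hx] at hx1
    exact mul_inv_eq_one.mp hx1
  rw [ha, hb] at hab
  exact mul_left_cancel hab

end Cfsg.Agent.Helper21.CA
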