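import Cfsg.Agent.Helper21.CA.IA
import Cfsg.Agent.Helper21.CA.GC

/-!
# S2202 piece IC : one class of involutions; `N(P)` on the involutions of `P`. Uses IA, GC.
-/

set_option autoImplicit false
open scoped Pointwise

namespace Cfsg.Agent.Helper21.CA

universe u
variable {G : Type u} [Group G] [Finite G]

/-- if `t*u` has even order then `t, u` lie in a common Sylow 2-subgroup: (G3) gives an involution `z` commuting
with both; `z ∈ R` (I6); `t, u ∈ C(z) = C(R)` (I2) are 2-elements, so `t, u ∈ R` (I4). -/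
theorem same_sylow_of_even (S : Setup G) {t u : G} (ht : orderOf t = 2) (hu : orderOf u = 2)
    (he : Even (orderOf (t * u))) : ∃ R : Sylow 2 G, t ∈ R ∧ u ∈ R := by
  obtain ⟨z, hz, hzt, hzu⟩ := exists_central_inv_of_even ht hu he
  obtain ⟨R, hzR⟩ := exists_sylow_of_inv hz
  have hC := centralizer_inv_eq S.ca R hz hzR
  have htH : t ∈ HH R := by
    rw [← hC, Subgroup.mem_centralizer_iff]
    intro y hy
    rw [Set.mem_singleton_iff] at hy
    rw [hy]; exact hzt
  have huH : u ∈ HH R := by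
    rw [← hC, Subgroup.mem_centralizer_iff]
    intro y hy
    rw [Set.mem_singleton_iff] at hy
    rw [hy]; exact hzu
  exact ⟨R, mem_sylow_of_two_elt S.ca R htH ⟨1, by rw [ht, pow_one]⟩,
    mem_sylow_of_two_elt S.ca R huH ⟨1, by rw [hu, pow_one]⟩⟩

/-- (I12) any two involutions are conjugate by an element of the subgroup generated by the involutions.
If `t*u` has odd order use (G4). Otherwise `t, u ∈ R` for one Sylow `R`; take `Q ≠ R` (I16) and an involution
`w ∈ Q`; `t*w` and `w*u` have odd order (else `t, w` would be in a common Sylow, which is `R` and `Q` by (I5)), so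
`t ~ w ~ u` via two involutions (G4). -/
theorem conj_inv (S : Setup G) {t u : G} (ht : orderOf t = 2) (hu : orderOf u = 2) :
    ∃ g ∈ Subgroup.closure {s : G | orderOf s = 2}, g * t * g⁻¹ = u := by
  rcases Nat.even_or_odd (orderOf (t * u)) with he | ho
  · obtain ⟨R, htR, huR⟩ := same_sylow_of_even S ht hu he
    obtain ⟨Q, hQR⟩ := exists_ne_sylow S R
    obtain ⟨w, hw, hwQ⟩ := exists_inv_mem S Q
    have hodd1 : Odd (orderOf (t * w)) := by
      rw [← Nat.not_even_iff_odd]
      intro hev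
      obtain ⟨R', htR', hwR'⟩ := same_sylow_of_even S ht hw hev
      have e1 : R = R' := sylow_eq_of_inv S.ca R R' ht htR htR'
      have e2 : R' = Q := sylow_eq_of_inv S.ca R' Q hw hwR' hwQ
      exact hQR (e1.trans e2).symm
    have hodd2 : Odd (orderOf (w * u)) := by
      rw [← Nat.not_even_iff_odd]
      intro hev
      obtain ⟨R', hwR', huR'⟩ := same_sylow_of_even S hw hu hev
      have e1 : R = R' := sylow_eq_of_inv S.ca R R' hu huR huR'
      have e2 : R' = Q := sylow_eq_of_inv S.ca R' Q hw hwR' hwQ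
      exact hQR (e1.trans e2).symm
    obtain ⟨v₁, hv₁, hc₁, -⟩ := exists_inv_conj_of_odd ht hw hodd1
    obtain ⟨v₂, hv₂, hc₂, -⟩ := exists_inv_conj_of_odd hw hu hodd2
    refine ⟨v₂ * v₁, mul_mem (Subgroup.subset_closure hv₂) (Subgroup.subset_closure hv₁), ?_⟩
    rw [← hc₂, ← hc₁]
    group
  · obtain ⟨v, hv, hc, -⟩ := exists_inv_conj_of_odd ht hu ho
    exact ⟨v, Subgroup.subset_closure hv, hc⟩

/-- (I13) `N(P)` is transitive on the involutions of `P` (the conjugating element of (I12) fixes `P` by (I5)). -/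
theorem NN_trans (S : Setup G) (P : Sylow 2 G) {t t' : G} (ht : orderOf t = 2) (htP : t ∈ P)
    (ht' : orderOf t' = 2) (ht'P : t' ∈ P) :
    ∃ n ∈ NN P, n ∈ Subgroup.closure {s : G | orderOf s = 2} ∧ n * t * n⁻¹ = t' := by
  obtain ⟨g, hg, hc⟩ := conj_inv S ht ht'
  refine ⟨g, ?_, hg, hc⟩
  have h1 : g * t * g⁻¹ ∈ g • P := ((conj_mem_iff P g t).2.2.2).mpr htP
  rw [hc] at h1
  have h2 : g • P = P := sylow_eq_of_inv S.ca (g • P) P ht' h1 ht'P
  exact ((basic_le P).2.2.2.1 g).mp h2

omit [Finite G] in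
theorem IC_orderOf_conj (g x : G) : orderOf (g * x * g⁻¹) = orderOf x := by
  have h : SemiconjBy g x (g * x * g⁻¹) := by
    unfold SemiconjBy
    group
  exact (h.orderOf_eq g).symm

/-- orbit–stabilizer: the stabilizer of `t` in `N(P)` is `C(t) ∩ N(P) = C(P)` (I2). -/
theorem card_NN (S : Setup G) (P : Sylow 2 G) : Nat.card (NN P) = Nat.card (HH P) * ff P := by
  classical
  obtain ⟨t, ht, htP⟩ := exists_inv_mem S P
  have hHN : HH P ≤ NN P := (basic_le P).2.1
  have hC := centralizer_inv_eq S.ca P ht htP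
  -- representatives
  have hrep : ∀ s : ↥(Inv (P : Subgroup G)), ∃ n ∈ NN P, n * t * n⁻¹ = (s : G) := by
    intro s
    obtain ⟨n, hn, -, hc⟩ := NN_trans S P ht htP s.2.1 s.2.2
    exact ⟨n, hn, hc⟩
  choose rep hrepN hrepc using hrep
  have hcent : ∀ c ∈ HH P, c * t * c⁻¹ = t := by
    intro c hc
    rw [← hC, Subgroup.mem_centralizer_iff] at hc
    have := hc t (Set.mem_singleton t)
    rw [← this, mul_inv_cancel_right]
  let φ : ↥(HH P) × ↥(Inv (P : Subgroup G)) → ↥(NN P) :=
    fun cs => ⟨rep cs.2 * (cs.1 : G), mul_mem (hrepN cs.2) (hHN cs.1.2)⟩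
  have hφconj : ∀ cs : ↥(HH P) × ↥(Inv (P : Subgroup G)),
      ((φ cs : ↥(NN P)) : G) * t * ((φ cs : ↥(NN P)) : G)⁻¹ = (cs.2 : G) := by
    intro cs
    show (rep cs.2 * (cs.1 : G)) * t * (rep cs.2 * (cs.1 : G))⁻¹ = (cs.2 : G)
    have e : (rep cs.2 * (cs.1 : G)) * t * (rep cs.2 * (cs.1 : G))⁻¹ =
        rep cs.2 * ((cs.1 : G) * t * (cs.1 : G)⁻¹) * (rep cs.2)⁻¹ := by group
    rw [e, hcent _ cs.1.2, hrepc]
  have hbij : Function.Bijective φ := by
    constructor
    · rintro ⟨c, s⟩ ⟨c', s'⟩ h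
      have h1 := hφconj (c, s)
      have h2 := hφconj (c', s')
      rw [h] at h1
      have hs : s = s' := Subtype.ext (h1.symm.trans h2)
      subst hs
      have h3 : rep s * (c : G) = rep s * (c' : G) := congrArg Subtype.val h
      have hc : c = c' := Subtype.ext (mul_left_cancel h3)
      rw [hc]
    · rintro ⟨n, hn⟩
      have hnP : n • P = P := ((basic_le P).2.2.2.1 n).mpr hn
      have hsP : n * t * n⁻¹ ∈ P := by
        have h1 : n * t * n⁻¹ ∈ n • P := ((conj_mem_iff P n t).2.2.2).mpr htP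
        rw [hnP] at h1
        exact h1
      let s : ↥(Inv (P : Subgroup G)) := ⟨n * t * n⁻¹, (IC_orderOf_conj n t).trans ht, hsP⟩
      have hcH : (rep s)⁻¹ * n ∈ HH P := by
        rw [← hC, Subgroup.mem_centralizer_iff]
        intro y hy
        rw [Set.mem_singleton_iff] at hy
        rw [hy]
        have h1 : rep s * t * (rep s)⁻¹ = n * t * n⁻¹ := hrepc s
        calc t * ((rep s)⁻¹ * n) = (rep s)⁻¹ * (rep s * t * (rep s)⁻¹) * n := by group
          _ = (rep s)⁻¹ * (n * t * n⁻¹) * n := by rw [h1]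
          _ = (rep s)⁻¹ * n * t := by group
      refine ⟨(⟨(rep s)⁻¹ * n, hcH⟩, s), ?_⟩
      apply Subtype.ext
      show rep s * ((rep s)⁻¹ * n) = n
      group
  have hcard := Nat.card_congr (Equiv.ofBijective φ hbij)
  rw [Nat.card_prod] at hcard
  rw [← hcard]
  rfl

/-- the subgroup generated by the involutions is transitive on the Sylow 2-subgroups ((I12), (I5)). -/
theorem sylow_trans (S : Setup G) (P Q : Sylow 2 G) :
    ∃ g ∈ Subgroup.closure {s : G | orderOf s = 2}, g • P = Q := by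
  obtain ⟨t, ht, htP⟩ := exists_inv_mem S P
  obtain ⟨u, hu, huQ⟩ := exists_inv_mem S Q
  obtain ⟨g, hg, hc⟩ := conj_inv S ht hu
  refine ⟨g, hg, ?_⟩
  have h1 : g * t * g⁻¹ ∈ g • P := ((conj_mem_iff P g t).2.2.2).mpr htP
  rw [hc] at h1
  exact sylow_eq_of_inv S.ca (g • P) Q hu h1 huQ

end Cfsg.Agent.Helper21.CA
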