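import Cfsg.Agent.Helper21.CADefs

/-!
# S2202 piece QA : easy reductions (Mathlib + CADefs only).
-/

set_option autoImplicit false
set_option linter.unusedSectionVars false
open scoped Pointwise

namespace Cfsg.Agent.Helper21.CA

universe u
variable {G : Type u} [Group G] [Finite G]

/-- (Q0) `C_H(t)` embeds in `C_G(t)`. -/
theorem CA2.subgroup (hCA : CA2 G) (H : Subgroup G) : CA2 ↥H := by
  intro t ht
  have htG : orderOf (t : G) = 2 := by rw [Subgroup.orderOf_coe]; exact ht
  have hc := hCA (t : G) htG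
  have hmem : ∀ a : ↥(Subgroup.centralizer ({t} : Set ↥H)),
      ((a : ↥H) : G) ∈ Subgroup.centralizer ({(t : G)} : Set G) := by
    intro a
    rw [Subgroup.mem_centralizer_singleton_iff]
    have h1 := Subgroup.mem_centralizer_singleton_iff.1 a.2
    have h2 := congrArg Subtype.val h1
    simpa using h2
  refine ⟨⟨fun a b => ?_⟩⟩
  have h3 := hc.is_comm.comm ⟨((a : ↥H) : G), hmem a⟩ ⟨((b : ↥H) : G), hmem b⟩
  have h4 := congrArg Subtype.val h3
  apply Subtype.ext
  apply Subtype.ext
  simpa using h4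

/-- (Q4) Sylow 2-subgroups are conjugate: if one is cyclic (normal) all are. -/
theorem setup_of_not (hCA : CA2 G) (h1 : ¬ ∀ P : Sylow 2 G, IsCyclic ↥P)
    (h2 : ¬ ∀ P : Sylow 2 G, (P : Subgroup G).Normal) : Setup G := by
  have : Fact (Nat.Prime 2) := ⟨Nat.prime_two⟩
  refine ⟨hCA, ?_, ?_⟩
  · intro P hP
    apply h2
    intro Q
    obtain ⟨g, hg⟩ := MulAction.exists_smul_eq G P Q
    rw [← hg, Sylow.smul_eq_of_normal]
    exact hP
  · intro P hP
    apply h1
    intro Q
    exact isCyclic_of_surjective (Sylow.equiv P Q) (MulEquiv.surjective _)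

/-- same with existential hypotheses. -/
theorem setup_of_exists (hCA : CA2 G) (h1 : ∃ P : Sylow 2 G, ¬ IsCyclic ↥P)
    (h2 : ∃ P : Sylow 2 G, ¬ (P : Subgroup G).Normal) : Setup G := by
  apply setup_of_not hCA
  · intro h
    obtain ⟨P, hP⟩ := h1
    exact hP (h P)
  · intro h
    obtain ⟨P, hP⟩ := h2
    exact hP (h P)

theorem QA_KK_le_HH (P : Sylow 2 G) : KK P ≤ HH P := by
  unfold KK
  rw [Subgroup.closure_le]
  intro x hx
  exact hx.1

/-- (Q3) `C = C(k)`, `k ∈ K_P ≤ C(P)`, so `P ≤ C` and `P.subtype _ : Sylow 2 C`, isomorphic to `P`, is not cyclic: the first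
alternative of `Concl C` fails; the second says `P` is normal in `C`, i.e. `C ≤ N(P)`. -/
theorem concl_centralizer (S : Setup G) (P : Sylow 2 G) {k : G} (hk : k ∈ KK P)
    (hC : Concl ↥(Subgroup.centralizer ({k} : Set G))) :
    Subgroup.centralizer ({k} : Set G) ≤ NN P ∨ IsSL2xA ↥(Subgroup.centralizer ({k} : Set G)) := by
  have : Fact (Nat.Prime 2) := ⟨Nat.prime_two⟩
  have hkH : k ∈ HH P := QA_KK_le_HH P hk
  have hPC : (P : Subgroup G) ≤ Subgroup.centralizer ({k} : Set G) := by
    intro x hx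
    rw [Subgroup.mem_centralizer_singleton_iff]
    exact (Subgroup.mem_centralizer_iff.1 hkH) x hx
  rcases hC with hcyc | hnorm | hsl
  · exfalso
    have h1 : IsCyclic ↥((P : Subgroup G).subgroupOf (Subgroup.centralizer ({k} : Set G))) :=
      hcyc (P.subtype hPC)
    apply S.nc P
    exact isCyclic_of_surjective (Subgroup.subgroupOfEquivOfLe hPC) (MulEquiv.surjective _)
  · left
    have hn : ((P : Subgroup G).subgroupOf (Subgroup.centralizer ({k} : Set G))).Normal :=
      hnorm (P.subtype hPC)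
    have key : ∀ c ∈ Subgroup.centralizer ({k} : Set G), ∀ x ∈ (P : Subgroup G),
        c * x * c⁻¹ ∈ (P : Subgroup G) := by
      intro c hc x hx
      have h1 := hn.conj_mem ⟨x, hPC hx⟩ (by rw [Subgroup.mem_subgroupOf]; exact hx) ⟨c, hc⟩
      rw [Subgroup.mem_subgroupOf] at h1
      simpa using h1
    intro c hc
    unfold NN
    rw [Subgroup.mem_normalizer_iff]
    intro x
    constructor
    · intro hx
      exact key c hc x hx
    · intro hx
      have h1 := key c⁻¹ (inv_mem hc) _ hx
      have h2 : c⁻¹ * (c * x * c⁻¹) * c⁻¹⁻¹ = x := by group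
      rw [h2] at h1
      exact h1
  · right
    exact hsl

theorem closure_inv_closure_inv :
    Subgroup.closure {t : ↥(Subgroup.closure {t : G | orderOf t = 2}) | orderOf t = 2} = ⊤ := by
  rw [eq_top_iff]
  rintro ⟨x, hx⟩ -
  induction hx using Subgroup.closure_induction with
  | mem t ht =>
    apply Subgroup.subset_closure
    show orderOf (⟨t, _⟩ : ↥(Subgroup.closure {t : G | orderOf t = 2})) = 2
    rw [← Subgroup.orderOf_coe]
    exact ht
  | one => exact one_mem _
  | mul a b ha hb iha ihb => exact mul_mem iha ihb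
  | inv a ha iha => exact inv_mem iha

/-- (R1a) a group generated by involutions which is `SL₂(F) × A` (`A` of odd order) is `SL₂(F)`:
the projection to `A` kills every involution, hence is trivial, and it is onto, so `A = 1`. -/
theorem isSL2_of_isSL2xA (h : IsSL2xA G) (hgen : Subgroup.closure {t : G | orderOf t = 2} = ⊤) :
    IsSL2 G := by
  obtain ⟨F, iF, iFt, A, iA, iAf, hchar, hodd, ⟨e⟩⟩ := h
  let π : G →* A := (MonoidHom.snd (Matrix.SpecialLinearGroup (Fin 2) F) A).comp e.toMonoidHom
  have hker : Subgroup.closure {t : G | orderOf t = 2} ≤ π.ker := by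
    rw [Subgroup.closure_le]
    intro t ht
    rw [SetLike.mem_coe, MonoidHom.mem_ker]
    have ht2 : orderOf t = 2 := ht
    have h2 : (π t) ^ 2 = 1 := by rw [← map_pow, ← ht2, pow_orderOf_eq_one, map_one]
    have hd1 : orderOf (π t) ∣ 2 := orderOf_dvd_of_pow_eq_one h2
    have hd2 : orderOf (π t) ∣ Nat.card A := orderOf_dvd_natCard _
    have hcop : Nat.Coprime 2 (Nat.card A) := Nat.coprime_two_left.2 hodd
    have h1 : orderOf (π t) = 1 := Nat.eq_one_of_dvd_coprimes hcop hd1 hd2
    exact orderOf_eq_one_iff.1 h1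
  have hπ : ∀ g, π g = 1 := by
    intro g
    have hg : g ∈ Subgroup.closure {t : G | orderOf t = 2} := by rw [hgen]; trivial
    exact MonoidHom.mem_ker.1 (hker hg)
  have hone : ∀ a : A, a = 1 := by
    intro a
    have h1 := hπ (e.symm (1, a))
    simpa [π] using h1
  have : Unique A := ⟨⟨1⟩, fun a => hone a⟩
  exact ⟨F, iF, iFt, hchar, ⟨e.trans MulEquiv.prodUnique⟩⟩

end Cfsg.Agent.Helper21.CA
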