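import Cfsg.Agent.Helper21.CA.SE
import Cfsg.Agent.Helper21.CA.IB
import Cfsg.Agent.Helper21.CA.IC
import Cfsg.Agent.Helper21.CA.QA
import Cfsg.Agent.Helper21.CA.FA

/-!
# S2202 piece BA : Case B (`C(k) ≃* SL₂(F) × A` for some `1 ≠ k ∈ K_P` with `C(k) ≰ N(P)`): `M = C(k)` controls the fusion of its
involutions, and an odd-order subgroup of `L ≃ SL₂(F)` is transitive on the involutions of `L`. Uses SE, IA, IB, IC, QA, FA.
-/

set_option autoImplicit false
open scoped Pointwise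

namespace Cfsg.Agent.Helper21.CA

universe u
variable {G : Type u} [Group G] [Finite G]

/-- The data extracted from `C(k) ≃* SL₂(F) × A`: `L` is the preimage of `SL₂(F) × 1`. -/
structure BData (P : Sylow 2 G) (k : G) (L : Subgroup G) : Prop where
  kK : k ∈ KK P
  k1 : k ≠ 1
  PL : (P : Subgroup G) ≤ L
  comm : ∀ l ∈ L, ∀ a ∈ KK P, l * a = a * l
  cent : Subgroup.centralizer ({k} : Set G) = L ⊔ KK P
  disj : L ⊓ KK P = ⊥
  cardL : Nat.card L = Nat.card P * (Nat.card P ^ 2 - 1)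
  exp2 : ∀ x ∈ P, x ^ 2 = 1
  self : HH P ⊓ L = (P : Subgroup G)

section pb
omit [Finite G]
variable {S₀ A₀ : Type*} [Group S₀] [Group A₀] {C : Subgroup G}

/-- pull back a product subgroup along `φ : C ≃* S₀ × A₀` and push it into `G`. -/
def BA_pb (φ : C ≃* S₀ × A₀) (H : Subgroup S₀) (K : Subgroup A₀) : Subgroup G :=
  ((H.prod K).comap φ.toMonoidHom).map C.subtype

theorem BA_mem_pb (φ : C ≃* S₀ × A₀) (H : Subgroup S₀) (K : Subgroup A₀) (x : C) :
    (x : G) ∈ BA_pb φ H K ↔ (φ x).1 ∈ H ∧ (φ x).2 ∈ K := by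
  unfold BA_pb
  constructor
  · rintro ⟨y, hy, hyx⟩
    have : y = x := Subtype.ext hyx
    subst this
    exact Subgroup.mem_prod.1 hy
  · intro h
    exact ⟨x, Subgroup.mem_prod.2 h, rfl⟩

theorem BA_pb_le (φ : C ≃* S₀ × A₀) (H : Subgroup S₀) (K : Subgroup A₀) : BA_pb φ H K ≤ C := by
  unfold BA_pb
  exact Subgroup.map_subtype_le _

theorem BA_pow_eq_one_of_coprime {M : Type*} [Monoid M] {g : M} {m n : ℕ} (hm : g ^ m = 1)
    (hn : g ^ n = 1) (hmn : Nat.Coprime m n) : g = 1 := by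
  have := pow_gcd_eq_one.2 ⟨hm, hn⟩
  rwa [hmn.gcd_eq_one, pow_one] at this

end pb

/-- (B1) Let `C = C(k)`, `φ : C ≃* SL₂(F) × A`, `L` = preimage of `SL₂(F) × 1`, `A'` = preimage of `1 × A` (as subgroups of `G`).
`P ≤ C` as `k ∈ C(P)`; `P` is a Sylow 2-subgroup of `C` and 2-elements of `SL₂(F) × A` (`#A` odd) lie in `SL₂(F) × 1`: `P ≤ L`, and `P`
corresponds to a Sylow 2-subgroup `U` of `SL₂(F)`: `#P = q`, exponent 2 (F3), `#L = q(q²-1)` (F1). `C(P)` is abelian and contains `k`, so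
`C(P) ≤ C` and `C(P) = C_C(P) ↔ C(U × 1) = U × A` (F3): `C(P) = P × A'`, so `K_P = A'` (odd-order elements, (I9)) and `C(P) ∩ L = P`. -/
theorem exists_BData (S : Setup G) (P : Sylow 2 G) {k : G} (hk : k ∈ KK P) (hk1 : k ≠ 1)
    (h : IsSL2xA ↥(Subgroup.centralizer ({k} : Set G))) : ∃ L : Subgroup G, BData P k L := by
  classical
  have : Fact (Nat.Prime 2) := ⟨Nat.prime_two⟩
  obtain ⟨F, _, _, A, _, _, hchar, hAodd, ⟨φ⟩⟩ := h
  have := hchar
  obtain ⟨t₀, ht₀, ht₀P⟩ := exists_inv_mem S P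
  have hne : ∃ t : G, orderOf t = 2 ∧ t ∈ P := ⟨t₀, ht₀, ht₀P⟩
  have hKH : KK P ≤ HH P := (basic_le P).1
  have hkH : k ∈ HH P := hKH hk
  have hHC : HH P ≤ Subgroup.centralizer ({k} : Set G) := by
    intro x hx
    rw [Subgroup.mem_centralizer_iff]
    intro y hy
    rw [Set.mem_singleton_iff] at hy
    subst hy
    exact HH_comm S.ca P hne y hkH x hx
  obtain ⟨hHmul, hPK, hcardH, hKodd, hPH⟩ := HH_eq_mul S.ca P hne
  have hPC : (P : Subgroup G) ≤ Subgroup.centralizer ({k} : Set G) := hPH.trans hHC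
  -- (b) the `A`-component of `φ p` is trivial for `p ∈ P`
  have hb : ∀ x : ↥(Subgroup.centralizer ({k} : Set G)), (x : G) ∈ P → (φ x).2 = 1 := by
    intro x hx
    obtain ⟨j, hj⟩ := IA_orderOf_of_mem P hx
    have h1 : (φ x).2 ^ (2 ^ j) = 1 := by
      have : x ^ (2 ^ j) = 1 := by
        apply Subtype.ext
        rw [Subgroup.coe_pow, ← hj, pow_orderOf_eq_one]; rfl
      have h2 : (φ x) ^ (2 ^ j) = 1 := by rw [← map_pow, this, map_one]
      have := congrArg Prod.snd h2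
      simpa using this
    have h2 : (φ x).2 ^ (Nat.card A) = 1 := pow_card_eq_one'
    exact BA_pow_eq_one_of_coprime h1 h2 (Nat.Coprime.pow_left j (Nat.coprime_two_left.2 hAodd))
  -- (c) the image of `P` in `SL₂(F)` lies in a Sylow 2-subgroup `U'`
  have hU₀ : IsPGroup 2 ↥((((P : Subgroup G).subgroupOf (Subgroup.centralizer ({k} : Set G))).map
      ((MonoidHom.fst _ A).comp φ.toMonoidHom))) :=
    (P.isPGroup'.comap_subtype).map _
  obtain ⟨U', hU'⟩ := hU₀.exists_le_sylow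
  have hfstU : ∀ x : ↥(Subgroup.centralizer ({k} : Set G)), (x : G) ∈ P → (φ x).1 ∈ U' := by
    intro x hx
    apply hU'
    exact ⟨x, Subgroup.mem_subgroupOf.2 hx, rfl⟩
  obtain ⟨hcardU, hexpU, hcentU⟩ := sylow_two_SL2 F U'
  -- (d), (e) `P` is the pullback of `U' × 1`
  have hPeq : BA_pb φ (U' : Subgroup (Matrix.SpecialLinearGroup (Fin 2) F)) ⊥ = (P : Subgroup G) := by
    apply P.is_maximal'
    · intro ⟨x, hx⟩
      have hxC := BA_pb_le φ _ _ hx
      have hx' := (BA_mem_pb φ _ _ ⟨x, hxC⟩).1 hx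
      obtain ⟨j, hj⟩ := U'.isPGroup' ⟨_, hx'.1⟩
      refine ⟨j, ?_⟩
      apply Subtype.ext
      have hj' : (φ ⟨x, hxC⟩).1 ^ (2 ^ j) = 1 := by
        have := congrArg Subtype.val hj
        simpa using this
      have h2 : (φ ⟨x, hxC⟩) ^ (2 ^ j) = 1 := by
        apply Prod.ext
        · simpa using hj'
        · have := Subgroup.mem_bot.1 hx'.2
          simp [this]
      have h3 : (⟨x, hxC⟩ : ↥(Subgroup.centralizer ({k} : Set G))) ^ (2 ^ j) = 1 := by
        apply φ.injective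
        rw [map_pow, h2, map_one]
      have := congrArg Subtype.val h3
      simpa using this
    · intro p hp
      exact (BA_mem_pb φ _ _ ⟨p, hPC hp⟩).2 ⟨hfstU _ hp, Subgroup.mem_bot.2 (hb _ hp)⟩
  -- (f)
  have hf : ∀ x : ↥(Subgroup.centralizer ({k} : Set G)),
      (x : G) ∈ P ↔ (φ x).1 ∈ U' ∧ (φ x).2 = 1 := by
    intro x
    have := BA_mem_pb φ (U' : Subgroup (Matrix.SpecialLinearGroup (Fin 2) F)) ⊥ x
    rw [hPeq, Subgroup.mem_bot] at this
    exact this
  -- (g)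
  have hg : ∀ x : ↥(Subgroup.centralizer ({k} : Set G)), (x : G) ∈ HH P → (φ x).1 ∈ U' := by
    intro x hx
    have : (φ x).1 ∈ Subgroup.centralizer ((U' : Subgroup (Matrix.SpecialLinearGroup (Fin 2) F)) : Set _) := by
      rw [Subgroup.mem_centralizer_iff]
      intro u hu
      have hpP : ((φ.symm (u, 1) : ↥(Subgroup.centralizer ({k} : Set G))) : G) ∈ P := by
        rw [hf]
        simp only [MulEquiv.apply_symm_apply]
        exact ⟨hu, trivial⟩
      have hcomm : (φ.symm (u, 1) : ↥(Subgroup.centralizer ({k} : Set G))) * x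
          = x * φ.symm (u, 1) := by
        apply Subtype.ext
        exact (Subgroup.mem_centralizer_iff.1 hx) _ hpP
      have := congrArg (fun z => (φ z).1) hcomm
      simpa using this
    rwa [hcentU] at this
  -- (h)
  have hh : ∀ x : ↥(Subgroup.centralizer ({k} : Set G)), (x : G) ∈ KK P → (φ x).1 = 1 := by
    intro x hx
    obtain ⟨hxH, hxo⟩ := (mem_KK_iff S.ca P hne).1 hx
    have h1 : (φ x).1 ^ 2 = 1 := hexpU _ (hg x hxH)
    have h2 : (φ x).1 ^ (orderOf (x : G)) = 1 := by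
      have : x ^ (orderOf (x : G)) = 1 := by
        apply Subtype.ext
        rw [Subgroup.coe_pow, pow_orderOf_eq_one]; rfl
      have h3 : (φ x) ^ (orderOf (x : G)) = 1 := by rw [← map_pow, this, map_one]
      have := congrArg Prod.fst h3
      simpa using this
    exact BA_pow_eq_one_of_coprime h1 h2 (Nat.coprime_two_left.2 hxo)
  -- (i)
  have hi : ∀ x : ↥(Subgroup.centralizer ({k} : Set G)), (φ x).1 = 1 → (x : G) ∈ KK P := by
    intro x hx
    rw [mem_KK_iff S.ca P hne]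
    constructor
    · rw [HH, Subgroup.mem_centralizer_iff]
      intro p hp
      have hp2 := hb ⟨p, hPC hp⟩ hp
      have : (⟨p, hPC hp⟩ : ↥(Subgroup.centralizer ({k} : Set G))) * x = x * ⟨p, hPC hp⟩ := by
        apply φ.injective
        rw [map_mul, map_mul]
        apply Prod.ext
        · simp [hx]
        · simp [hp2]
      exact congrArg Subtype.val this
    · have h1 : x ^ (Nat.card A) = 1 := by
        apply φ.injective
        rw [map_pow, map_one]
        apply Prod.ext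
        · simp [hx]
        · simp
      have h2 : (x : G) ^ (Nat.card A) = 1 := by
        have := congrArg Subtype.val h1
        simpa using this
      exact Odd.of_dvd_nat hAodd (orderOf_dvd_of_pow_eq_one h2)
  -- membership in `L`
  have hL : ∀ x : ↥(Subgroup.centralizer ({k} : Set G)),
      (x : G) ∈ BA_pb φ (⊤ : Subgroup (Matrix.SpecialLinearGroup (Fin 2) F)) (⊥ : Subgroup A) ↔
        (φ x).2 = 1 := by
    intro x
    rw [BA_mem_pb, Subgroup.mem_bot]
    exact ⟨fun h => h.2, fun h => ⟨Subgroup.mem_top _, h⟩⟩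
  have hLC : BA_pb φ (⊤ : Subgroup (Matrix.SpecialLinearGroup (Fin 2) F)) (⊥ : Subgroup A) ≤
      Subgroup.centralizer ({k} : Set G) := BA_pb_le φ _ _
  have hKC : KK P ≤ Subgroup.centralizer ({k} : Set G) := hKH.trans hHC
  have hPL : (P : Subgroup G) ≤ BA_pb φ (⊤ : Subgroup (Matrix.SpecialLinearGroup (Fin 2) F)) (⊥ : Subgroup A) := by
    intro p hp
    exact (hL ⟨p, hPC hp⟩).2 (hb _ hp)
  -- cardinalities
  have hcardL : Nat.card ↥(BA_pb φ (⊤ : Subgroup (Matrix.SpecialLinearGroup (Fin 2) F)) (⊥ : Subgroup A))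
      = Nat.card (Matrix.SpecialLinearGroup (Fin 2) F) := by
    refine Nat.card_congr (Equiv.ofBijective
      (fun l => (φ ⟨(l : G), hLC l.2⟩).1) ⟨?_, ?_⟩)
    · intro l l' hll'
      have h1 := (hL ⟨(l : G), hLC l.2⟩).1 l.2
      have h2 := (hL ⟨(l' : G), hLC l'.2⟩).1 l'.2
      have : (⟨(l : G), hLC l.2⟩ : ↥(Subgroup.centralizer ({k} : Set G))) = ⟨(l' : G), hLC l'.2⟩ := by
        apply φ.injective
        apply Prod.ext
        · exact hll'
        · rw [h1, h2]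
      apply Subtype.ext
      exact congrArg (fun z : ↥(Subgroup.centralizer ({k} : Set G)) => (z : G)) this
    · intro s
      have hmem : ((φ.symm (s, 1) : ↥(Subgroup.centralizer ({k} : Set G))) : G) ∈
          BA_pb φ (⊤ : Subgroup (Matrix.SpecialLinearGroup (Fin 2) F)) (⊥ : Subgroup A) := by
        rw [hL]; simp
      refine ⟨⟨_, hmem⟩, ?_⟩
      simp
  have hcardP : Nat.card ↥(P : Subgroup G) = Nat.card ↥(U' : Subgroup (Matrix.SpecialLinearGroup (Fin 2) F)) := by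
    refine Nat.card_congr (Equiv.ofBijective
      (fun p => ⟨(φ ⟨(p : G), hPC p.2⟩).1, hfstU _ p.2⟩) ⟨?_, ?_⟩)
    · intro p p' hpp'
      have h1 := hb ⟨(p : G), hPC p.2⟩ p.2
      have h2 := hb ⟨(p' : G), hPC p'.2⟩ p'.2
      have h3 : (φ ⟨(p : G), hPC p.2⟩).1 = (φ ⟨(p' : G), hPC p'.2⟩).1 := congrArg Subtype.val hpp'
      have : (⟨(p : G), hPC p.2⟩ : ↥(Subgroup.centralizer ({k} : Set G))) = ⟨(p' : G), hPC p'.2⟩ := by
        apply φ.injective
        apply Prod.ext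
        · exact h3
        · rw [h1, h2]
      apply Subtype.ext
      exact congrArg (fun z : ↥(Subgroup.centralizer ({k} : Set G)) => (z : G)) this
    · intro u
      have hmem : ((φ.symm ((u : Matrix.SpecialLinearGroup (Fin 2) F), 1) :
          ↥(Subgroup.centralizer ({k} : Set G))) : G) ∈ P := by
        rw [hf]; simp
      refine ⟨⟨_, hmem⟩, ?_⟩
      apply Subtype.ext
      simp
  refine ⟨BA_pb φ (⊤ : Subgroup (Matrix.SpecialLinearGroup (Fin 2) F)) (⊥ : Subgroup A), ?_⟩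
  refine
    { kK := hk
      k1 := hk1
      PL := hPL
      comm := ?_
      cent := ?_
      disj := ?_
      cardL := ?_
      exp2 := ?_
      self := ?_ }
  · -- comm
    intro l hl a ha
    have h1 := (hL ⟨l, hLC hl⟩).1 hl
    have h2 := hh ⟨a, hKC ha⟩ ha
    have : (⟨l, hLC hl⟩ : ↥(Subgroup.centralizer ({k} : Set G))) * ⟨a, hKC ha⟩ = ⟨a, hKC ha⟩ * ⟨l, hLC hl⟩ := by
      apply φ.injective
      rw [map_mul, map_mul]
      apply Prod.ext
      · simp [h2]
      · simp [h1]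
    exact congrArg Subtype.val this
  · -- cent
    apply le_antisymm
    · intro x hx
      have hdec : (⟨x, hx⟩ : ↥(Subgroup.centralizer ({k} : Set G))) =
          φ.symm ((φ ⟨x, hx⟩).1, 1) * φ.symm (1, (φ ⟨x, hx⟩).2) := by
        apply φ.injective
        rw [map_mul]
        apply Prod.ext <;> simp
      have hx' : x = ((φ.symm ((φ ⟨x, hx⟩).1, 1) : ↥(Subgroup.centralizer ({k} : Set G))) : G) *
          ((φ.symm (1, (φ ⟨x, hx⟩).2) : ↥(Subgroup.centralizer ({k} : Set G))) : G) := by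
        have := congrArg Subtype.val hdec
        simpa using this
      rw [hx']
      apply Subgroup.mul_mem_sup
      · rw [hL]; simp
      · apply hi; simp
    · exact sup_le hLC hKC
  · -- disj
    rw [eq_bot_iff]
    intro x hx
    obtain ⟨hx1, hx2⟩ := Subgroup.mem_inf.1 hx
    have h1 := (hL ⟨x, hLC hx1⟩).1 hx1
    have h2 := hh ⟨x, hLC hx1⟩ hx2
    have : (⟨x, hLC hx1⟩ : ↥(Subgroup.centralizer ({k} : Set G))) = 1 := by
      apply φ.injective
      rw [map_one]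
      exact Prod.ext h2 h1
    rw [Subgroup.mem_bot]
    exact congrArg Subtype.val this
  · -- cardL
    rw [hcardL, hcardP, hcardU, card_SL2 F]
  · -- exp2
    intro x hx
    obtain ⟨h1, h2⟩ := (hf ⟨x, hPC hx⟩).1 hx
    have h3 := hexpU _ h1
    have : (⟨x, hPC hx⟩ : ↥(Subgroup.centralizer ({k} : Set G))) ^ 2 = 1 := by
      apply φ.injective
      rw [map_pow, map_one]
      apply Prod.ext
      · simpa using h3
      · simp [h2]
    have := congrArg Subtype.val this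
    simpa using this
  · -- self
    apply le_antisymm
    · intro x hx
      obtain ⟨hx1, hx2⟩ := Subgroup.mem_inf.1 hx
      have h1 := (hL ⟨x, hLC hx2⟩).1 hx2
      have h2 := hg ⟨x, hLC hx2⟩ hx1
      exact (hf ⟨x, hLC hx2⟩).2 ⟨h2, h1⟩
    · exact le_inf hPH hPL

omit [Finite G] in
/-- elements of `L ⊔ K` when `L` and `K` commute elementwise. -/
theorem BA_mem_sup {L K : Subgroup G} (hc : ∀ l ∈ L, ∀ a ∈ K, l * a = a * l) {x : G} :
    x ∈ L ⊔ K ↔ ∃ l ∈ L, ∃ a ∈ K, x = l * a := by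
  constructor
  · intro hx
    rw [Subgroup.sup_eq_closure] at hx
    induction hx using Subgroup.closure_induction with
    | mem y hy =>
      rcases hy with hy | hy
      · exact ⟨y, hy, 1, one_mem _, by simp⟩
      · exact ⟨1, one_mem _, y, hy, by simp⟩
    | one => exact ⟨1, one_mem _, 1, one_mem _, by simp⟩
    | mul y z _ _ hy hz =>
      obtain ⟨l, hl, a, ha, rfl⟩ := hy
      obtain ⟨l', hl', a', ha', rfl⟩ := hz
      refine ⟨l * l', mul_mem hl hl', a * a', mul_mem ha ha', ?_⟩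
      have := hc l' hl' a ha
      calc l * a * (l' * a') = l * (a * l') * a' := by group
        _ = l * (l' * a) * a' := by rw [this]
        _ = l * l' * (a * a') := by group
    | inv y _ hy =>
      obtain ⟨l, hl, a, ha, rfl⟩ := hy
      refine ⟨l⁻¹, inv_mem hl, a⁻¹, inv_mem ha, ?_⟩
      have := hc l⁻¹ (inv_mem hl) a⁻¹ (inv_mem ha)
      rw [mul_inv_rev, this]
  · rintro ⟨l, hl, a, ha, rfl⟩
    exact Subgroup.mul_mem_sup hl ha

/-- `L` itself satisfies `Setup`: `CA2` by (Q0); the Sylow 2-subgroup `P.subtype hB.PL` of `L` is isomorphic to `P`, not cyclic;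
not normal in `L` because `L ≰ N(P)` (as `C(k) = L ⊔ K_P ≰ N(P)` and `K_P ≤ N(P)`); `setup_of_exists`. -/
theorem setup_of_BData (S : Setup G) (P : Sylow 2 G) {k : G} {L : Subgroup G}
    (hB : BData P k L) (hnot : ¬ Subgroup.centralizer ({k} : Set G) ≤ NN P) : Setup ↥L := by
  have : Fact (Nat.Prime 2) := ⟨Nat.prime_two⟩
  apply setup_of_exists (CA2.subgroup S.ca L)
  · refine ⟨P.subtype hB.PL, ?_⟩
    intro hcyc
    apply S.nc P
    have e : ↥((P.subtype hB.PL : Sylow 2 ↥L) : Subgroup ↥L) ≃* ↥(P : Subgroup G) := by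
      rw [Sylow.coe_subtype]
      exact Subgroup.subgroupOfEquivOfLe hB.PL
    exact isCyclic_of_surjective e e.surjective
  · refine ⟨P.subtype hB.PL, ?_⟩
    intro hnorm
    apply hnot
    rw [Sylow.coe_subtype, Subgroup.normal_subgroupOf_iff_le_normalizer hB.PL] at hnorm
    rw [hB.cent]
    apply sup_le
    · exact hnorm
    · exact (basic_le P).1.trans (basic_le P).2.1

/-- involutions of `L ⊔ K_P` lie in `L`. -/
theorem BA_inv_mem_L (S : Setup G) (P : Sylow 2 G) {k : G} {L : Subgroup G} (hB : BData P k L) :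
    ∀ t : G, orderOf t = 2 → t ∈ L ⊔ KK P → t ∈ L := by
  intro t ht htM
  obtain ⟨l, hl, a, ha, rfl⟩ := (BA_mem_sup hB.comm).1 htM
  have hne := exists_inv_mem S P
  have hsq : (l * a) * (l * a) = 1 := SE_mul_self ht
  have hc := hB.comm l hl a ha
  have h1 : a * a = (l * l)⁻¹ := by
    have : (l * l) * (a * a) = 1 := by
      calc (l * l) * (a * a) = l * (l * a) * a := by group
        _ = l * (a * l) * a := by rw [hc]
        _ = (l * a) * (l * a) := by group
        _ = 1 := hsq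
    exact eq_inv_of_mul_eq_one_right this
  have h2 : a * a ∈ L ⊓ KK P := by
    refine Subgroup.mem_inf.2 ⟨?_, mul_mem ha ha⟩
    rw [h1]
    exact inv_mem (mul_mem hl hl)
  rw [hB.disj, Subgroup.mem_bot] at h2
  have h3 : a ^ 2 = 1 := by rw [pow_two]; exact h2
  have hodd := ((mem_KK_iff S.ca P hne).1 ha).2
  have h4 : a = 1 :=
    BA_pow_eq_one_of_coprime h3 (pow_orderOf_eq_one a) (Nat.coprime_two_left.2 hodd)
  rw [h4, mul_one]
  exact hl

/-- (B4) `M = L ⊔ K_P = C(k)`. Involutions of `M`: `t = l a` with `l ∈ L`, `a ∈ K_P` commuting, `1 = t² = l² a²` gives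
`a² ∈ L ∩ K_P = 1`, `a = 1` (odd order). `M ≠ ⊤`: `k ≠ 1` is not central. `SE M`: if `t, g t g⁻¹ ∈ M` are involutions, both are in `L`,
hence conjugate in `L` ((I12) in `L`): `(l g) t (l g)⁻¹ = t`; `t = l₁ t₀ l₁⁻¹` with `t₀ ∈ P`, `l₁ ∈ L` ((I12) in `L` again), so
`C(t) = l₁ C(P) l₁⁻¹ ≤ M` as `C(P) = P K_P ≤ M` (I11); thus `l g ∈ M` and `g ∈ M`. -/
theorem SE_of_BData (S : Setup G) (hZ : Subgroup.center G = ⊥) (P : Sylow 2 G) {k : G}
    {L : Subgroup G} (hB : BData P k L) (hnot : ¬ Subgroup.centralizer ({k} : Set G) ≤ NN P) :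
    SE (L ⊔ KK P) ∧ L ⊔ KK P ≠ ⊤ ∧ (∀ t : G, orderOf t = 2 → t ∈ L ⊔ KK P → t ∈ L) := by
  have hinv := BA_inv_mem_L S P hB
  refine ⟨?_, ?_, hinv⟩
  · intro g t ht htM hgt
    have hne := exists_inv_mem S P
    obtain ⟨t₀, ht₀, ht₀P⟩ := hne
    have SL : Setup ↥L := setup_of_BData S P hB hnot
    have htL : t ∈ L := hinv t ht htM
    have hu2 : orderOf (g * t * g⁻¹) = 2 := by rw [IA_orderOf_conj]; exact ht
    have huL : g * t * g⁻¹ ∈ L := hinv _ hu2 hgt
    have hLM : L ≤ L ⊔ KK P := le_sup_left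
    -- conjugate `g t g⁻¹` back to `t` inside `L`
    obtain ⟨l, -, hl⟩ := conj_inv SL (t := ⟨g * t * g⁻¹, huL⟩) (u := ⟨t, htL⟩)
      (by rw [← Subgroup.orderOf_coe]; exact hu2) (by rw [← Subgroup.orderOf_coe]; exact ht)
    have hl' : (l : G) * (g * t * g⁻¹) * (l : G)⁻¹ = t := by
      have := congrArg Subtype.val hl
      simpa using this
    -- conjugate `t₀` to `t` inside `L`
    have ht₀L : t₀ ∈ L := hB.PL ht₀P
    obtain ⟨l₁, -, hl₁⟩ := conj_inv SL (t := ⟨t₀, ht₀L⟩) (u := ⟨t, htL⟩)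
      (by rw [← Subgroup.orderOf_coe]; exact ht₀) (by rw [← Subgroup.orderOf_coe]; exact ht)
    have hl₁' : (l₁ : G) * t₀ * (l₁ : G)⁻¹ = t := by
      have := congrArg Subtype.val hl₁
      simpa using this
    -- `l₁⁻¹ (l g) l₁` centralizes `t₀`
    have hcen : (l₁ : G)⁻¹ * ((l : G) * g) * (l₁ : G) ∈ Subgroup.centralizer ({t₀} : Set G) := by
      rw [Subgroup.mem_centralizer_iff]
      intro y hy
      rw [Set.mem_singleton_iff] at hy
      subst hy
      have e1 : y = (l₁ : G)⁻¹ * t * (l₁ : G) := by rw [← hl₁']; group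
      have e2 : (l : G) * g * t = t * ((l : G) * g) := by
        have : (l : G) * g * t * ((l : G) * g)⁻¹ = t := by
          have e3 : (l : G) * g * t * ((l : G) * g)⁻¹ = (l : G) * (g * t * g⁻¹) * (l : G)⁻¹ := by
            group
          rw [e3, hl']
        calc (l : G) * g * t = ((l : G) * g * t * ((l : G) * g)⁻¹) * ((l : G) * g) := by group
          _ = t * ((l : G) * g) := by rw [this]
      calc y * ((l₁ : G)⁻¹ * ((l : G) * g) * (l₁ : G))
          = (l₁ : G)⁻¹ * t * (l₁ : G) * ((l₁ : G)⁻¹ * ((l : G) * g) * (l₁ : G)) := by rw [← e1]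
        _ = (l₁ : G)⁻¹ * (t * ((l : G) * g)) * (l₁ : G) := by group
        _ = (l₁ : G)⁻¹ * ((l : G) * g * t) * (l₁ : G) := by rw [e2]
        _ = (l₁ : G)⁻¹ * ((l : G) * g) * (l₁ : G) * ((l₁ : G)⁻¹ * t * (l₁ : G)) := by group
        _ = (l₁ : G)⁻¹ * ((l : G) * g) * (l₁ : G) * y := by rw [← e1]
    rw [centralizer_inv_eq S.ca P ht₀ ht₀P] at hcen
    -- `C(P) ≤ M`
    have hHM : HH P ≤ L ⊔ KK P := by
      intro h hh
      obtain ⟨s, hs, k', hk', rfl⟩ := (HH_eq_mul S.ca P ⟨t₀, ht₀, ht₀P⟩).1 h hh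
      exact Subgroup.mul_mem_sup (hB.PL hs) hk'
    have h1 := hHM hcen
    have hl₁M : (l₁ : G) ∈ L ⊔ KK P := hLM l₁.2
    have hlM : (l : G) ∈ L ⊔ KK P := hLM l.2
    have h2 : (l : G) * g ∈ L ⊔ KK P := by
      have := mul_mem (mul_mem hl₁M h1) (inv_mem hl₁M)
      have e : (l₁ : G) * ((l₁ : G)⁻¹ * ((l : G) * g) * (l₁ : G)) * (l₁ : G)⁻¹ = (l : G) * g := by
        group
      rwa [e] at this
    have := mul_mem (inv_mem hlM) h2
    have e : (l : G)⁻¹ * ((l : G) * g) = g := by group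
    rwa [e] at this
  · intro htop
    rw [← hB.cent] at htop
    apply hB.k1
    have : k ∈ Subgroup.center G := by
      rw [Subgroup.mem_center_iff]
      intro g
      have hg : g ∈ Subgroup.centralizer ({k} : Set G) := by rw [htop]; exact Subgroup.mem_top g
      exact ((Subgroup.mem_centralizer_iff.1 hg) k rfl).symm
    rw [hZ, Subgroup.mem_bot] at this
    exact this

/-- a finite group without involutions has odd order. -/
theorem BA_odd_card_of_no_inv {H : Type*} [Group H] [Finite H]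
    (h : ∀ x : H, orderOf x ≠ 2) : Odd (Nat.card H) := by
  have : Fact (Nat.Prime 2) := ⟨Nat.prime_two⟩
  by_contra hodd
  have heven : 2 ∣ Nat.card H := (Nat.not_odd_iff_even.1 hodd).two_dvd
  obtain ⟨x, hx⟩ := exists_prime_orderOf_dvd_card' 2 heven
  exact h x hx

set_option linter.unusedVariables false in
/-- (B5) take `g ∉ M`; `J(g) ≠ ∅` by (SE3) (its target contains `g t g⁻¹`); pick `v₀ ∈ J(g)`. `D' = M ∩ gMg⁻¹` contains no involution
(SE2), so has odd order, and is transitive on the involutions of `M`, i.e. of `L` (SE5). Let `X = {l ∈ L | ∃ a ∈ K_P, l a ∈ D'}`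
(the projection of `D'` to `L`; a subgroup since `L`, `K_P` commute elementwise and `L ∩ K_P = 1`); if `(l a)^n = 1`, `n` odd, then
`l^n = a^(-n) ∈ L ∩ K_P = 1`, so `X` has odd order; and `(l a) t (l a)⁻¹ = l t l⁻¹` for `t ∈ L`. -/
theorem exists_odd_transitive_of_BData (S : Setup G) (P : Sylow 2 G) {k : G}
    {L : Subgroup G} (hB : BData P k L) (hSE : SE (L ⊔ KK P)) (hne : L ⊔ KK P ≠ ⊤)
    (hinv : ∀ t : G, orderOf t = 2 → t ∈ L ⊔ KK P → t ∈ L) :
    ∃ X : Subgroup ↥L, Odd (Nat.card X) ∧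
      ∀ t t' : ↥L, orderOf t = 2 → orderOf t' = 2 → ∃ x ∈ X, x * t * x⁻¹ = t' := by
  have hLM : L ≤ L ⊔ KK P := le_sup_left
  have hKM : KK P ≤ L ⊔ KK P := le_sup_right
  -- an element outside `M`
  obtain ⟨g, hg⟩ : ∃ g : G, g ∉ L ⊔ KK P := by
    by_contra hcon
    apply hne
    rw [Subgroup.eq_top_iff']
    intro x
    by_contra hx
    exact hcon ⟨x, hx⟩
  obtain ⟨t₀, ht₀, ht₀P⟩ := exists_inv_mem S P
  have ht₀M : t₀ ∈ L ⊔ KK P := hLM (hB.PL ht₀P)
  -- `J(g)` is not empty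
  obtain ⟨v₀, ⟨hv₀, hv₀g⟩, -⟩ := (SE.bijOn_J hSE hg ht₀ ht₀M).surjOn
    (show g * t₀ * g⁻¹ ∈ {u : G | orderOf u = 2 ∧ g⁻¹ * u * g ∈ L ⊔ KK P} from
      ⟨by rw [SE_orderOf_conj]; exact ht₀, by
        have e : g⁻¹ * (g * t₀ * g⁻¹) * g = t₀ := by group
        rw [e]; exact ht₀M⟩)
  -- `D' = M ∩ gMg⁻¹` has odd order
  have hD'mem : ∀ x : G, x ∈ (L ⊔ KK P) ⊓ (L ⊔ KK P).map (MulAut.conj g).toMonoidHom ↔
      x ∈ L ⊔ KK P ∧ g⁻¹ * x * g ∈ L ⊔ KK P := by
    intro x
    rw [Subgroup.mem_inf, SE_mem_map_conj]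
  have hD'odd : Odd (Nat.card ↥((L ⊔ KK P) ⊓ (L ⊔ KK P).map (MulAut.conj g).toMonoidHom)) := by
    apply BA_odd_card_of_no_inv
    intro x hx
    have hx' := (hD'mem _).1 x.2
    refine SE.no_inv_inter hSE hg hx'.1 hx'.2 ?_
    rw [← hx, Subgroup.orderOf_coe]
  have hD'ord : ∀ x : G, x ∈ L ⊔ KK P → g⁻¹ * x * g ∈ L ⊔ KK P → Odd (orderOf x) := by
    intro x h1 h2
    have hx : x ∈ (L ⊔ KK P) ⊓ (L ⊔ KK P).map (MulAut.conj g).toMonoidHom := (hD'mem x).2 ⟨h1, h2⟩
    have hdvd : orderOf (⟨x, hx⟩ : ↥((L ⊔ KK P) ⊓ (L ⊔ KK P).map (MulAut.conj g).toMonoidHom)) ∣ _ :=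
      orderOf_dvd_natCard _
    rw [← Subgroup.orderOf_coe] at hdvd
    exact Odd.of_dvd_nat hD'odd hdvd
  -- the projection of `D'` to `L`
  let X : Subgroup ↥L :=
    { carrier := {l : ↥L | ∃ a ∈ KK P,
        (l : G) * a ∈ (L ⊔ KK P) ⊓ (L ⊔ KK P).map (MulAut.conj g).toMonoidHom}
      one_mem' := ⟨1, one_mem _, by simp⟩
      mul_mem' := by
        rintro l l' ⟨a, ha, hla⟩ ⟨a', ha', hla'⟩
        refine ⟨a * a', mul_mem ha ha', ?_⟩
        have hc := hB.comm (l' : G) l'.2 a ha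
        have e : ((l * l' : ↥L) : G) * (a * a') = ((l : G) * a) * ((l' : G) * a') := by
          rw [Subgroup.coe_mul]
          calc (l : G) * (l' : G) * (a * a') = (l : G) * ((l' : G) * a) * a' := by group
            _ = (l : G) * (a * (l' : G)) * a' := by rw [hc]
            _ = ((l : G) * a) * ((l' : G) * a') := by group
        rw [e]
        exact mul_mem hla hla'
      inv_mem' := by
        rintro l ⟨a, ha, hla⟩
        refine ⟨a⁻¹, inv_mem ha, ?_⟩
        have hc := hB.comm ((l : G)⁻¹) (inv_mem l.2) a⁻¹ (inv_mem ha)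
        have e : ((l⁻¹ : ↥L) : G) * a⁻¹ = ((l : G) * a)⁻¹ := by
          rw [Subgroup.coe_inv, hc, mul_inv_rev]
        rw [e]
        exact inv_mem hla }
  have hXmem : ∀ l : ↥L, l ∈ X ↔ ∃ a ∈ KK P,
      (l : G) * a ∈ (L ⊔ KK P) ⊓ (L ⊔ KK P).map (MulAut.conj g).toMonoidHom := fun l => Iff.rfl
  refine ⟨X, ?_, ?_⟩
  · -- odd order
    apply BA_odd_card_of_no_inv
    intro l hl2
    obtain ⟨a, ha, hla⟩ := (hXmem l).1 l.2
    have hla' := (hD'mem _).1 hla
    have hodd := hD'ord _ hla'.1 hla'.2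
    have hl2' : orderOf ((l : ↥L) : G) = 2 := by
      rw [Subgroup.orderOf_coe, Subgroup.orderOf_coe]; exact hl2
    have hcomm : Commute ((l : ↥L) : G) a := hB.comm _ (l : ↥L).2 a ha
    have hpow : (((l : ↥L) : G) * a) ^ orderOf (((l : ↥L) : G) * a) = 1 := pow_orderOf_eq_one _
    rw [hcomm.mul_pow] at hpow
    have h1 : ((l : ↥L) : G) ^ orderOf (((l : ↥L) : G) * a) ∈ L ⊓ KK P := by
      refine Subgroup.mem_inf.2 ⟨pow_mem (l : ↥L).2 _, ?_⟩
      have : ((l : ↥L) : G) ^ orderOf (((l : ↥L) : G) * a) = (a ^ orderOf (((l : ↥L) : G) * a))⁻¹ :=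
        eq_inv_of_mul_eq_one_left hpow
      rw [this]
      exact inv_mem (pow_mem ha _)
    rw [hB.disj, Subgroup.mem_bot] at h1
    have hdvd : 2 ∣ orderOf (((l : ↥L) : G) * a) := by
      rw [← hl2']; exact orderOf_dvd_of_pow_eq_one h1
    exact (Nat.not_even_iff_odd.2 hodd) (even_iff_two_dvd.2 hdvd)
  · -- transitivity
    intro t t' ht ht'
    have ht2 : orderOf (t : G) = 2 := by rw [Subgroup.orderOf_coe]; exact ht
    have ht'2 : orderOf (t' : G) = 2 := by rw [Subgroup.orderOf_coe]; exact ht'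
    obtain ⟨x, ⟨hxM, hxg, -⟩, hxt⟩ := (SE.bijOn_inverted hSE hg hv₀ hv₀g ht2 (hLM t.2)).surjOn
      (show (t' : G) ∈ {t' : G | orderOf t' = 2 ∧ t' ∈ L ⊔ KK P} from ⟨ht'2, hLM t'.2⟩)
    obtain ⟨l, hl, a, ha, rfl⟩ := (BA_mem_sup hB.comm).1 hxM
    refine ⟨⟨l, hl⟩, (hXmem _).2 ⟨a, ha, (hD'mem _).2 ⟨hxM, hxg⟩⟩, ?_⟩
    apply Subtype.ext
    have hc := hB.comm (t : G) t.2 a ha
    have hxt' : l * a * (t : G) * (l * a)⁻¹ = (t' : G) := hxt
    have e : l * (t : G) * l⁻¹ = l * a * (t : G) * (l * a)⁻¹ := by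
      calc l * (t : G) * l⁻¹ = l * ((t : G) * a) * a⁻¹ * l⁻¹ := by group
        _ = l * (a * (t : G)) * a⁻¹ * l⁻¹ := by rw [hc]
        _ = l * a * (t : G) * (l * a)⁻¹ := by group
    simp only [Subgroup.coe_mul, Subgroup.coe_inv]
    rw [e, hxt']

end Cfsg.Agent.Helper21.CA
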