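import Cfsg.Agent.Helper21.CA.AB
import Cfsg.Agent.Helper21.CA.QA

/-!
# S2202 piece BB : no odd-order subgroup of a group like `SL₂(q)` is transitive on its involutions. Uses AB, AA, II, IA, IB, IC, QA.
-/

set_option autoImplicit false
open scoped Pointwise

namespace Cfsg.Agent.Helper21.CA

universe u

/-- a nonidentity element of exponent 2 is an involution -/
theorem BB_orderOf_eq_two {L : Type u} [Group L] {x : L} (h2 : x ^ 2 = 1) (h1 : x ≠ 1) :
    orderOf x = 2 :=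
  orderOf_eq_prime h2 h1

/-- `P` (of order `≥ 4` and exponent 2) is not cyclic -/
theorem BB_not_cyclic {L : Type u} [Group L] [Finite L] (P : Sylow 2 L)
    (hq : 4 ≤ Nat.card P) (hexp : ∀ x ∈ P, x ^ 2 = 1) : ¬ IsCyclic ↥(P : Subgroup L) := by
  intro hc
  obtain ⟨g, hg⟩ := hc.exists_generator
  have h2 : g ^ 2 = 1 := by
    apply Subtype.ext
    simpa using hexp g g.2
  have h3 : Nat.card ↥(P : Subgroup L) ≤ 2 := by
    rw [← orderOf_eq_card_of_forall_mem_zpowers hg]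
    exact orderOf_le_of_pow_eq_one (by norm_num) h2
  have h4 : 4 ≤ Nat.card ↥(P : Subgroup L) := hq
  omega

/-- `P` contains an involution -/
theorem BB_exists_inv {L : Type u} [Group L] [Finite L] (P : Sylow 2 L)
    (hq : 4 ≤ Nat.card P) (hexp : ∀ x ∈ P, x ^ 2 = 1) : ∃ t : L, orderOf t = 2 ∧ t ∈ P := by
  have hnt : Nontrivial ↥(P : Subgroup L) := by
    rw [← Finite.one_lt_card_iff_nontrivial]
    have h4 : 4 ≤ Nat.card ↥(P : Subgroup L) := hq
    omega
  obtain ⟨x, hx⟩ := exists_ne (1 : ↥(P : Subgroup L))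
  refine ⟨x, BB_orderOf_eq_two (hexp x x.2) ?_, x.2⟩
  intro h
  exact hx (Subtype.ext h)

/-- `P` is not normal: the class of an involution of `P` has `q² - 1 > q` elements -/
theorem BB_not_normal {L : Type u} [Group L] [Finite L] (hCA : CA2 L) (P : Sylow 2 L)
    (hq : 4 ≤ Nat.card P) (hexp : ∀ x ∈ P, x ^ 2 = 1) (hself : HH P = (P : Subgroup L))
    (hL : Nat.card L = Nat.card P * (Nat.card P ^ 2 - 1)) : ¬ (P : Subgroup L).Normal := by
  classical
  intro hn
  have : Fintype L := Fintype.ofFinite L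
  obtain ⟨t, ht, htP⟩ := BB_exists_inv P hq hexp
  have hcent : Subgroup.centralizer ({t} : Set L) = (P : Subgroup L) := by
    rw [centralizer_inv_eq hCA P ht htP, hself]
  set q := Nat.card P with hqdef
  let f : L → L := fun g => g * t * g⁻¹
  let PF : Finset L := Finset.univ.filter fun y => y ∈ (P : Subgroup L)
  have hPF : PF.card = q := by
    rw [hqdef, Nat.card_eq_fintype_card, Fintype.card_subtype]
  have himg : (Finset.univ.image f) ⊆ PF := by
    intro y hy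
    rw [Finset.mem_image] at hy
    obtain ⟨g, -, rfl⟩ := hy
    rw [Finset.mem_filter]
    exact ⟨Finset.mem_univ _, hn.conj_mem t htP g⟩
  have hfib : ∀ b ∈ Finset.univ.image f,
      (Finset.univ.filter fun a => f a = b).card ≤ q := by
    intro b hb
    rw [Finset.mem_image] at hb
    obtain ⟨g0, -, rfl⟩ := hb
    rw [← hPF]
    apply Finset.card_le_card_of_injOn (fun x => g0⁻¹ * x)
    · intro x hx
      rw [Finset.coe_filter] at hx
      have hx' : x * t * x⁻¹ = g0 * t * g0⁻¹ := hx.2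
      rw [Finset.coe_filter]
      refine ⟨Finset.mem_univ _, ?_⟩
      show g0⁻¹ * x ∈ (P : Subgroup L)
      rw [← hcent, Subgroup.mem_centralizer_singleton_iff]
      have h1 : x * t = g0 * t * g0⁻¹ * x := by
        rw [← hx']; group
      symm
      calc t * (g0⁻¹ * x) = g0⁻¹ * (g0 * t * g0⁻¹ * x) := by group
        _ = g0⁻¹ * (x * t) := by rw [h1]
        _ = g0⁻¹ * x * t := by group
    · intro x _ y _ hxy
      exact mul_left_cancel hxy
  have h1 := Finset.card_le_mul_card_image (Finset.univ : Finset L) q hfib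
  have h2 : (Finset.univ.image f).card ≤ q := by
    rw [← hPF]
    exact Finset.card_le_card himg
  have h3 : Fintype.card L ≤ q * q := by
    calc Fintype.card L = (Finset.univ : Finset L).card := rfl
      _ ≤ q * (Finset.univ.image f).card := h1
      _ ≤ q * q := Nat.mul_le_mul_left q h2
  rw [Nat.card_eq_fintype_card] at hL
  rw [hL] at h3
  have hq4 : 4 ≤ q := hq
  have h5 : q ^ 2 - 1 ≤ q := Nat.le_of_mul_le_mul_left h3 (by omega)
  have h6 : q * 4 ≤ q ^ 2 := by nlinarith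
  omega

/-- the conjugation action of `d * h` (`h ∈ C(P)`) on `P` is that of `d` -/
theorem BB_conj_eq {L : Type u} [Group L] (P : Sylow 2 L) {d h s : L} (hh : h ∈ HH P)
    (hs : s ∈ P) : (d * h) * s * (d * h)⁻¹ = d * s * d⁻¹ := by
  have h1 : s * h = h * s := (Subgroup.mem_centralizer_iff.mp hh) s hs
  have h2 : h * s * h⁻¹ = s := by rw [← h1, mul_inv_cancel_right]
  calc (d * h) * s * (d * h)⁻¹ = d * (h * s * h⁻¹) * d⁻¹ := by group
    _ = d * s * d⁻¹ := by rw [h2]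

/-- conjugation by an element of `N(P)` preserves `P` -/
theorem BB_conj_mem {L : Type u} [Group L] (P : Sylow 2 L) {n s : L} (hn : n ∈ NN P)
    (hs : s ∈ P) : n * s * n⁻¹ ∈ P :=
  (Subgroup.mem_normalizer_iff.mp hn s).mp hs

/-- (B6) `L` finite with `CA2`, a Sylow 2-subgroup `P` of order `q ≥ 4`, exponent 2, `C(P) = P`, `#L = q(q²-1)`; `X ≤ L` of odd order,
transitive on the involutions of `L`: contradiction.
1. `Setup L`: `P` is not cyclic; if `P` were normal, the class of an involution `t ∈ P` would lie in `P`, but it has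
`#L / #C(t) = #L / #C(P) = q² - 1 > q` elements (I2). All Sylows are conjugate to `P` (`setup_of_exists`).
2. `K_R = 1` for every Sylow `R` (conjugate to `P`, and `C(P) = P` has no odd-order element `≠ 1`): `CaseA R` holds trivially, so
Section A applies to `L`: `D(P,Q)` abelian of order `f = q - 1 ≥ 3`, `N(P) = D(P,Q) C(P)` (II5), (A4), (A5a), (A5').
3. `X_P := X ∩ N(P)` is transitive on the involutions of `P` (if `x t x⁻¹ = t'` with `t, t' ∈ P` then `x • P = P` by (I5)); `X_P ∩ C(P) = 1`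
(odd order vs. 2-group); `X_P` is abelian (`[N(P), N(P)] ≤ C(P)` because `N(P) = D C(P)` with `D` abelian and `C(P)` normal; so commutators of
elements of `X_P` lie in `X_P ∩ C(P) = 1`); `X_P ≠ 1`.
4. Pick `1 ≠ x₀ ∈ X_P`: it normalizes exactly one Sylow `Q₀ ≠ P` ((A5a), (A5')); every `x ∈ X_P` commutes with `x₀`, hence permutes
`{P, Q₀}` and fixes `P`: `X_P ≤ N(Q₀)`, i.e. `X_P ≤ X_{Q₀} := X ∩ N(Q₀)`; the fixed Sylows of `X_P` are exactly `P, Q₀`.
5. `X` is transitive on the Sylows (transitive on involutions + (I5), (I6)): `x • P = Q₀` for some `x ∈ X`; `X_{Q₀} = x X_P x⁻¹` has the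
same order as `X_P`, so `X_{Q₀} = X_P` and `x` normalizes `X_P`, so `x` permutes `{P, Q₀}`: `x • Q₀ = P`. But `x` has odd order `n`:
`x^n • P = Q₀ ≠ P` while `x^n = 1`. -/
theorem no_odd_transitive {L : Type u} [Group L] [Finite L] (hCA : CA2 L) (P : Sylow 2 L)
    (hq : 4 ≤ Nat.card P) (hexp : ∀ x ∈ P, x ^ 2 = 1) (hself : HH P = (P : Subgroup L))
    (hL : Nat.card L = Nat.card P * (Nat.card P ^ 2 - 1)) (X : Subgroup L) (hX : Odd (Nat.card X))
    (htr : ∀ t t' : L, orderOf t = 2 → orderOf t' = 2 → ∃ x ∈ X, x * t * x⁻¹ = t') : False := by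
  classical
  -- Step 1: `Setup L`
  have S : Setup L := setup_of_exists hCA ⟨P, BB_not_cyclic P hq hexp⟩
    ⟨P, BB_not_normal hCA P hq hexp hself hL⟩
  -- Step 2: `K_R = 1` for every Sylow `R`
  have hKP : KK P = ⊥ := by
    rw [KK, Subgroup.closure_eq_bot_iff]
    rintro x ⟨hxH, hxo⟩
    rw [hself] at hxH
    have h1 : orderOf x ∣ 2 := orderOf_dvd_of_pow_eq_one (hexp x hxH)
    have h2 : orderOf x = 1 := by
      rcases (Nat.dvd_prime Nat.prime_two).mp h1 with h | h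
      · exact h
      · rw [h] at hxo; exact absurd hxo (by decide)
    exact orderOf_eq_one_iff.mp h2
  have hKR : ∀ R : Sylow 2 L, KK R = ⊥ := by
    intro R
    obtain ⟨g, rfl⟩ := MulAction.exists_smul_eq L P R
    rw [eq_bot_iff]
    intro k hk
    have h1 := (conj_mem_iff P g (g⁻¹ * k * g)).1
    have h2 : g * (g⁻¹ * k * g) * g⁻¹ = k := by group
    rw [h2] at h1
    have h3 := h1.mp hk
    rw [hKP, Subgroup.mem_bot] at h3
    rw [Subgroup.mem_bot]
    calc k = g * (g⁻¹ * k * g) * g⁻¹ := h2.symm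
      _ = 1 := by rw [h3]; group
  have hA : ∀ R : Sylow 2 L, CaseA R := by
    intro R k hk hk1
    rw [hKR R, Subgroup.mem_bot] at hk
    exact absurd hk hk1
  -- elements of `X` in `C(P)` are trivial
  have hXH : ∀ y ∈ X, y ∈ HH P → y = 1 := by
    intro y hyX hyH
    rw [hself] at hyH
    have h1 : orderOf y ∣ 2 := orderOf_dvd_of_pow_eq_one (hexp y hyH)
    have h2 : orderOf y ∣ Nat.card X := by
      have := orderOf_dvd_natCard (⟨y, hyX⟩ : X)
      rwa [Subgroup.orderOf_mk] at this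
    have h3 : orderOf y = 1 := by
      rcases (Nat.dvd_prime Nat.prime_two).mp h1 with h | h
      · exact h
      · rw [h] at h2
        exact absurd (even_iff_two_dvd.mpr h2) (Nat.not_even_iff_odd.mpr hX)
    exact orderOf_eq_one_iff.mp h3
  -- Step 3: `X_P` is abelian
  obtain ⟨Q, hQP⟩ := exists_ne_sylow S P
  have hPQ : P ≠ Q := fun h => hQP h.symm
  obtain ⟨-, hdec, -, -⟩ := DD_trans S hPQ
  obtain ⟨-, -, -, hDcomm⟩ := DD_structure S hA hPQ
  have hDN : ∀ d ∈ DD P Q, d ∈ NN P := fun d hd => (Subgroup.mem_inf.mp hd).1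
  have hcomm : ∀ a ∈ X, a ∈ NN P → ∀ b ∈ X, b ∈ NN P → a * b = b * a := by
    intro a haX haN b hbX hbN
    obtain ⟨d1, hd1, h1, hh1, rfl⟩ := hdec a haN
    obtain ⟨d2, hd2, h2, hh2, rfl⟩ := hdec b hbN
    set a := d1 * h1 with ha
    set b := d2 * h2 with hb
    have key : ∀ s ∈ P, (a * b) * s * (a * b)⁻¹ = (b * a) * s * (b * a)⁻¹ := by
      intro s hs
      have e1 : (a * b) * s * (a * b)⁻¹ = a * (b * s * b⁻¹) * a⁻¹ := by group
      have e2 : (b * a) * s * (b * a)⁻¹ = b * (a * s * a⁻¹) * b⁻¹ := by group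
      rw [e1, e2, hb, BB_conj_eq P hh2 hs, ha, BB_conj_eq P hh1 hs,
        BB_conj_eq P hh1 (BB_conj_mem P (hDN d2 hd2) hs),
        BB_conj_eq P hh2 (BB_conj_mem P (hDN d1 hd1) hs)]
      have e3 : d1 * (d2 * s * d2⁻¹) * d1⁻¹ = (d1 * d2) * s * (d1 * d2)⁻¹ := by group
      have e4 : d2 * (d1 * s * d1⁻¹) * d2⁻¹ = (d2 * d1) * s * (d2 * d1)⁻¹ := by group
      rw [e3, e4, hDcomm d1 hd1 d2 hd2]
    have habN : a * b ∈ NN P := (NN P).mul_mem haN hbN
    have hbaN : b * a ∈ NN P := (NN P).mul_mem hbN haN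
    have hc : (a * b) * (b * a)⁻¹ ∈ HH P := by
      rw [HH, Subgroup.mem_centralizer_iff]
      intro s hs
      have hs' : (b * a)⁻¹ * s * ((b * a)⁻¹)⁻¹ ∈ P :=
        BB_conj_mem P ((NN P).inv_mem hbaN) hs
      have e5 := key _ hs'
      have e6 : (b * a) * ((b * a)⁻¹ * s * ((b * a)⁻¹)⁻¹) * (b * a)⁻¹ = s := by group
      rw [e6] at e5
      -- e5 : (a*b) * ((b*a)⁻¹ * s * (b*a)) * (a*b)⁻¹ = s
      calc s * ((a * b) * (b * a)⁻¹)
          = ((a * b) * ((b * a)⁻¹ * s * ((b * a)⁻¹)⁻¹) * (a * b)⁻¹) * ((a * b) * (b * a)⁻¹) := by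
            rw [e5]
        _ = (a * b) * (b * a)⁻¹ * s := by group
    have hcX : (a * b) * (b * a)⁻¹ ∈ X :=
      X.mul_mem (X.mul_mem haX hbX) (X.inv_mem (X.mul_mem hbX haX))
    have h1' := hXH _ hcX hc
    exact mul_inv_eq_one.mp h1'
  -- `X_P ≠ 1`
  obtain ⟨t, t', ht, htP, ht', ht'P, htt', -, -⟩ := exists_two_inv S P
  obtain ⟨x₀, hx₀X, hx₀t⟩ := htr t t' ht ht'
  have hx₀P : x₀ • P = P := by
    apply sylow_eq_of_inv hCA (x₀ • P) P ht' _ ht'P
    rw [← hx₀t]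
    exact ((conj_mem_iff P x₀ t).2.2.2).mpr htP
  have hx₀N : x₀ ∈ NN P := ((basic_le P).2.2.2.1 x₀).mp hx₀P
  have hx₀1 : x₀ ≠ 1 := by
    rintro rfl
    apply htt'
    simpa using hx₀t
  have hx₀H : x₀ ∉ HH P := fun h => hx₀1 (hXH x₀ hx₀X h)
  -- Step 4
  obtain ⟨Q₀, hQ₀P, hx₀Q₀⟩ := exists_other_fixed S hA P hx₀N hx₀H
  have hXPQ : ∀ y ∈ X, y ∈ NN P → y ∈ NN Q₀ := by
    intro y hyX hyN
    have hyP : y • P = P := ((basic_le P).2.2.2.1 y).mpr hyN
    have h1 : y * x₀ * y⁻¹ ∈ NN (y • Q₀) := ((conj_mem_iff Q₀ y x₀).2.2.1).mpr hx₀Q₀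
    have h2 : y * x₀ * y⁻¹ = x₀ := by
      rw [hcomm y hyX hyN x₀ hx₀X hx₀N, mul_inv_cancel_right]
    rw [h2] at h1
    have h3 : y • Q₀ ≠ P := by
      intro h
      rw [← hyP] at h
      exact hQ₀P (MulAction.injective y h)
    have h4 : Q₀ = y • Q₀ := other_fixed_unique S hA P hx₀N hx₀H hQ₀P hx₀Q₀ h3 h1
    exact ((basic_le Q₀).2.2.2.1 y).mp h4.symm
  -- Step 5
  obtain ⟨s, hs, hsP⟩ := exists_inv_mem S P
  obtain ⟨s', hs', hs'Q⟩ := exists_inv_mem S Q₀
  obtain ⟨x, hxX, hxs⟩ := htr s s' hs hs'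
  have hxP : x • P = Q₀ := by
    apply sylow_eq_of_inv hCA (x • P) Q₀ hs' _ hs'Q
    rw [← hxs]
    exact ((conj_mem_iff P x s).2.2.2).mpr hsP
  -- `X ∩ N(Q₀) = X ∩ N(P)`
  have hle : X ⊓ NN P ≤ X ⊓ NN Q₀ := by
    intro y hy
    rw [Subgroup.mem_inf] at hy ⊢
    exact ⟨hy.1, hXPQ y hy.1 hy.2⟩
  have hcard : Nat.card ↥(X ⊓ NN Q₀) ≤ Nat.card ↥(X ⊓ NN P) := by
    have hmap : ∀ z : ↥(X ⊓ NN Q₀), x⁻¹ * (z : L) * x ∈ X ⊓ NN P := by
      intro z
      have hz := Subgroup.mem_inf.mp z.2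
      rw [Subgroup.mem_inf]
      refine ⟨X.mul_mem (X.mul_mem (X.inv_mem hxX) hz.1) hxX, ?_⟩
      have h1 := (conj_mem_iff P x (x⁻¹ * (z : L) * x)).2.2.1
      have h2 : x * (x⁻¹ * (z : L) * x) * x⁻¹ = z := by group
      rw [h2, hxP] at h1
      exact h1.mp hz.2
    apply Nat.card_le_card_of_injective
      (fun z : ↥(X ⊓ NN Q₀) => (⟨x⁻¹ * (z : L) * x, hmap z⟩ : ↥(X ⊓ NN P)))
    intro z1 z2 h
    have h1 : x⁻¹ * (z1 : L) * x = x⁻¹ * (z2 : L) * x := congrArg Subtype.val h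
    apply Subtype.ext
    exact mul_left_cancel (mul_right_cancel h1)
  have heq : X ⊓ NN P = X ⊓ NN Q₀ := Subgroup.eq_of_le_of_card_ge hle hcard
  -- the element `y = x x₀ x⁻¹`
  set y := x * x₀ * x⁻¹ with hy
  have hyX : y ∈ X := X.mul_mem (X.mul_mem hxX hx₀X) (X.inv_mem hxX)
  have hyQ₀ : y ∈ NN Q₀ := by
    have h1 := ((conj_mem_iff P x x₀).2.2.1).mpr hx₀N
    rwa [hxP] at h1
  have hyN : y ∈ NN P := by
    have h1 : y ∈ X ⊓ NN Q₀ := Subgroup.mem_inf.mpr ⟨hyX, hyQ₀⟩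
    rw [← heq] at h1
    exact (Subgroup.mem_inf.mp h1).2
  have hy1 : y ≠ 1 := by
    intro h
    apply hx₀1
    have : x₀ = x⁻¹ * y * x := by rw [hy]; group
    rw [this, h]; group
  have hyH : y ∉ HH P := fun h => hy1 (hXH y hyX h)
  have hyxQ : y ∈ NN (x • Q₀) := ((conj_mem_iff Q₀ x x₀).2.2.1).mpr hx₀Q₀
  have hxQ₀ : x • Q₀ = P := by
    by_contra hne
    have h1 : Q₀ = x • Q₀ := other_fixed_unique S hA P hyN hyH hQ₀P hyQ₀ hne hyxQ
    have h2 : x • Q₀ = x • P := by rw [hxP]; exact h1.symm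
    exact hQ₀P (MulAction.injective x h2)
  -- parity
  have hxx : (x * x) • P = P := by rw [mul_smul, hxP, hxQ₀]
  have hpow : ∀ k : ℕ, (x ^ (2 * k)) • P = P := by
    intro k
    induction k with
    | zero => simp
    | succ k ih =>
      have : x ^ (2 * (k + 1)) = x ^ (2 * k) * (x * x) := by
        rw [mul_add, pow_add]; simp [pow_two]
      rw [this, mul_smul, hxx, ih]
  have hox : Odd (orderOf x) := by
    have h2 : orderOf x ∣ Nat.card X := by
      have := orderOf_dvd_natCard (⟨x, hxX⟩ : X)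
      rwa [Subgroup.orderOf_mk] at this
    exact Odd.of_dvd_nat hX h2
  obtain ⟨k, hk⟩ := hox
  have h1 : x ^ (2 * k + 1) = 1 := by rw [← hk]; exact pow_orderOf_eq_one x
  have h2 : (x ^ (2 * k + 1)) • P = Q₀ := by
    rw [pow_succ', mul_smul, hpow k, hxP]
  rw [h1, one_smul] at h2
  exact hQ₀P h2.symm

end Cfsg.Agent.Helper21.CA
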