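import Cfsg.Agent.Helper21.CA.BA
import Cfsg.Agent.Helper21.CA.BB

/-!
# S2202 piece BC : Case B is impossible. Uses BA, BB, IB.
-/

set_option autoImplicit false
open scoped Pointwise

namespace Cfsg.Agent.Helper21.CA

universe u
variable {G : Type u} [Group G] [Finite G]

omit [Finite G] in
/-- membership in the Sylow 2-subgroup `P.subtype h` of `L`. -/
theorem BC_mem_subtype (P : Sylow 2 G) {L : Subgroup G} (h : (P : Subgroup G) ≤ L) (x : ↥L) :
    x ∈ ((P.subtype h : Sylow 2 ↥L) : Subgroup ↥L) ↔ (x : G) ∈ (P : Subgroup G) := by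
  rw [Sylow.coe_subtype, Subgroup.mem_subgroupOf]

omit [Finite G] in
/-- the Sylow 2-subgroup `P.subtype h` of `L` has the same order as `P`. -/
theorem BC_card_subtype (P : Sylow 2 G) {L : Subgroup G} (h : (P : Subgroup G) ≤ L) :
    Nat.card ↥((P.subtype h : Sylow 2 ↥L) : Subgroup ↥L) = Nat.card ↥(P : Subgroup G) := by
  have e : ↥((P.subtype h : Sylow 2 ↥L) : Subgroup ↥L) ≃* ↥(P : Subgroup G) := by
    rw [Sylow.coe_subtype]
    exact Subgroup.subgroupOfEquivOfLe h
  exact Nat.card_congr e.toEquiv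

omit [Finite G] in
/-- `C_L(P') = (C(P) ∩ L)` as subgroups of `L`. -/
theorem BC_HH_subtype (P : Sylow 2 G) {L : Subgroup G} (h : (P : Subgroup G) ≤ L)
    (hself : HH P ⊓ L = (P : Subgroup G)) :
    HH (P.subtype h) = ((P.subtype h : Sylow 2 ↥L) : Subgroup ↥L) := by
  ext x
  rw [BC_mem_subtype]
  constructor
  · intro hx
    have hxP : (x : G) ∈ HH P ⊓ L := by
      refine Subgroup.mem_inf.2 ⟨?_, x.2⟩
      show (x : G) ∈ Subgroup.centralizer ((P : Subgroup G) : Set G)
      rw [Subgroup.mem_centralizer_iff]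
      intro y hy
      have hy' : (⟨y, h hy⟩ : ↥L) ∈ ((P.subtype h : Sylow 2 ↥L) : Subgroup ↥L) :=
        (BC_mem_subtype P h _).2 hy
      have hx' : x ∈ Subgroup.centralizer
          (((P.subtype h : Sylow 2 ↥L) : Subgroup ↥L) : Set ↥L) := hx
      rw [Subgroup.mem_centralizer_iff] at hx'
      have := hx' ⟨y, h hy⟩ hy'
      exact congrArg Subtype.val this
    rw [hself] at hxP
    exact hxP
  · intro hx
    show x ∈ Subgroup.centralizer (((P.subtype h : Sylow 2 ↥L) : Subgroup ↥L) : Set ↥L)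
    rw [Subgroup.mem_centralizer_iff]
    intro y hy
    have hy' : (y : G) ∈ (P : Subgroup G) := (BC_mem_subtype P h y).1 hy
    have hxH : (x : G) ∈ Subgroup.centralizer ((P : Subgroup G) : Set G) := by
      have : (x : G) ∈ HH P ⊓ L := by rw [hself]; exact hx
      exact (Subgroup.mem_inf.1 this).1
    rw [Subgroup.mem_centralizer_iff] at hxH
    apply Subtype.ext
    exact hxH (y : G) hy'

/-- (B7) (B1) gives `L`; (B4), (B5) give `X ≤ L`; apply (B6) to the group `↥L` and its Sylow 2-subgroup `P' = P.subtype hB.PL`: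
`CA2 ↥L` (Q0); `#P' = #P ≥ f + 1 ≥ 4` (I14); exponent 2 (`hB.exp2`); `C_L(P') = C(P) ∩ L = P` (`hB.self`); `#L` (`hB.cardL`). -/
theorem false_of_caseB (S : Setup G) (hZ : Subgroup.center G = ⊥) (P : Sylow 2 G) {k : G}
    (hk : k ∈ KK P) (hk1 : k ≠ 1) (hnot : ¬ Subgroup.centralizer ({k} : Set G) ≤ NN P)
    (h : IsSL2xA ↥(Subgroup.centralizer ({k} : Set G))) : False := by
  obtain ⟨L, hB⟩ := exists_BData S P hk hk1 h
  obtain ⟨hSE, hne, hinv⟩ := SE_of_BData S hZ P hB hnot
  obtain ⟨X, hXodd, hXtr⟩ := exists_odd_transitive_of_BData S P hB hSE hne hinv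
  have hcard := BC_card_subtype P hB.PL
  have h3 := three_le_ff S P
  refine no_odd_transitive (L := ↥L) (CA2.subgroup S.ca L) (P.subtype hB.PL) ?_ ?_
    (BC_HH_subtype P hB.PL hB.self) ?_ X hXodd hXtr
  · rw [hcard]; omega
  · intro x hx
    have hx' : (x : G) ∈ (P : Subgroup G) := (BC_mem_subtype P hB.PL x).1 hx
    apply Subtype.ext
    have := hB.exp2 (x : G) hx'
    simpa using this
  · rw [hcard]; exact hB.cardL

end Cfsg.Agent.Helper21.CA
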