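import Cfsg.Agent.Helper21.CADefs
import Cfsg.Agent.Helper5.ProjLine
import Cfsg.Agent.Helper42.SL2Torus
import Cfsg.Agent.Helper42.SL2Char2Count
import Cfsg.Agent.S2507
import Cfsg.Agent.S2503

/-!
# S2202 piece FB : the Sylow `p`-subgroups of `SL₂(F)` (`F` finite of characteristic 2) are cyclic for odd `p`.
Landed material you may import: `Cfsg.Agent.Helper5.card_SL2`, `Cfsg/Agent/S2507.lean` (`card_centralizer_add`),
`Cfsg/Agent/Helper42/SL2Torus.lean` (`isCyclic_centralizer`: `C(g)` is cyclic if `g` is not scalar and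
`rootCount (trace g) = 0`), `Cfsg/Agent/Helper42/SL2Char2Count.lean` (`exists_rootCount_eq_zero`),
`Cfsg/Agent/S2503.lean` (`comp2 t`: an element of trace `t`, `comp2_nonScalar`, `comp2_trace`).
(filled in by helper47)
-/

set_option autoImplicit false

namespace Cfsg.Agent.Helper21.CA

/-- If a cyclic subgroup `C` contains a full `p`-part of `|G|`, the Sylow `p`-subgroups of `G` are cyclic. -/
theorem FB_isCyclic_sylow_of_le {G : Type*} [Group G] [Finite G] (p : ℕ) [Fact p.Prime]
    (C : Subgroup G) (hC : IsCyclic ↥C)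
    (h : (Nat.card G).factorization p ≤ (Nat.card ↥C).factorization p) (Q : Sylow p G) :
    IsCyclic ↥(Q : Subgroup G) := by
  classical
  obtain ⟨S⟩ : Nonempty (Sylow p ↥C) := inferInstance
  have hS : Nat.card ↥(S : Subgroup ↥C) = p ^ (Nat.card ↥C).factorization p :=
    Sylow.card_eq_multiplicity S
  have hRcard : Nat.card ↥((S : Subgroup ↥C).map C.subtype) =
      p ^ (Nat.card G).factorization p := by
    have h1 : Nat.card ↥((S : Subgroup ↥C).map C.subtype) = Nat.card ↥(S : Subgroup ↥C) :=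
      Nat.card_congr
        ((S : Subgroup ↥C).equivMapOfInjective C.subtype C.subtype_injective).symm.toEquiv
    have h2 : (Nat.card ↥C).factorization p ≤ (Nat.card G).factorization p :=
      (Nat.factorization_le_iff_dvd Nat.card_pos.ne' Nat.card_pos.ne').2
        (Subgroup.card_subgroup_dvd_card C) p
    rw [h1, hS, le_antisymm h2 h]
  have hScyc : IsCyclic ↥(S : Subgroup ↥C) := inferInstance
  have hRcyc : IsCyclic ↥((S : Subgroup ↥C).map C.subtype) :=
    ((S : Subgroup ↥C).equivMapOfInjective C.subtype C.subtype_injective).isCyclic.1 hScyc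
  exact (Sylow.equiv Q (Sylow.ofCard ((S : Subgroup ↥C).map C.subtype) hRcard)).isCyclic.2 hRcyc

/-- the diagonal torus of `SL₂(F)` -/
def FB_torus (F : Type*) [Field F] : Fˣ →* Matrix.SpecialLinearGroup (Fin 2) F where
  toFun a := ⟨!![(a : F), 0; 0, ((a⁻¹ : Fˣ) : F)], by
    rw [Matrix.det_fin_two]
    simp⟩
  map_one' := by
    apply Subtype.ext
    ext i j
    fin_cases i <;> fin_cases j <;> simp
  map_mul' a b := by
    apply Subtype.ext
    change !![((a * b : Fˣ) : F), 0; 0, (((a * b)⁻¹ : Fˣ) : F)] =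
      !![(a : F), 0; 0, ((a⁻¹ : Fˣ) : F)] * !![(b : F), 0; 0, ((b⁻¹ : Fˣ) : F)]
    rw [Matrix.mul_fin_two]
    simp [mul_comm]

theorem FB_torus_injective (F : Type*) [Field F] : Function.Injective (FB_torus F) := by
  intro a b h
  have h1 : ((FB_torus F a : Matrix.SpecialLinearGroup (Fin 2) F) : Matrix (Fin 2) (Fin 2) F) 0 0 =
      ((FB_torus F b : Matrix.SpecialLinearGroup (Fin 2) F) : Matrix (Fin 2) (Fin 2) F) 0 0 := by
    rw [h]
  exact Units.ext h1

/-- (F4) `#SL₂(F) = q(q-1)(q+1)`, and an odd prime `p` divides at most one of `q-1`, `q+1` (`q` even).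
If `p ∣ q-1`: the diagonal torus `{diag(a,a⁻¹)}`, image of the cyclic group `Fˣ`, is cyclic of order `q-1` and contains a
Sylow `p`-subgroup. If `p ∣ q+1`: take `t` with `rootCount t = 0` and `g = comp2 t`; `C(g)` is cyclic of order
`q+1 - 0` and contains a Sylow `p`-subgroup. If `p ∤ q²-1` the Sylow `p`-subgroup is trivial. All Sylow `p`-subgroups are
conjugate, and subgroups of cyclic groups are cyclic. -/
theorem sylow_odd_cyclic_SL2 (F : Type*) [Field F] [Fintype F] [CharP F 2] (p : ℕ) [Fact p.Prime]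
    (hp : p ≠ 2) (Q : Sylow p (Matrix.SpecialLinearGroup (Fin 2) F)) :
    IsCyclic ↥(Q : Subgroup (Matrix.SpecialLinearGroup (Fin 2) F)) := by
  classical
  have hpp : p.Prime := Fact.out
  obtain ⟨q, hq⟩ : ∃ q : ℕ, Fintype.card F = q := ⟨_, rfl⟩
  have hq2 : 2 ≤ q := by rw [← hq]; exact Fintype.one_lt_card
  obtain ⟨n, -, hqn⟩ := FiniteField.card F 2
  rw [hq] at hqn
  have hcard : Nat.card (Matrix.SpecialLinearGroup (Fin 2) F) = q * ((q - 1) * (q + 1)) := by
    rw [Cfsg.Agent.Helper5.card_SL2, hq]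
    congr 1
    obtain ⟨k, rfl⟩ : ∃ k, q = k + 1 := ⟨q - 1, by omega⟩
    have e1 : (k + 1) ^ 2 - 1 = k * (k + 2) := by
      have : (k + 1) ^ 2 = k * (k + 2) + 1 := by ring
      omega
    rw [e1]
    rfl
  have hpq : ¬ p ∣ q := by
    intro h
    rw [hqn] at h
    have := (Nat.prime_dvd_prime_iff_eq hpp Nat.prime_two).1 (hpp.dvd_of_dvd_pow h)
    exact hp this
  have hfq : q.factorization p = 0 := Nat.factorization_eq_zero_of_not_dvd hpq
  have hfac : (Nat.card (Matrix.SpecialLinearGroup (Fin 2) F)).factorization p =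
      (q - 1).factorization p + (q + 1).factorization p := by
    rw [hcard, Nat.factorization_mul (by omega) (Nat.mul_ne_zero (by omega) (by omega)),
      Nat.factorization_mul (by omega) (by omega)]
    simp only [Finsupp.coe_add, Pi.add_apply]
    rw [hfq, zero_add]
  by_cases hdvd : p ∣ q + 1
  · -- the nonsplit torus
    have hnd : ¬ p ∣ q - 1 := by
      intro h
      have h2 : p ∣ (q + 1) - (q - 1) := Nat.dvd_sub hdvd h
      have : (q + 1) - (q - 1) = 2 := by omega
      rw [this] at h2
      exact hp ((Nat.prime_dvd_prime_iff_eq hpp Nat.prime_two).1 h2)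
    obtain ⟨t, ht⟩ := Cfsg.Agent.Helper42.exists_rootCount_eq_zero (F := F)
    have hns := Cfsg.Agent.S2503.comp2_nonScalar t
    have htr := Cfsg.Agent.S2503.comp2_trace t
    have hcyc := Cfsg.Agent.Helper42.isCyclic_centralizer (Cfsg.Agent.S2503.comp2 t) hns
      (by rw [htr]; exact ht)
    have hcc := Cfsg.Agent.S2507.card_centralizer_add (Cfsg.Agent.S2503.comp2 t) hns
    rw [htr, ht, add_zero] at hcc
    apply FB_isCyclic_sylow_of_le p _ hcyc _ Q
    rw [hfac, hcc, hq, Nat.factorization_eq_zero_of_not_dvd hnd, zero_add]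
  · -- the split torus
    have hrc : IsCyclic ↥(FB_torus F).range :=
      isCyclic_of_surjective (FB_torus F).rangeRestrict (FB_torus F).rangeRestrict_surjective
    have hcc : Nat.card ↥(FB_torus F).range = q - 1 := by
      rw [← Nat.card_congr (MonoidHom.ofInjective (FB_torus_injective F)).toEquiv,
        Nat.card_eq_fintype_card, Fintype.card_units, hq]
    apply FB_isCyclic_sylow_of_le p _ hrc _ Q
    rw [hfac, hcc, Nat.factorization_eq_zero_of_not_dvd hdvd, add_zero]

end Cfsg.Agent.Helper21.CA
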