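import Cfsg.Agent.Helper21.CADefs

/-!
# S2202 piece GA : an odd-order subgroup normalized by an involution (Mathlib only)
-/

set_option autoImplicit false
set_option linter.unusedVariables false

namespace Cfsg.Agent.Helper21.CA

universe u
variable {G : Type u} [Group G]

/-- an involution is its own inverse -/
theorem GA_inv_eq {t : G} (ht : orderOf t = 2) : t⁻¹ = t := by
  have h : t * t = 1 := by rw [← pow_two, ← ht]; exact pow_orderOf_eq_one t
  exact inv_eq_of_mul_eq_one_left h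

/-- conjugation by an involution is an involution -/
theorem GA_conj_conj {v : G} (hv : orderOf v = 2) (x : G) : v * (v * x * v⁻¹) * v⁻¹ = x := by
  have h : v * v = 1 := by rw [← pow_two, ← hv]; exact pow_orderOf_eq_one v
  have hi : v⁻¹ * v⁻¹ = 1 := by rw [← mul_inv_rev, h, inv_one]
  calc v * (v * x * v⁻¹) * v⁻¹ = (v * v) * x * (v⁻¹ * v⁻¹) := by simp only [mul_assoc]
    _ = x := by rw [h, hi, one_mul, mul_one]

/-- the twisted conjugation action `x • y = x y (v x v⁻¹)⁻¹` of `D` on `G` -/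
@[instance_reducible]
def GA_action (D : Subgroup G) (v : G) : MulAction D G where
  smul x y := (x : G) * y * (v * (x : G) * v⁻¹)⁻¹
  one_smul y := by
    change ((1 : D) : G) * y * (v * ((1 : D) : G) * v⁻¹)⁻¹ = y
    simp
  mul_smul x x' y := by
    change ((x * x' : D) : G) * y * (v * ((x * x' : D) : G) * v⁻¹)⁻¹ =
      (x : G) * ((x' : G) * y * (v * (x' : G) * v⁻¹)⁻¹) * (v * (x : G) * v⁻¹)⁻¹
    rw [Subgroup.coe_mul]
    group

/-- (G1) `D` an odd-order subgroup normalized by the involution `v`: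
`#inverted * #centralized = #D`.
Proof: `σ x = v x v⁻¹` is an automorphism of `D` with `σ² = 1`. The map `x ↦ x * (σ x)⁻¹` sends `D` into
`I = {x | σ x = x⁻¹}`; its fibres are the left cosets of `C = {x | σ x = x}`; it is onto `I` because
`a ∈ I` has odd order `n`, `b := a^((n+1)/2)` is a power of `a`, so `σ b = b⁻¹` and `b * (σ b)⁻¹ = b² = a`. -/
theorem card_inv_mul_card_fix (D : Subgroup G) [Finite D] (hD : Odd (Nat.card D)) (v : G)
    (hv : orderOf v = 2) (hn : ∀ x ∈ D, v * x * v⁻¹ ∈ D) :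
    Nat.card {x : G // x ∈ D ∧ v * x * v⁻¹ = x⁻¹} * Nat.card {x : G // x ∈ D ∧ v * x * v⁻¹ = x}
      = Nat.card D := by
  let A : MulAction D G := GA_action D v
  have hsm : ∀ (x : D) (y : G), x • y = (x : G) * y * (v * (x : G) * v⁻¹)⁻¹ := fun x y => rfl
  have hvi := GA_inv_eq hv
  -- the orbit of `1` is the set of inverted elements
  have horb : ∀ a : G, a ∈ MulAction.orbit D (1 : G) ↔ (a ∈ D ∧ v * a * v⁻¹ = a⁻¹) := by
    intro a
    constructor
    · rintro ⟨x, rfl⟩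
      change (x • (1 : G)) ∈ D ∧ v * (x • (1 : G)) * v⁻¹ = (x • (1 : G))⁻¹
      rw [hsm, mul_one]
      refine ⟨D.mul_mem x.2 (D.inv_mem (hn _ x.2)), ?_⟩
      have h1 : v * ((x : G) * (v * (x : G) * v⁻¹)⁻¹) * v⁻¹ =
          (v * (x : G) * v⁻¹) * (v * (v * (x : G) * v⁻¹) * v⁻¹)⁻¹ := by group
      rw [h1, GA_conj_conj hv, mul_inv_rev, inv_inv]
    · rintro ⟨haD, hinv⟩
      have hoa : Odd (orderOf a) := by
        have h1 : orderOf a = orderOf (⟨a, haD⟩ : D) := (Subgroup.orderOf_mk a haD).symm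
        rw [h1]
        exact Odd.of_dvd_nat hD (orderOf_dvd_natCard _)
      -- need finiteness only of the cyclic group: redo the root by hand
      obtain ⟨k, hk⟩ := hoa
      refine ⟨⟨a ^ (k + 1), D.pow_mem haD _⟩, ?_⟩
      change (⟨a ^ (k + 1), D.pow_mem haD _⟩ : D) • (1 : G) = a
      rw [hsm, mul_one]
      change a ^ (k + 1) * (v * a ^ (k + 1) * v⁻¹)⁻¹ = a
      rw [← conj_pow, hinv, inv_pow, inv_inv, ← pow_add]
      have : k + 1 + (k + 1) = orderOf a + 1 := by omega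
      rw [this, pow_succ, pow_orderOf_eq_one, one_mul]
  -- the stabilizer of `1` is the set of centralized elements
  have hstab : ∀ x : D, x ∈ MulAction.stabilizer D (1 : G) ↔ v * (x : G) * v⁻¹ = x := by
    intro x
    rw [MulAction.mem_stabilizer_iff, hsm, mul_one, mul_inv_eq_one]
    exact eq_comm
  have e1 : Nat.card (MulAction.orbit D (1 : G)) =
      Nat.card {x : G // x ∈ D ∧ v * x * v⁻¹ = x⁻¹} :=
    Nat.card_congr (Equiv.subtypeEquivRight horb)
  have e2 : Nat.card (MulAction.stabilizer D (1 : G)) =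
      Nat.card {x : G // x ∈ D ∧ v * x * v⁻¹ = x} := by
    refine Nat.card_congr
      { toFun := fun y => ⟨((y : D) : G), (y : D).2, (hstab y).mp y.2⟩
        invFun := fun z => ⟨⟨z.1, z.2.1⟩, (hstab ⟨z.1, z.2.1⟩).mpr z.2.2⟩
        left_inv := fun y => rfl
        right_inv := fun z => rfl }
  rw [← e1, ← e2, ← Nat.card_prod]
  exact Nat.card_congr (MulAction.orbitProdStabilizerEquivGroup D (1 : G))

/-- (G2) if moreover `v` centralizes no nonidentity element of `D`, then `v` inverts `D` elementwise and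
`D` is abelian. (By (G1) `#inverted = #D`; a group inverted by an automorphism is abelian:
`(xy)⁻¹ = σ(xy) = x⁻¹y⁻¹`.) -/
theorem inverts_of_fix_trivial (D : Subgroup G) [Finite D] (hD : Odd (Nat.card D)) (v : G)
    (hv : orderOf v = 2) (hn : ∀ x ∈ D, v * x * v⁻¹ ∈ D)
    (hfix : ∀ x ∈ D, v * x * v⁻¹ = x → x = 1) :
    (∀ x ∈ D, v * x * v⁻¹ = x⁻¹) ∧ (∀ x ∈ D, ∀ y ∈ D, x * y = y * x) := by
  -- `x ↦ x⁻¹ σ(x)` is injective on `D`, hence onto
  set ψ : D → D := fun x => ⟨(x : G)⁻¹ * (v * (x : G) * v⁻¹), D.mul_mem (D.inv_mem x.2) (hn _ x.2)⟩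
    with hψ
  have hinj : Function.Injective ψ := by
    intro x y hxy
    have h := congrArg Subtype.val hxy
    simp only [hψ] at h
    -- `y x⁻¹` is fixed
    have hfixed : v * ((y : G) * (x : G)⁻¹) * v⁻¹ = (y : G) * (x : G)⁻¹ := by
      have h1 : v * ((y : G) * (x : G)⁻¹) * v⁻¹ = (v * (y : G) * v⁻¹) * (v * (x : G) * v⁻¹)⁻¹ := by
        group
      have h2 : v * (y : G) * v⁻¹ = (y : G) * ((x : G)⁻¹ * (v * (x : G) * v⁻¹)) := by
        rw [h]; group
      rw [h1, h2]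
      group
    have h1 := hfix _ (D.mul_mem y.2 (D.inv_mem x.2)) hfixed
    have h2 : (y : G) = x := mul_inv_eq_one.mp h1
    exact (Subtype.ext h2).symm
  have hsurj : Function.Surjective ψ := Finite.injective_iff_surjective.mp hinj
  have hinvt : ∀ z ∈ D, v * z * v⁻¹ = z⁻¹ := by
    intro z hz
    obtain ⟨x, hx⟩ := hsurj ⟨z, hz⟩
    have hz' : z = (x : G)⁻¹ * (v * (x : G) * v⁻¹) := (congrArg Subtype.val hx).symm
    rw [hz']
    have h1 : v * ((x : G)⁻¹ * (v * (x : G) * v⁻¹)) * v⁻¹ =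
        (v * (x : G) * v⁻¹)⁻¹ * (v * (v * (x : G) * v⁻¹) * v⁻¹) := by group
    calc v * ((x : G)⁻¹ * (v * (x : G) * v⁻¹)) * v⁻¹
        = (v * (x : G) * v⁻¹)⁻¹ * (v * (v * (x : G) * v⁻¹) * v⁻¹) := h1
      _ = (v * (x : G) * v⁻¹)⁻¹ * (x : G) := by rw [GA_conj_conj hv]
      _ = ((x : G)⁻¹ * (v * (x : G) * v⁻¹))⁻¹ := by group
  refine ⟨hinvt, ?_⟩
  intro x hx y hy
  have h1 := hinvt (x * y) (D.mul_mem hx hy)
  have h2 : v * (x * y) * v⁻¹ = (v * x * v⁻¹) * (v * y * v⁻¹) := by group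
  rw [h2, hinvt x hx, hinvt y hy, mul_inv_rev] at h1
  -- `x⁻¹ y⁻¹ = y⁻¹ x⁻¹`
  have h3 : (x⁻¹ * y⁻¹)⁻¹ = (y⁻¹ * x⁻¹)⁻¹ := congrArg _ h1
  rw [mul_inv_rev, mul_inv_rev, inv_inv, inv_inv] at h3
  exact h3.symm

end Cfsg.Agent.Helper21.CA
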