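import Cfsg.Agent.Helper21.CADefs

/-!
# S2202 piece IA : Sylow 2-subgroups when involution centralizers are abelian (`CA2`); Mathlib + CADefs only.
`HH P = C_G(P)`, `NN P = N_G(P)`, `KK P = ⟨odd-order elements of C_G(P)⟩`; `g • P` = conjugation action on `Sylow 2 G`.
(filled in by helper47)
-/

set_option autoImplicit false
open scoped Pointwise

namespace Cfsg.Agent.Helper21.CA

universe u
variable {G : Type u} [Group G] [Finite G]

/-! ### auxiliary lemmas -/

/-- two elements of the centralizer of an involution commute -/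
theorem IA_comm_of_mem_centralizer (hCA : CA2 G) {t : G} (ht : orderOf t = 2) {a b : G}
    (ha : a ∈ Subgroup.centralizer ({t} : Set G)) (hb : b ∈ Subgroup.centralizer ({t} : Set G)) :
    a * b = b * a := by
  have := hCA t ht
  have h := mul_comm' (⟨a, ha⟩ : ↥(Subgroup.centralizer ({t} : Set G))) ⟨b, hb⟩
  exact congrArg Subtype.val h

/-- a nontrivial Sylow 2-subgroup has a central involution -/
theorem IA_exists_inv_center (P : Sylow 2 G) (hne : (P : Subgroup G) ≠ ⊥) :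
    ∃ t : G, orderOf t = 2 ∧ t ∈ P ∧ ∀ x ∈ P, x * t = t * x := by
  haveI : Fact (Nat.Prime 2) := ⟨Nat.prime_two⟩
  haveI : Nontrivial ↥(P : Subgroup G) := (Subgroup.nontrivial_iff_ne_bot _).2 hne
  haveI hnt : Nontrivial ↥(Subgroup.center ↥(P : Subgroup G)) :=
    IsPGroup.center_nontrivial P.isPGroup'
  have hpg : IsPGroup 2 ↥(Subgroup.center ↥(P : Subgroup G)) :=
    P.isPGroup'.to_subgroup _
  have hdvd : 2 ∣ Nat.card ↥(Subgroup.center ↥(P : Subgroup G)) := by
    rcases hpg.card_eq_or_dvd with h | h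
    · exfalso
      have := (Nat.card_eq_one_iff_unique.1 h).1
      exact not_subsingleton _ this
    · exact h
  obtain ⟨z, hz⟩ := exists_prime_orderOf_dvd_card' 2 hdvd
  refine ⟨((z : ↥(P : Subgroup G)) : G), ?_, (z : ↥(P : Subgroup G)).2, ?_⟩
  · rw [Subgroup.orderOf_coe, Subgroup.orderOf_coe, hz]
  · intro x hx
    have h := (Subgroup.mem_center_iff.1 z.2) ⟨x, hx⟩
    exact congrArg Subtype.val h

/-- a 2-element normalizing `P` lies in `P` -/
theorem IA_mem_of_mem_normalizer (P : Sylow 2 G) {x : G}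
    (hx : x ∈ Subgroup.normalizer ((P : Subgroup G) : Set G))
    (h2 : ∃ k : ℕ, orderOf x = 2 ^ k) : x ∈ P := by
  haveI : Fact (Nat.Prime 2) := ⟨Nat.prime_two⟩
  obtain ⟨k, hk⟩ := h2
  have hZ : IsPGroup 2 ↥(Subgroup.zpowers x) := by
    apply IsPGroup.of_card (n := k)
    rw [Nat.card_zpowers, hk]
  have hle : Subgroup.zpowers x ≤ Subgroup.normalizer ((P : Subgroup G) : Set G) := by
    rw [Subgroup.zpowers_le]; exact hx
  have hsup : IsPGroup 2 ↥(Subgroup.zpowers x ⊔ (P : Subgroup G)) :=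
    IsPGroup.to_sup_of_normal_right' hZ P.isPGroup' hle
  have heq := P.is_maximal' hsup le_sup_right
  have : x ∈ Subgroup.zpowers x ⊔ (P : Subgroup G) :=
    (le_sup_left : Subgroup.zpowers x ≤ _) (Subgroup.mem_zpowers x)
  rw [heq] at this
  exact this

/-- membership in a conjugate Sylow subgroup -/
theorem IA_mem_smul_iff (P : Sylow 2 G) (g y : G) : y ∈ g • P ↔ g⁻¹ * y * g ∈ P := by
  change y ∈ ((g • P : Sylow 2 G) : Subgroup G) ↔ g⁻¹ * y * g ∈ (P : Subgroup G)
  rw [Sylow.coe_subgroup_smul, Subgroup.mem_pointwise_smul_iff_inv_smul_mem]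
  simp [MulAut.smul_def, mul_assoc]

theorem IA_orderOf_conj (g x : G) : orderOf (g * x * g⁻¹) = orderOf x := by
  have := MulEquiv.orderOf_eq (MulAut.conj g) x
  rwa [MulAut.conj_apply] at this

/-- the elements of a Sylow 2-subgroup are 2-elements -/
theorem IA_orderOf_of_mem (P : Sylow 2 G) {y : G} (hy : y ∈ P) : ∃ k : ℕ, orderOf y = 2 ^ k := by
  haveI : Fact (Nat.Prime 2) := ⟨Nat.prime_two⟩
  obtain ⟨k, hk⟩ := (IsPGroup.iff_orderOf.1 P.isPGroup') ⟨y, hy⟩
  exact ⟨k, by rw [← hk, Subgroup.orderOf_mk]⟩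

/-- a nonidentity 2-element has a power of order 2 -/
theorem IA_exists_pow_inv {x : G} (hx1 : x ≠ 1) (h2 : ∃ k : ℕ, orderOf x = 2 ^ k) :
    ∃ n : ℕ, orderOf (x ^ n) = 2 := by
  obtain ⟨k, hk⟩ := h2
  rcases Nat.eq_zero_or_pos k with h0 | h0
  · exfalso
    rw [h0, pow_zero, orderOf_eq_one_iff] at hk
    exact hx1 hk
  · refine ⟨2 ^ (k - 1), ?_⟩
    have hdvd : 2 ^ (k - 1) ∣ orderOf x := by
      rw [hk]; exact pow_dvd_pow 2 (Nat.sub_le k 1)
    rw [orderOf_pow_of_dvd (by positivity) hdvd, hk]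
    have : 2 ^ k = 2 ^ (k - 1) * 2 := by
      rw [← pow_succ]; congr 1; omega
    rw [this, Nat.mul_div_cancel_left _ (by positivity)]

/-! ### the statements -/

/-- (I1) Sylow 2-subgroups are abelian: if `P ≠ 1` its centre contains an involution `t`, and `P ≤ C(t)`. -/
theorem sylow_comm (hCA : CA2 G) (P : Sylow 2 G) : ∀ x ∈ P, ∀ y ∈ P, x * y = y * x := by
  by_cases hne : (P : Subgroup G) = ⊥
  · intro x hx y hy
    have hx' : x ∈ (P : Subgroup G) := hx
    have hy' : y ∈ (P : Subgroup G) := hy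
    rw [hne, Subgroup.mem_bot] at hx' hy'
    rw [hx', hy']
  · obtain ⟨t, ht, -, hcomm⟩ := IA_exists_inv_center P hne
    intro x hx y hy
    apply IA_comm_of_mem_centralizer hCA ht
    · rw [Subgroup.mem_centralizer_iff]
      intro h hh
      rw [Set.mem_singleton_iff] at hh
      rw [hh]; exact (hcomm x hx).symm
    · rw [Subgroup.mem_centralizer_iff]
      intro h hh
      rw [Set.mem_singleton_iff] at hh
      rw [hh]; exact (hcomm y hy).symm

/-- (I2) `C(t) = C(P)` for an involution `t ∈ P`: `C(t)` is abelian and contains `P` (I1), so it centralizes `P`. -/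
theorem centralizer_inv_eq (hCA : CA2 G) (P : Sylow 2 G) {t : G} (ht : orderOf t = 2) (htP : t ∈ P) :
    Subgroup.centralizer ({t} : Set G) = HH P := by
  have hP : ∀ x ∈ P, x ∈ Subgroup.centralizer ({t} : Set G) := by
    intro x hx
    rw [Subgroup.mem_centralizer_iff]
    intro h hh
    rw [Set.mem_singleton_iff] at hh
    rw [hh]; exact sylow_comm hCA P t htP x hx
  apply le_antisymm
  · intro g hg
    unfold HH
    rw [Subgroup.mem_centralizer_iff]
    intro x hx
    exact IA_comm_of_mem_centralizer hCA ht (hP x hx) hg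
  · intro g hg
    unfold HH at hg
    rw [Subgroup.mem_centralizer_iff] at hg ⊢
    intro h hh
    rw [Set.mem_singleton_iff] at hh
    rw [hh]; exact hg t htP

/-- (I3) `C(P)` is abelian (if `P` contains an involution). -/
theorem HH_comm (hCA : CA2 G) (P : Sylow 2 G) (hne : ∃ t : G, orderOf t = 2 ∧ t ∈ P) :
    ∀ x ∈ HH P, ∀ y ∈ HH P, x * y = y * x := by
  obtain ⟨t, ht, htP⟩ := hne
  rw [← centralizer_inv_eq hCA P ht htP]
  intro x hx y hy
  exact IA_comm_of_mem_centralizer hCA ht hx hy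

/-- (I4) the 2-elements of `C(P)` lie in `P` (`P⟨x⟩` is a 2-group). -/
theorem mem_sylow_of_two_elt (hCA : CA2 G) (P : Sylow 2 G) {x : G} (hx : x ∈ HH P)
    (h2 : ∃ k : ℕ, orderOf x = 2 ^ k) : x ∈ P :=
  IA_mem_of_mem_normalizer P (Subgroup.centralizer_le_normalizer _ hx) h2

/-- (I5) an involution lies in a unique Sylow 2-subgroup: `P, Q ≤ C(t)` abelian, which has a unique
Sylow 2-subgroup. -/
theorem sylow_eq_of_inv (hCA : CA2 G) (P Q : Sylow 2 G) {t : G} (ht : orderOf t = 2)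
    (htP : t ∈ P) (htQ : t ∈ Q) : P = Q := by
  have key : ∀ P Q : Sylow 2 G, t ∈ P → t ∈ Q → (Q : Subgroup G) ≤ (P : Subgroup G) := by
    intro P Q htP htQ y hy
    have hyC : y ∈ Subgroup.centralizer ({t} : Set G) := by
      rw [Subgroup.mem_centralizer_iff]
      intro h hh
      rw [Set.mem_singleton_iff] at hh
      rw [hh]; exact sylow_comm hCA Q t htQ y hy
    rw [centralizer_inv_eq hCA P ht htP] at hyC
    exact mem_sylow_of_two_elt hCA P hyC (IA_orderOf_of_mem Q hy)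
  exact Sylow.ext (le_antisymm (key Q P htQ htP) (key P Q htP htQ))

/-- (I6) every involution lies in a Sylow 2-subgroup. -/
theorem exists_sylow_of_inv {t : G} (ht : orderOf t = 2) : ∃ P : Sylow 2 G, t ∈ P := by
  haveI : Fact (Nat.Prime 2) := ⟨Nat.prime_two⟩
  have hZ : IsPGroup 2 ↥(Subgroup.zpowers t) := by
    apply IsPGroup.of_card (n := 1)
    rw [Nat.card_zpowers, ht, pow_one]
  obtain ⟨P, hP⟩ := hZ.exists_le_sylow
  exact ⟨P, hP (Subgroup.mem_zpowers t)⟩

/-- (I7) the involutions of `N(P)` lie in `P` (`P⟨t⟩` is a 2-group). -/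
theorem inv_mem_of_mem_NN (P : Sylow 2 G) {t : G} (ht : orderOf t = 2) (htN : t ∈ NN P) : t ∈ P :=
  IA_mem_of_mem_normalizer P htN ⟨1, by rw [ht, pow_one]⟩

/-- (I8) `N(P)` controls the fusion of its involutions strongly: `t, g t g⁻¹ ∈ N(P)` are in `P` (I7), so
`g t g⁻¹ ∈ P ∩ g • P` and `g • P = P` by (I5). -/
theorem SE_NN (hCA : CA2 G) (P : Sylow 2 G) : SE (NN P) := by
  intro g t ht htN hgN
  have htP : t ∈ P := inv_mem_of_mem_NN P ht htN
  have ht' : orderOf (g * t * g⁻¹) = 2 := by rw [IA_orderOf_conj, ht]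
  have hgP : g * t * g⁻¹ ∈ P := inv_mem_of_mem_NN P ht' hgN
  have hgP' : g * t * g⁻¹ ∈ g • P := by
    rw [IA_mem_smul_iff]
    have : g⁻¹ * (g * t * g⁻¹) * g = t := by group
    rw [this]; exact htP
  have := sylow_eq_of_inv hCA (g • P) P ht' hgP' hgP
  exact Sylow.smul_eq_iff_mem_normalizer.1 this

/-- (I10a) conjugation. -/
theorem conj_mem_iff (P : Sylow 2 G) (g x : G) :
    (g * x * g⁻¹ ∈ KK (g • P) ↔ x ∈ KK P) ∧ (g * x * g⁻¹ ∈ HH (g • P) ↔ x ∈ HH P) ∧
    (g * x * g⁻¹ ∈ NN (g • P) ↔ x ∈ NN P) ∧ (g * x * g⁻¹ ∈ g • P ↔ x ∈ P) := by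
  have hP : ∀ z : G, g * z * g⁻¹ ∈ g • P ↔ z ∈ P := by
    intro z
    rw [IA_mem_smul_iff]
    have : g⁻¹ * (g * z * g⁻¹) * g = z := by group
    rw [this]
  have hH : ∀ z : G, g * z * g⁻¹ ∈ HH (g • P) ↔ z ∈ HH P := by
    intro z
    unfold HH
    rw [Subgroup.mem_centralizer_iff, Subgroup.mem_centralizer_iff]
    constructor
    · intro h y hy
      have h1 := h (g * y * g⁻¹) ((hP y).2 hy)
      have h2 : g * (y * z) * g⁻¹ = g * (z * y) * g⁻¹ := by
        calc g * (y * z) * g⁻¹ = g * y * g⁻¹ * (g * z * g⁻¹) := by group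
          _ = g * z * g⁻¹ * (g * y * g⁻¹) := h1
          _ = g * (z * y) * g⁻¹ := by group
      exact mul_left_cancel (mul_right_cancel h2)
    · intro h y hy
      have hy' : g⁻¹ * y * g ∈ P := (IA_mem_smul_iff P g y).1 hy
      have h1 := h (g⁻¹ * y * g) hy'
      calc y * (g * z * g⁻¹) = g * ((g⁻¹ * y * g) * z) * g⁻¹ := by group
        _ = g * (z * (g⁻¹ * y * g)) * g⁻¹ := by rw [h1]
        _ = g * z * g⁻¹ * y := by group
  have hN : g * x * g⁻¹ ∈ NN (g • P) ↔ x ∈ NN P := by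
    have e1 : g * x * g⁻¹ ∈ NN (g • P) ↔ (g * x * g⁻¹) • (g • P) = g • P :=
      Sylow.smul_eq_iff_mem_normalizer.symm
    have e2 : x ∈ NN P ↔ x • P = P := Sylow.smul_eq_iff_mem_normalizer.symm
    rw [e1, e2, ← mul_smul]
    have : g * x * g⁻¹ * g = g * x := by group
    rw [this, mul_smul]
    exact smul_left_cancel_iff g
  refine ⟨?_, hH x, hN, hP x⟩
  -- `KK`
  have hKK : KK (g • P) = (KK P).map (MulAut.conj g).toMonoidHom := by
    unfold KK
    rw [MonoidHom.map_closure]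
    congr 1
    ext z
    simp only [Set.mem_ofPred_eq, Set.mem_image, MulEquiv.coe_toMonoidHom, MulAut.conj_apply]
    constructor
    · rintro ⟨hz, hodd⟩
      refine ⟨g⁻¹ * z * g, ⟨?_, ?_⟩, by group⟩
      · rw [← hH]
        have : g * (g⁻¹ * z * g) * g⁻¹ = z := by group
        rw [this]; exact hz
      · have : orderOf (g⁻¹ * z * g) = orderOf z := by
          have h := IA_orderOf_conj g⁻¹ z
          rwa [inv_inv] at h
        rw [this]; exact hodd
    · rintro ⟨w, ⟨hw, hodd⟩, rfl⟩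
      exact ⟨(hH w).2 hw, by rw [IA_orderOf_conj]; exact hodd⟩
  rw [hKK]
  have := Subgroup.mem_map_iff_mem (f := (MulAut.conj g).toMonoidHom)
    (MulAut.conj g).injective (K := KK P) (x := x)
  simpa [MulAut.conj_apply] using this

/-- (I10b) basic inclusions and `g • P = P ↔ g ∈ N(P)`. -/
theorem basic_le (P : Sylow 2 G) :
    KK P ≤ HH P ∧ HH P ≤ NN P ∧ (P : Subgroup G) ≤ NN P ∧ (∀ g : G, g • P = P ↔ g ∈ NN P) ∧
    (∀ n ∈ NN P, ∀ k ∈ KK P, n * k * n⁻¹ ∈ KK P) ∧ (∀ n ∈ NN P, ∀ h ∈ HH P, n * h * n⁻¹ ∈ HH P) := by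
  have hN : ∀ g : G, g • P = P ↔ g ∈ NN P := fun g => Sylow.smul_eq_iff_mem_normalizer
  refine ⟨?_, ?_, ?_, hN, ?_, ?_⟩
  · unfold KK
    rw [Subgroup.closure_le]
    rintro z ⟨hz, -⟩
    exact hz
  · exact Subgroup.centralizer_le_normalizer _
  · exact Subgroup.le_normalizer
  · intro n hn k hk
    have h := ((conj_mem_iff P n k).1).2 hk
    rwa [(hN n).2 hn] at h
  · intro n hn h hh
    have h' := ((conj_mem_iff P n h).2.1).2 hh
    rwa [(hN n).2 hn] at h'

/-- (I16) distinct Sylow 2-subgroups meet trivially (a nonidentity element of `P ∩ Q` has a power of order 2;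
then (I5)); there are at least two of them. -/
theorem sylow_ti (S : Setup G) {P Q : Sylow 2 G} (hPQ : P ≠ Q) :
    (P : Subgroup G) ⊓ (Q : Subgroup G) = ⊥ := by
  rw [Subgroup.eq_bot_iff_forall]
  rintro x ⟨hxP, hxQ⟩
  by_contra hx1
  obtain ⟨n, hn⟩ := IA_exists_pow_inv hx1 (IA_orderOf_of_mem P hxP)
  exact hPQ (sylow_eq_of_inv S.ca P Q hn (pow_mem hxP n) (pow_mem hxQ n))

theorem exists_ne_sylow (S : Setup G) (P : Sylow 2 G) : ∃ Q : Sylow 2 G, Q ≠ P := by
  by_contra h
  push_neg at h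
  apply S.nn P
  rw [← Subgroup.normalizer_eq_top_iff, eq_top_iff]
  intro g _
  exact Sylow.smul_eq_iff_mem_normalizer.1 (h (g • P))

/-- every Sylow 2-subgroup contains an involution (under `Setup` it is not cyclic, hence not trivial). -/
theorem exists_inv_mem (S : Setup G) (P : Sylow 2 G) : ∃ t : G, orderOf t = 2 ∧ t ∈ P := by
  have hne : (P : Subgroup G) ≠ ⊥ := by
    intro h
    apply S.nc P
    rw [h]
    infer_instance
  obtain ⟨t, ht, htP, -⟩ := IA_exists_inv_center P hne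
  exact ⟨t, ht, htP⟩

end Cfsg.Agent.Helper21.CA
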