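import Cfsg.Agent.Helper21.CA.SE
import Cfsg.Agent.Helper21.CA.GA
import Cfsg.Agent.Helper21.CA.IB
import Cfsg.Agent.Helper21.CA.IC

/-!
# S2202 piece II : the two-point stabilizers `D(P,Q) = N(P) ∩ N(Q)` and the involutions `J(P,Q)` swapping `P, Q`.
Uses SE (with `M = N(P)`, which is `SE` by (I8)), GA, IA, IB, IC.
Dictionary for `M = NN P`, `g` with `g • P = Q ≠ P` (so `g ∉ M`):
`g⁻¹ * v ∈ M ↔ v • P = Q`; `g⁻¹ * x * g ∈ M ↔ x ∈ NN Q`; so `J(g) = JJ P Q`, `M ∩ gMg⁻¹ = DD P Q`,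
and the involutions of `N(Q)` are those of `Q` (I7). For `v ∈ JJ P Q` one may take `g = v`.
-/

set_option autoImplicit false
set_option linter.unusedSectionVars false
set_option linter.unusedVariables false
open scoped Pointwise

namespace Cfsg.Agent.Helper21.CA

universe u
variable {G : Type u} [Group G] [Finite G]

theorem II_sq {v : G} (hv : orderOf v = 2) : v * v = 1 := by
  have := pow_orderOf_eq_one v
  rwa [hv, pow_two] at this

theorem II_inv {v : G} (hv : orderOf v = 2) : v⁻¹ = v :=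
  inv_eq_of_mul_eq_one_right (II_sq hv)

theorem II_smul_smul {v : G} (hv : orderOf v = 2) (P : Sylow 2 G) : v • (v • P) = P := by
  rw [← mul_smul, II_sq hv, one_smul]

/-- `x ∈ NN (g • P) ↔ g⁻¹ * x * g ∈ NN P` -/
theorem II_mem_NN_smul (P : Sylow 2 G) (g x : G) : x ∈ NN (g • P) ↔ g⁻¹ * x * g ∈ NN P := by
  have h := (conj_mem_iff P g (g⁻¹ * x * g)).2.2.1
  rw [← h]
  have : g * (g⁻¹ * x * g) * g⁻¹ = x := by group
  rw [this]

theorem II_not_mem_NN {P Q : Sylow 2 G} (hPQ : P ≠ Q) {g : G} (hg : g • P = Q) : g ∉ NN P := by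
  intro h
  rw [← (basic_le P).2.2.2.1 g, hg] at h
  exact hPQ h.symm

/-- (II1) `v² = 1` gives `v • Q = P`; `v N(P) v⁻¹ = N(Q)`, `v K_P v⁻¹ = K_Q` by (I10a). -/
theorem JJ_basic (S : Setup G) {P Q : Sylow 2 G} {v : G} (hv : v ∈ JJ P Q) :
    v ∈ JJ Q P ∧ (∀ x ∈ DD P Q, v * x * v⁻¹ ∈ DD P Q) ∧ (∀ k : G, k ∈ KK P ↔ v * k * v⁻¹ ∈ KK Q) ∧
    (∀ x ∈ DD P Q ⊓ KK P, v * x * v⁻¹ ∈ DD P Q ⊓ KK Q) := by
  obtain ⟨hv2, hvP⟩ := hv
  have hvQ : v • Q = P := by rw [← hvP, II_smul_smul hv2]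
  have hD : ∀ x ∈ DD P Q, v * x * v⁻¹ ∈ DD P Q := by
    intro x hx
    obtain ⟨hxP, hxQ⟩ := hx
    constructor
    · have := (conj_mem_iff Q v x).2.2.1
      rw [hvQ] at this
      exact this.mpr hxQ
    · have := (conj_mem_iff P v x).2.2.1
      rw [hvP] at this
      exact this.mpr hxP
  have hK : ∀ k : G, k ∈ KK P ↔ v * k * v⁻¹ ∈ KK Q := by
    intro k
    have := (conj_mem_iff P v k).1
    rw [hvP] at this
    exact this.symm
  refine ⟨⟨hv2, hvQ⟩, hD, hK, ?_⟩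
  intro x hx
  exact ⟨hD x hx.1, (hK x).mp hx.2⟩

/-- (II2) an involution of `D(P,Q)` would lie in `P` and in `Q` (I7), so `P = Q` (I5). No involution ⇒ odd order. -/
theorem DD_odd (S : Setup G) {P Q : Sylow 2 G} (hPQ : P ≠ Q) : Odd (Nat.card (DD P Q)) := by
  rw [← Nat.not_even_iff_odd]
  intro he
  have h2 : 2 ∣ Nat.card (DD P Q) := even_iff_two_dvd.mp he
  have : Fact (Nat.Prime 2) := ⟨Nat.prime_two⟩
  obtain ⟨x, hx⟩ := exists_prime_orderOf_dvd_card' 2 h2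
  have hx' : orderOf (x : G) = 2 := by rw [Subgroup.orderOf_coe, hx]
  have hxP : (x : G) ∈ P := inv_mem_of_mem_NN P hx' x.2.1
  have hxQ : (x : G) ∈ Q := inv_mem_of_mem_NN Q hx' x.2.2
  exact hPQ (sylow_eq_of_inv S.ca P Q hx' hxP hxQ)

theorem II_orderOf_odd_of_mem_DD (S : Setup G) {P Q : Sylow 2 G} (hPQ : P ≠ Q) {x : G} (hx : x ∈ DD P Q) :
    Odd (orderOf x) := by
  have h1 : orderOf (⟨x, hx⟩ : ↥(DD P Q)) ∣ Nat.card (DD P Q) := orderOf_dvd_natCard _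
  rw [← Subgroup.orderOf_coe] at h1
  exact (DD_odd S hPQ).of_dvd_nat h1

/-- the involutions in the coset `g N(P)` are the involutions swapping `P` and `Q = g • P` -/
theorem II_J_eq {P Q : Sylow 2 G} {g : G} (hg : g • P = Q) :
    {v : G | orderOf v = 2 ∧ g⁻¹ * v ∈ NN P} = JJ P Q := by
  ext v
  simp only [Set.mem_ofPred_eq, JJ]
  rw [← (basic_le P).2.2.2.1 (g⁻¹ * v), mul_smul, inv_smul_eq_iff, hg]

/-- the involutions of `g N(P) g⁻¹ = N(Q)` are the involutions of `Q` -/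
theorem II_Inv_eq {P Q : Sylow 2 G} {g : G} (hg : g • P = Q) :
    {u : G | orderOf u = 2 ∧ g⁻¹ * u * g ∈ NN P} = Inv (Q : Subgroup G) := by
  ext u
  simp only [Set.mem_ofPred_eq, Inv]
  rw [← II_mem_NN_smul P g u, hg]
  constructor
  · rintro ⟨h2, hN⟩
    exact ⟨h2, inv_mem_of_mem_NN Q h2 hN⟩
  · rintro ⟨h2, hQ⟩
    exact ⟨h2, (basic_le Q).2.2.1 hQ⟩

/-- (II3) exactly `f` involutions swap `P` and `Q`: (SE3) for `M = N(P)`, `g • P = Q`, `t ∈ P`: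
`JJ P Q ≃ involutions of N(Q) = involutions of Q`, and `ff Q = ff P`. -/
theorem card_JJ (S : Setup G) {P Q : Sylow 2 G} (hPQ : P ≠ Q) : Nat.card (JJ P Q) = ff P := by
  obtain ⟨g, hg⟩ := MulAction.exists_smul_eq G P Q
  obtain ⟨t, ht2, htP⟩ := exists_inv_mem S P
  have hgM : g ∉ NN P := II_not_mem_NN hPQ hg
  have hb := SE.bijOn_J (SE_NN S.ca P) hgM ht2 ((basic_le P).2.2.1 htP)
  rw [II_J_eq hg, II_Inv_eq hg] at hb
  rw [ff_eq P Q]
  unfold ff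
  exact Nat.card_congr hb.equiv

/-- the elements of `N(P) ∩ v N(P) v⁻¹` inverted by `v` are the elements of `D(P,Q)` inverted by `v` -/
theorem II_inverted_eq {P Q : Sylow 2 G} {v : G} (hv : v ∈ JJ P Q) :
    {x : G | x ∈ NN P ∧ v⁻¹ * x * v ∈ NN P ∧ v * x * v⁻¹ = x⁻¹} =
      {x : G | x ∈ DD P Q ∧ v * x * v⁻¹ = x⁻¹} := by
  ext x
  simp only [Set.mem_ofPred_eq, DD, Subgroup.mem_inf]
  rw [← II_mem_NN_smul P v x, hv.2, and_assoc]

/-- (II4) `v ∈ J(P,Q)` inverts exactly `f` elements of `D(P,Q)`, and `J(P,Q) = {x v}` ((SE4), (SE5) with `g = v₀ = v`). -/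
theorem card_DD_inverted (S : Setup G) {P Q : Sylow 2 G} (hPQ : P ≠ Q) {v : G} (hv : v ∈ JJ P Q) :
    Nat.card {x : G // x ∈ DD P Q ∧ v * x * v⁻¹ = x⁻¹} = ff P ∧
    JJ P Q = (fun x : G => x * v) '' {x : G | x ∈ DD P Q ∧ v * x * v⁻¹ = x⁻¹} := by
  have hset := II_inverted_eq hv
  have himg : JJ P Q = (fun x : G => x * v) '' {x : G | x ∈ DD P Q ∧ v * x * v⁻¹ = x⁻¹} := by
    have h1 := SE.J_eq_image (SE_NN S.ca P) (II_not_mem_NN hPQ hv.2) hv.1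
      (by rw [inv_mul_cancel]; exact one_mem _)
    rw [II_J_eq hv.2, hset] at h1
    exact h1
  refine ⟨?_, himg⟩
  rw [← card_JJ S hPQ]
  have h2 : Nat.card {x : G // x ∈ DD P Q ∧ v * x * v⁻¹ = x⁻¹} =
      Nat.card ((fun x : G => x * v) '' {x : G | x ∈ DD P Q ∧ v * x * v⁻¹ = x⁻¹}) :=
    (Nat.card_image_of_injective (mul_left_injective v) _).symm
  rw [h2, ← himg]

theorem II_JJ_nonempty (S : Setup G) {P Q : Sylow 2 G} (hPQ : P ≠ Q) : ∃ v : G, v ∈ JJ P Q := by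
  have h := card_JJ S hPQ
  have h3 := (three_le_ff S P).1
  have hpos : 0 < Nat.card (JJ P Q) := by omega
  obtain ⟨⟨v, hv⟩⟩ := (Nat.card_pos_iff.mp hpos).1
  exact ⟨v, hv⟩

theorem II_orderOf_conj (n t : G) : orderOf (n * t * n⁻¹) = orderOf t := by
  have := MulEquiv.orderOf_eq (MulAut.conj n) t
  rwa [MulAut.conj_apply] at this

theorem II_conj_mem_sylow (P : Sylow 2 G) {n t : G} (hn : n ∈ NN P) (ht : t ∈ P) : n * t * n⁻¹ ∈ P := by
  have h := (conj_mem_iff P n t).2.2.2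
  rw [((basic_le P).2.2.2.1 n).mpr hn] at h
  exact h.mpr ht

/-- (II5) `D(P,Q)` is transitive on the involutions of `P` (surjectivity in (SE5); `JJ P Q ≠ ∅` by (II3), `f ≥ 3`);
hence `N(P) = D(P,Q) C(P)` (`n t n⁻¹ = d t d⁻¹` gives `d⁻¹ n ∈ C(t) = C(P)`); `D ∩ C(P) = D ∩ K_P` as `D` has odd
order (I9); orbit–stabilizer gives `#D = f * #(D ∩ K_P)`. -/
theorem DD_trans (S : Setup G) {P Q : Sylow 2 G} (hPQ : P ≠ Q) :
    (∀ t t' : G, orderOf t = 2 → t ∈ P → orderOf t' = 2 → t' ∈ P → ∃ x ∈ DD P Q, x * t * x⁻¹ = t') ∧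
    (∀ n ∈ NN P, ∃ d ∈ DD P Q, ∃ h ∈ HH P, n = d * h) ∧
    (DD P Q ⊓ HH P = DD P Q ⊓ KK P) ∧
    Nat.card (DD P Q) = ff P * Nat.card (DD P Q ⊓ KK P : Subgroup G) := by
  obtain ⟨v, hv⟩ := II_JJ_nonempty S hPQ
  have hM := SE_NN S.ca P
  have hvM : v ∉ NN P := II_not_mem_NN hPQ hv.2
  have hta : ∀ t t' : G, orderOf t = 2 → t ∈ P → orderOf t' = 2 → t' ∈ P →
      ∃ x ∈ DD P Q, x * t * x⁻¹ = t' := by
    intro t t' ht htP ht' ht'P
    have hb := SE.bijOn_inverted hM hvM hv.1 (by rw [inv_mul_cancel]; exact one_mem _) ht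
      ((basic_le P).2.2.1 htP)
    rw [II_inverted_eq hv] at hb
    obtain ⟨x, hx, hxt⟩ := hb.surjOn ⟨ht', (basic_le P).2.2.1 ht'P⟩
    exact ⟨x, hx.1, hxt⟩
  obtain ⟨t, ht2, htP⟩ := exists_inv_mem S P
  have hCt : Subgroup.centralizer ({t} : Set G) = HH P := centralizer_inv_eq S.ca P ht2 htP
  have hfac : ∀ n ∈ NN P, ∃ d ∈ DD P Q, ∃ h ∈ HH P, n = d * h := by
    intro n hn
    obtain ⟨d, hd, hdt⟩ := hta t (n * t * n⁻¹) ht2 htP (by rw [II_orderOf_conj, ht2])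
      (II_conj_mem_sylow P hn htP)
    refine ⟨d, hd, d⁻¹ * n, ?_, by group⟩
    rw [← hCt, Subgroup.mem_centralizer_singleton_iff]
    have h1 : d⁻¹ * (d * t * d⁻¹) * d = d⁻¹ * (n * t * n⁻¹) * d := by rw [hdt]
    have h2 : t = d⁻¹ * n * t * n⁻¹ * d := by
      calc t = d⁻¹ * (d * t * d⁻¹) * d := by group
        _ = d⁻¹ * (n * t * n⁻¹) * d := h1
        _ = d⁻¹ * n * t * n⁻¹ * d := by group
    calc d⁻¹ * n * t = (d⁻¹ * n * t * n⁻¹ * d) * (d⁻¹ * n) := by group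
      _ = t * (d⁻¹ * n) := by rw [← h2]
  have hinf : DD P Q ⊓ HH P = DD P Q ⊓ KK P := by
    apply le_antisymm
    · intro x hx
      exact ⟨hx.1, Subgroup.subset_closure ⟨hx.2, II_orderOf_odd_of_mem_DD S hPQ hx.1⟩⟩
    · intro x hx
      exact ⟨hx.1, (basic_le P).1 hx.2⟩
  refine ⟨hta, hfac, hinf, ?_⟩
  -- orbit-stabilizer for the conjugation action of `D(P,Q)` on `G`
  let act : MulAction ↥(DD P Q) G :=
    MulAction.compHom G ((MulAut.conj : G →* MulAut G).comp (DD P Q).subtype)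
  have hsmul : ∀ (x : ↥(DD P Q)) (y : G), x • y = (x : G) * y * (x : G)⁻¹ := fun x y => rfl
  have horb : MulAction.orbit ↥(DD P Q) t = Inv (P : Subgroup G) := by
    ext u
    constructor
    · rintro ⟨x, rfl⟩
      show orderOf (x • t) = 2 ∧ x • t ∈ (P : Subgroup G)
      rw [hsmul]
      exact ⟨by rw [II_orderOf_conj, ht2], II_conj_mem_sylow P x.2.1 htP⟩
    · rintro ⟨hu2, huP⟩
      obtain ⟨x, hx, hxt⟩ := hta t u ht2 htP hu2 huP
      exact ⟨⟨x, hx⟩, hxt⟩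
  have hstab : Nat.card (MulAction.stabilizer ↥(DD P Q) t) = Nat.card ↥(DD P Q ⊓ KK P : Subgroup G) := by
    rw [← hinf, ← hCt]
    refine Nat.card_congr ⟨fun x => ⟨(x.1 : G), ⟨x.1.2, ?_⟩⟩, fun y => ⟨⟨(y : G), y.2.1⟩, ?_⟩,
      fun x => rfl, fun y => rfl⟩
    · show (x.1 : G) ∈ Subgroup.centralizer ({t} : Set G)
      rw [Subgroup.mem_centralizer_singleton_iff]
      have hx : x.1 • t = t := x.2
      rw [hsmul] at hx
      exact mul_inv_eq_iff_eq_mul.mp hx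
    · show (⟨(y : G), y.2.1⟩ : ↥(DD P Q)) • t = t
      rw [hsmul]
      have hy := Subgroup.mem_centralizer_singleton_iff.mp y.2.2
      exact mul_inv_eq_iff_eq_mul.mpr hy
  have hos := Subgroup.card_eq_card_quotient_mul_card_subgroup (MulAction.stabilizer ↥(DD P Q) t)
  rw [← Nat.card_congr (MulAction.orbitEquivQuotientStabilizer ↥(DD P Q) t), hstab, horb] at hos
  exact hos

/-- (II6) for `v ∈ J(P,Q)` lying in the Sylow 2-subgroup `R`: `R ≠ P, Q` (`v ∈ N(R)` fixes `R` but moves `P`, `Q`);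
`C_{D(P,Q)}(v) = D(P,Q) ∩ K_R` (`C(v) = C(R)` (I2), `D` odd, (I9)); its order is `#D / #inverted = #(D ∩ K_P)` by
(G1), (II4), (II5). -/
theorem DD_fixed (S : Setup G) {P Q R : Sylow 2 G} (hPQ : P ≠ Q) {v : G} (hv : v ∈ JJ P Q)
    (hvR : v ∈ R) :
    R ≠ P ∧ R ≠ Q ∧ (∀ x ∈ DD P Q, (v * x * v⁻¹ = x ↔ x ∈ KK R)) ∧
    Nat.card (DD P Q ⊓ KK R : Subgroup G) = Nat.card (DD P Q ⊓ KK P : Subgroup G) := by
  have hv' := hv
  obtain ⟨hv2, hvP⟩ := hv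
  have hvQ : v • Q = P := by rw [← hvP, II_smul_smul hv2]
  have hRP : R ≠ P := by
    intro h
    rw [h] at hvR
    have h1 : v • P = P := ((basic_le P).2.2.2.1 v).mpr ((basic_le P).2.2.1 hvR)
    exact hPQ (h1.symm.trans hvP)
  have hRQ : R ≠ Q := by
    intro h
    rw [h] at hvR
    have h1 : v • Q = Q := ((basic_le Q).2.2.2.1 v).mpr ((basic_le Q).2.2.1 hvR)
    exact hPQ (hvQ.symm.trans h1)
  have hCv : Subgroup.centralizer ({v} : Set G) = HH R := centralizer_inv_eq S.ca R hv2 hvR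
  have hfix : ∀ x ∈ DD P Q, (v * x * v⁻¹ = x ↔ x ∈ KK R) := by
    intro x hx
    rw [mem_KK_iff S.ca R ⟨v, hv2, hvR⟩, ← hCv, Subgroup.mem_centralizer_singleton_iff,
      mul_inv_eq_iff_eq_mul]
    constructor
    · intro h
      exact ⟨h.symm, II_orderOf_odd_of_mem_DD S hPQ hx⟩
    · intro h
      exact h.1.symm
  refine ⟨hRP, hRQ, hfix, ?_⟩
  have hG1 := card_inv_mul_card_fix (DD P Q) (DD_odd S hPQ) v hv2 (JJ_basic S hv').2.1
  rw [(card_DD_inverted S hPQ hv').1, (DD_trans S hPQ).2.2.2] at hG1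
  have hfixcard : Nat.card {x : G // x ∈ DD P Q ∧ v * x * v⁻¹ = x} =
      Nat.card ↥(DD P Q ⊓ KK R : Subgroup G) := by
    apply Nat.card_congr
    apply Equiv.subtypeEquivRight
    intro x
    rw [Subgroup.mem_inf]
    constructor
    · rintro ⟨hx, hxv⟩
      exact ⟨hx, (hfix x hx).mp hxv⟩
    · rintro ⟨hx, hxK⟩
      exact ⟨hx, (hfix x hx).mpr hxK⟩
  rw [hfixcard] at hG1
  have hpos : 0 < ff P := by
    have := (three_le_ff S P).1
    omega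
  exact Nat.eq_of_mul_eq_mul_left hpos hG1

/-- (II7) distinct members of `J(P,Q)` lie in distinct Sylow 2-subgroups: `v v'` is in `R` (a 2-element) and in
`D(P,Q)` (odd order, (II2)). -/
theorem JJ_sylow_inj (S : Setup G) {P Q R : Sylow 2 G} (hPQ : P ≠ Q) {v v' : G} (hv : v ∈ JJ P Q)
    (hv' : v' ∈ JJ P Q) (hvR : v ∈ R) (hv'R : v' ∈ R) : v = v' := by
  obtain ⟨hv2, hvP⟩ := hv
  obtain ⟨hv'2, hv'P⟩ := hv'
  have hvQ : v • Q = P := by rw [← hvP, II_smul_smul hv2]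
  have hv'Q : v' • Q = P := by rw [← hv'P, II_smul_smul hv'2]
  have hD : v * v' ∈ DD P Q := by
    refine Subgroup.mem_inf.mpr ⟨?_, ?_⟩
    · rw [← (basic_le P).2.2.2.1, mul_smul, hv'P, hvQ]
    · rw [← (basic_le Q).2.2.2.1, mul_smul, hv'Q, hvP]
  have hodd := II_orderOf_odd_of_mem_DD S hPQ hD
  have hR : v * v' ∈ R := mul_mem hvR hv'R
  obtain ⟨k, hk⟩ := (IsPGroup.iff_orderOf.mp R.isPGroup') ⟨v * v', hR⟩
  rw [Subgroup.orderOf_mk] at hk
  have h1 : orderOf (v * v') = 1 := by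
    rcases Nat.eq_zero_or_pos k with h0 | hpos
    · rw [hk, h0, pow_zero]
    · exfalso
      rw [hk] at hodd
      have : Even (2 ^ k) := (Nat.even_pow' (by omega)).mpr even_two
      exact (Nat.not_even_iff_odd.mpr hodd) this
  have h2 : v * v' = 1 := orderOf_eq_one_iff.mp h1
  have h3 : v = v'⁻¹ := eq_inv_of_mul_eq_one_left h2
  rw [h3, II_inv hv'2]

/-- `J(P,Q)` is not empty. -/
theorem JJ_nonempty (S : Setup G) {P Q : Sylow 2 G} (hPQ : P ≠ Q) : ∃ v : G, v ∈ JJ P Q :=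
  II_JJ_nonempty S hPQ

end Cfsg.Agent.Helper21.CA
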