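import Cfsg.Agent.Helper21.CA.IB
import Cfsg.Agent.Helper21.CA.IC
import Cfsg.Agent.Helper21.CA.QA

/-!
# S2202 piece QB : Sylow 2-subgroups of a subgroup `L` containing all involutions; passage to `G₀ = ⟨involutions⟩`.
Uses IA, IB, IC, QA.
-/

set_option autoImplicit false
set_option linter.unusedSectionVars false
set_option linter.unusedVariables false
open scoped Pointwise

namespace Cfsg.Agent.Helper21.CA

universe u
variable {G : Type u} [Group G] [Finite G]

/-- (Q2a) (no hypothesis needed) `U.map L.subtype` is a 2-subgroup of `G`, so lies in a Sylow `P`; then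
`U ≤ P.subgroupOf L`, a 2-subgroup of `L`; equality by maximality of `U`. -/
theorem sylow_subgroupOf_eq (L : Subgroup G) (U : Sylow 2 ↥L) :
    ∃ P : Sylow 2 G, (U : Subgroup ↥L) = (P : Subgroup G).subgroupOf L := by
  obtain ⟨P, hP⟩ := IsPGroup.exists_le_sylow (U.isPGroup'.map L.subtype)
  refine ⟨P, ?_⟩
  have hle : (U : Subgroup ↥L) ≤ (P : Subgroup G).subgroupOf L := by
    intro x hx
    rw [Subgroup.mem_subgroupOf]
    exact hP (Subgroup.mem_map_of_mem L.subtype hx)
  exact (U.is_maximal' (P.isPGroup'.comap_subtype) hle).symm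

/-- (Q2b) `P.subgroupOf L ≤ U = P'.subgroupOf L` by (Q2a); `P ∩ L` contains an involution, so `P ∩ P' ≠ 1` and
`P = P'` by (I5). -/
theorem exists_sylow_subgroupOf (S : Setup G) (L : Subgroup G)
    (hL : ∀ t : G, orderOf t = 2 → t ∈ L) (P : Sylow 2 G) :
    ∃ U : Sylow 2 ↥L, (U : Subgroup ↥L) = (P : Subgroup G).subgroupOf L := by
  obtain ⟨U, hU⟩ := IsPGroup.exists_le_sylow (P.isPGroup'.comap_subtype (K := L))
  obtain ⟨P', hP'⟩ := sylow_subgroupOf_eq L U
  obtain ⟨t, ht2, htP⟩ := exists_inv_mem S P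
  have htL : t ∈ L := hL t ht2
  have h1 : (⟨t, htL⟩ : ↥L) ∈ (P : Subgroup G).subgroupOf L := by
    rw [Subgroup.mem_subgroupOf]
    exact htP
  have h2 : (⟨t, htL⟩ : ↥L) ∈ (P' : Subgroup G).subgroupOf L := by
    rw [← hP']
    exact hU h1
  rw [Subgroup.mem_subgroupOf] at h2
  have hPP' : P = P' := sylow_eq_of_inv S.ca P P' ht2 htP h2
  refine ⟨U, ?_⟩
  rw [hP', hPP']

/-- (Q2) `Setup G₀`. `CA2` by (Q0). By `setup_of_exists` one Sylow `U = P.subgroupOf G₀` suffices. It contains two distinct
involutions (`exists_two_inv`), so it is not cyclic. If it were normal in `G₀`: take `Q ≠ P`, `t ∈ P` an involution and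
`g ∈ G₀` with `g • P = Q` (`sylow_trans`); then `g t g⁻¹ ∈ P ∩ Q = 1`. -/
theorem setup_closure_inv (S : Setup G) : Setup ↥(Subgroup.closure {t : G | orderOf t = 2}) := by
  have hL : ∀ t : G, orderOf t = 2 → t ∈ Subgroup.closure {t : G | orderOf t = 2} :=
    fun t ht => Subgroup.subset_closure ht
  obtain ⟨P⟩ : Nonempty (Sylow 2 G) := inferInstance
  obtain ⟨U, hU⟩ := exists_sylow_subgroupOf S _ hL P
  apply setup_of_exists (S.ca.subgroup _)
  · -- `U` is not cyclic
    refine ⟨U, ?_⟩
    intro hcyc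
    obtain ⟨t, t', ht2, htP, ht'2, ht'P, hne, htt', htt'P⟩ := exists_two_inv S P
    have hmem : ∀ x : G, ∀ hx : x ∈ Subgroup.closure {t : G | orderOf t = 2}, x ∈ P →
        (⟨x, hx⟩ : ↥(Subgroup.closure {t : G | orderOf t = 2})) ∈ (U : Subgroup ↥(Subgroup.closure {t : G | orderOf t = 2})) := by
      intro x hx hxP
      rw [hU, Subgroup.mem_subgroupOf]
      exact hxP
    let a : ↥(U : Subgroup ↥(Subgroup.closure {t : G | orderOf t = 2})) := ⟨⟨t, hL t ht2⟩, hmem t _ htP⟩
    let b : ↥(U : Subgroup ↥(Subgroup.closure {t : G | orderOf t = 2})) := ⟨⟨t', hL t' ht'2⟩, hmem t' _ ht'P⟩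
    have ha : a ^ 2 = 1 := by
      apply Subtype.ext
      apply Subtype.ext
      show t ^ 2 = 1
      rw [← ht2, pow_orderOf_eq_one]
    have hb : b ^ 2 = 1 := by
      apply Subtype.ext
      apply Subtype.ext
      show t' ^ 2 = 1
      rw [← ht'2, pow_orderOf_eq_one]
    have hab : a ≠ b := by
      intro h
      apply hne
      exact congrArg (fun x : ↥(U : Subgroup ↥(Subgroup.closure {t : G | orderOf t = 2})) => ((x : ↥(Subgroup.closure {t : G | orderOf t = 2})) : G)) h
    have ha1 : a ≠ 1 := by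
      intro h
      have : t = 1 := congrArg (fun x : ↥(U : Subgroup ↥(Subgroup.closure {t : G | orderOf t = 2})) => ((x : ↥(Subgroup.closure {t : G | orderOf t = 2})) : G)) h
      rw [this, orderOf_one] at ht2
      omega
    have hb1 : b ≠ 1 := by
      intro h
      have : t' = 1 := congrArg (fun x : ↥(U : Subgroup ↥(Subgroup.closure {t : G | orderOf t = 2})) => ((x : ↥(Subgroup.closure {t : G | orderOf t = 2})) : G)) h
      rw [this, orderOf_one] at ht'2
      omega
    classical
    have : Fintype ↥(U : Subgroup ↥(Subgroup.closure {t : G | orderOf t = 2})) := Fintype.ofFinite _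
    have hle := IsCyclic.card_pow_eq_one_le (α := ↥(U : Subgroup ↥(Subgroup.closure {t : G | orderOf t = 2}))) (n := 2) (by norm_num)
    have hsub : ({1, a, b} : Finset ↥(U : Subgroup ↥(Subgroup.closure {t : G | orderOf t = 2}))) ⊆ Finset.univ.filter (fun x => x ^ 2 = 1) := by
      intro x hx
      simp only [Finset.mem_insert, Finset.mem_singleton] at hx
      simp only [Finset.mem_filter, Finset.mem_univ, true_and]
      rcases hx with rfl | rfl | rfl
      · exact one_pow 2
      · exact ha
      · exact hb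
    have hcard : ({1, a, b} : Finset ↥(U : Subgroup ↥(Subgroup.closure {t : G | orderOf t = 2}))).card = 3 := by
      rw [Finset.card_insert_of_notMem, Finset.card_insert_of_notMem, Finset.card_singleton]
      · simpa using hab
      · simp only [Finset.mem_insert, Finset.mem_singleton, not_or]
        exact ⟨ha1.symm, hb1.symm⟩
    have := Finset.card_le_card hsub
    omega
  · -- `U` is not normal
    refine ⟨U, ?_⟩
    intro hnorm
    obtain ⟨Q, hQ⟩ := exists_ne_sylow S P
    obtain ⟨t, ht2, htP⟩ := exists_inv_mem S P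
    obtain ⟨g, hg, hgP⟩ := sylow_trans S P Q
    have htU : (⟨t, hL t ht2⟩ : ↥(Subgroup.closure {t : G | orderOf t = 2})) ∈ (U : Subgroup ↥(Subgroup.closure {t : G | orderOf t = 2})) := by
      rw [hU, Subgroup.mem_subgroupOf]
      exact htP
    have hc := hnorm.conj_mem _ htU ⟨g, hg⟩
    rw [hU, Subgroup.mem_subgroupOf] at hc
    have hc' : g * t * g⁻¹ ∈ P := hc
    have hcQ : g * t * g⁻¹ ∈ Q := by
      have := (conj_mem_iff P g t).2.2.2
      rw [hgP] at this
      exact this.mpr htP
    have hbot : g * t * g⁻¹ ∈ (P : Subgroup G) ⊓ (Q : Subgroup G) := ⟨hc', hcQ⟩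
    rw [sylow_ti S (Ne.symm hQ), Subgroup.mem_bot] at hbot
    have ht1 : t = 1 := by
      have : t = g⁻¹ * (g * t * g⁻¹) * g := by group
      rw [this, hbot]
      group
    rw [ht1, orderOf_one] at ht2
    omega

end Cfsg.Agent.Helper21.CA
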