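import Cfsg.Agent.Helper21.CA.IB
import Cfsg.Agent.Helper21.CA.QA

/-!
# S2202 piece QC : passage to `G / Z(G)`. Uses IA, IB (`center_le_KK`: `#Z(G)` is odd), QA (`setup_of_exists`).
-/

set_option autoImplicit false
open scoped Pointwise

namespace Cfsg.Agent.Helper21.CA

universe u
variable {G : Type u} [Group G] [Finite G]

/-- an element of odd-order centre whose order divides a power of two is trivial -/
theorem QC_eq_one_of_pow_two (hodd : Odd (Nat.card (Subgroup.center G))) {z : G}
    (hz : z ∈ Subgroup.center G) {k : ℕ} (hk : z ^ 2 ^ k = 1) : z = 1 := by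
  have h1 : orderOf z ∣ 2 ^ k := orderOf_dvd_of_pow_eq_one hk
  have h2 : orderOf z ∣ Nat.card (Subgroup.center G) := by
    have := orderOf_dvd_natCard (⟨z, hz⟩ : Subgroup.center G)
    rwa [Subgroup.orderOf_mk] at this
  have h3 : Nat.Coprime (2 ^ k) (Nat.card (Subgroup.center G)) :=
    Nat.Coprime.pow_left k (Nat.coprime_two_left.mpr hodd)
  have h4 : orderOf z ∣ 1 := by
    rw [← h3]; exact Nat.dvd_gcd h1 h2
  exact orderOf_eq_one_iff.mp (Nat.dvd_one.mp h4)

/-- a Sylow 2-subgroup meets the odd-order centre trivially -/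
theorem QC_meet (hodd : Odd (Nat.card (Subgroup.center G))) (P : Sylow 2 G) {x : G}
    (hx : x ∈ P) (hz : x ∈ Subgroup.center G) : x = 1 := by
  obtain ⟨k, hk⟩ := P.isPGroup' ⟨x, hx⟩
  have hk' : x ^ 2 ^ k = 1 := by
    have := congrArg Subtype.val hk
    simpa using this
  exact QC_eq_one_of_pow_two hodd hz hk'

/-- an involution is not central -/
theorem QC_inv_notMem (hodd : Odd (Nat.card (Subgroup.center G))) {t : G} (ht : orderOf t = 2) :
    t ∉ Subgroup.center G := by
  intro hz
  have h1 : t ^ 2 ^ 1 = 1 := by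
    rw [pow_one, ← ht]; exact pow_orderOf_eq_one t
  have := QC_eq_one_of_pow_two hodd hz h1
  rw [this, orderOf_one] at ht
  omega

/-- the image of an involution is an involution -/
theorem QC_orderOf_mk (hodd : Odd (Nat.card (Subgroup.center G))) {t : G} (ht : orderOf t = 2) :
    orderOf (QuotientGroup.mk t : G ⧸ Subgroup.center G) = 2 := by
  have : Fact (Nat.Prime 2) := ⟨Nat.prime_two⟩
  rw [orderOf_eq_prime_iff]
  refine ⟨?_, ?_⟩
  · rw [← QuotientGroup.mk_pow, ← ht, pow_orderOf_eq_one]; rfl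
  · intro h
    rw [QuotientGroup.eq_one_iff] at h
    exact QC_inv_notMem hodd ht h

/-- lifting involutions -/
theorem QC_lift_inv (hodd : Odd (Nat.card (Subgroup.center G))) {tb : G ⧸ Subgroup.center G}
    (ht : orderOf tb = 2) : ∃ t : G, orderOf t = 2 ∧ (QuotientGroup.mk t : G ⧸ Subgroup.center G) = tb := by
  have : Fact (Nat.Prime 2) := ⟨Nat.prime_two⟩
  obtain ⟨g, rfl⟩ := QuotientGroup.mk_surjective tb
  rw [orderOf_eq_prime_iff] at ht
  obtain ⟨h2, hne⟩ := ht
  have hg2 : g ^ 2 ∈ Subgroup.center G := by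
    rw [← QuotientGroup.eq_one_iff, QuotientGroup.mk_pow]; exact h2
  obtain ⟨m, hm⟩ := hodd
  set n := Nat.card (Subgroup.center G) with hn
  have hmk : (QuotientGroup.mk (g ^ n) : G ⧸ Subgroup.center G) = QuotientGroup.mk g := by
    rw [QuotientGroup.mk_pow, hm, pow_succ, pow_mul, h2, one_pow, one_mul]
  refine ⟨g ^ n, ?_, hmk⟩
  rw [orderOf_eq_prime_iff]
  refine ⟨?_, ?_⟩
  · rw [← pow_mul, mul_comm, pow_mul]
    have : (⟨g ^ 2, hg2⟩ : Subgroup.center G) ^ n = 1 := pow_card_eq_one'
    have := congrArg Subtype.val this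
    simpa using this
  · intro h1
    apply hne
    rw [← hmk, h1]; rfl

/-- centralizers of involutions lift -/
theorem QC_comm_lift (hodd : Odd (Nat.card (Subgroup.center G))) {t x : G} (ht : orderOf t = 2)
    (h : (QuotientGroup.mk t : G ⧸ Subgroup.center G) * QuotientGroup.mk x =
      QuotientGroup.mk x * QuotientGroup.mk t) : t * x = x * t := by
  have ht2 : t * t = 1 := by
    rw [← pow_two, ← ht]; exact pow_orderOf_eq_one t
  have hz : x * t * x⁻¹ * t⁻¹ ∈ Subgroup.center G := by
    rw [← QuotientGroup.eq_one_iff]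
    rw [QuotientGroup.mk_mul, QuotientGroup.mk_mul, QuotientGroup.mk_mul, ← h, QuotientGroup.mk_inv,
      QuotientGroup.mk_inv]
    group
  set z := x * t * x⁻¹ * t⁻¹ with hzdef
  have hxt : x * t * x⁻¹ = z * t := by rw [hzdef]; group
  have hzc : ∀ y : G, y * z = z * y := fun y => (Subgroup.mem_center_iff.mp hz y)
  have hz2 : z ^ 2 ^ 1 = 1 := by
    rw [pow_one, pow_two]
    have h1 : (x * t * x⁻¹) * (x * t * x⁻¹) = 1 := by
      calc (x * t * x⁻¹) * (x * t * x⁻¹) = x * (t * t) * x⁻¹ := by group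
        _ = 1 := by rw [ht2]; group
    rw [hxt] at h1
    calc z * z = z * z * (t * t) := by rw [ht2, mul_one]
      _ = z * (z * t) * t := by group
      _ = z * (t * z) * t := by rw [hzc t]
      _ = (z * t) * (z * t) := by group
      _ = 1 := h1
  have hz1 : z = 1 := QC_eq_one_of_pow_two hodd hz hz2
  rw [hz1, one_mul] at hxt
  calc t * x = (x * t * x⁻¹) * x := by rw [hxt]
    _ = x * t := by group

/-- `CA2` passes to the quotient by the odd-order centre -/
theorem QC_ca2 (hCA : CA2 G) (hodd : Odd (Nat.card (Subgroup.center G))) :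
    CA2 (G ⧸ Subgroup.center G) := by
  intro tb htb
  obtain ⟨t, ht, rfl⟩ := QC_lift_inv hodd htb
  have hc := hCA t ht
  rw [isMulCommutative_iff] at hc ⊢
  rintro ⟨a, ha⟩ ⟨b, hb⟩
  obtain ⟨x, rfl⟩ := QuotientGroup.mk_surjective a
  obtain ⟨y, rfl⟩ := QuotientGroup.mk_surjective b
  rw [Subgroup.mem_centralizer_iff] at ha hb
  have hx : t * x = x * t := QC_comm_lift hodd ht (ha _ rfl)
  have hy : t * y = y * t := QC_comm_lift hodd ht (hb _ rfl)
  have hx' : x ∈ Subgroup.centralizer ({t} : Set G) := by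
    rw [Subgroup.mem_centralizer_iff]; rintro _ rfl; exact hx
  have hy' : y ∈ Subgroup.centralizer ({t} : Set G) := by
    rw [Subgroup.mem_centralizer_iff]; rintro _ rfl; exact hy
  have := congrArg Subtype.val (hc ⟨x, hx'⟩ ⟨y, hy'⟩)
  simp only [Subgroup.coe_mul] at this
  apply Subtype.ext
  simp only [Subgroup.coe_mul]
  rw [← QuotientGroup.mk_mul, ← QuotientGroup.mk_mul, this]

/-- (Q1) `Z = Z(G)` has odd order `n`.
`CA2 (G/Z)`: an involution `t̄ = gZ` lifts to the involution `t = g^n` (`g² ∈ Z`). If `x̄` commutes with `t̄` then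
`x t x⁻¹ = t z`, `z ∈ Z`, and `1 = (t z)² = z²` gives `z = 1`: so `C(t̄)` is the image of `C(t)`, abelian.
A Sylow 2-subgroup: the image `P̄` of `P` (`P ∩ Z = 1`, so `P̄ ≃* P` is not cyclic, of order the 2-part of `#(G/Z)`).
Not normal: else for all `g` and an involution `t ∈ P`: `g t g⁻¹ = s z` with `s ∈ P`, `z ∈ Z`, `z² = s⁻² ∈ P ∩ Z = 1`, `z = 1`,
so `g t g⁻¹ ∈ P` and `g • P = P` (I5): `P` normal. -/
theorem setup_quotient_center (S : Setup G) : Setup (G ⧸ Subgroup.center G) := by
  have : Fact (Nat.Prime 2) := ⟨Nat.prime_two⟩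
  obtain ⟨P⟩ : Nonempty (Sylow 2 G) := inferInstance
  have hodd : Odd (Nat.card (Subgroup.center G)) := (center_le_KK S P).2
  have hsurj : Function.Surjective (QuotientGroup.mk' (Subgroup.center G)) :=
    QuotientGroup.mk'_surjective _
  refine setup_of_exists (QC_ca2 S.ca hodd) ⟨P.mapSurjective hsurj, ?_⟩ ⟨P.mapSurjective hsurj, ?_⟩
  · -- not cyclic
    intro hcyc
    apply S.nc P
    have hcyc' : IsCyclic ↥((P : Subgroup G).map (QuotientGroup.mk' (Subgroup.center G))) := hcyc
    have hinj : Function.Injective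
        ((QuotientGroup.mk' (Subgroup.center G)).subgroupMap (P : Subgroup G)) := by
      rw [injective_iff_map_eq_one]
      rintro ⟨x, hx⟩ h1
      have h2 := congrArg Subtype.val h1
      simp only [MonoidHom.subgroupMap_apply_coe, Subgroup.coe_one, QuotientGroup.mk'_apply,
        QuotientGroup.eq_one_iff] at h2
      apply Subtype.ext
      exact QC_meet hodd P hx h2
    exact isCyclic_of_injective _ hinj
  · -- not normal
    intro hnorm
    apply S.nn P
    have hnorm' : ((P : Subgroup G).map (QuotientGroup.mk' (Subgroup.center G))).Normal := hnorm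
    obtain ⟨t, ht, htP⟩ := exists_inv_mem S P
    have ht2 : t * t = 1 := by
      rw [← pow_two, ← ht]; exact pow_orderOf_eq_one t
    rw [← Subgroup.normalizer_eq_top_iff, eq_top_iff]
    intro g _
    refine Sylow.smul_eq_iff_mem_normalizer.mp ?_
    -- `g t g⁻¹ ∈ P`
    have h1 : (QuotientGroup.mk' (Subgroup.center G)) (g * t * g⁻¹) ∈
        (P : Subgroup G).map (QuotientGroup.mk' (Subgroup.center G)) := by
      rw [map_mul, map_mul, map_inv]
      exact hnorm'.conj_mem _ (Subgroup.mem_map_of_mem _ htP) _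
    obtain ⟨s, hsP, hs⟩ := h1
    have hz : s⁻¹ * (g * t * g⁻¹) ∈ Subgroup.center G := by
      rw [← QuotientGroup.eq_one_iff, QuotientGroup.mk_mul, QuotientGroup.mk_inv]
      have : (QuotientGroup.mk s : G ⧸ Subgroup.center G) = QuotientGroup.mk (g * t * g⁻¹) := hs
      rw [this]; group
    set z := s⁻¹ * (g * t * g⁻¹) with hzdef
    have hgt : g * t * g⁻¹ = s * z := by rw [hzdef]; group
    have hzc : ∀ y : G, y * z = z * y := fun y => (Subgroup.mem_center_iff.mp hz y)
    have hgt2 : (g * t * g⁻¹) * (g * t * g⁻¹) = 1 := by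
      calc (g * t * g⁻¹) * (g * t * g⁻¹) = g * (t * t) * g⁻¹ := by group
        _ = 1 := by rw [ht2]; group
    -- `z² = s⁻²`
    have hz2 : z * z = (s * s)⁻¹ := by
      rw [hgt] at hgt2
      have h3 : (s * s) * (z * z) = 1 := by
        calc (s * s) * (z * z) = s * (s * z) * z := by group
          _ = s * (z * s) * z := by rw [hzc s]
          _ = (s * z) * (s * z) := by group
          _ = 1 := hgt2
      exact eq_inv_of_mul_eq_one_right h3
    have hzz1 : z * z = 1 := by
      apply QC_meet hodd P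
      · rw [hz2]; exact inv_mem (mul_mem hsP hsP)
      · exact mul_mem hz hz
    have hz1 : z = 1 := by
      apply QC_eq_one_of_pow_two hodd hz (k := 1)
      rw [pow_one, pow_two]; exact hzz1
    rw [hz1, mul_one] at hgt
    -- the involution `g t g⁻¹` lies in `P` and in `g • P`
    have hord : orderOf (g * t * g⁻¹) = 2 := by
      rw [orderOf_eq_prime_iff]
      refine ⟨by rw [pow_two]; exact hgt2, ?_⟩
      intro h1
      have : t = 1 := by
        calc t = g⁻¹ * (g * t * g⁻¹) * g := by group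
          _ = 1 := by rw [h1]; group
      rw [this, orderOf_one] at ht
      omega
    have hmemP : g * t * g⁻¹ ∈ P := by rw [hgt]; exact hsP
    have hmemgP : g * t * g⁻¹ ∈ g • P := ((conj_mem_iff P g t).2.2.2).mpr htP
    exact sylow_eq_of_inv S.ca (g • P) P hord hmemgP hmemP

/-- the image of an involution is an involution (`#Z` odd), and the quotient map is onto. -/
theorem closure_inv_quotient_center (S : Setup G)
    (hgen : Subgroup.closure {t : G | orderOf t = 2} = ⊤) :
    Subgroup.closure {t : G ⧸ Subgroup.center G | orderOf t = 2} = ⊤ := by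
  obtain ⟨P⟩ : Nonempty (Sylow 2 G) := inferInstance
  have hodd : Odd (Nat.card (Subgroup.center G)) := (center_le_KK S P).2
  rw [eq_top_iff]
  have h1 : (⊤ : Subgroup (G ⧸ Subgroup.center G)) =
      (Subgroup.closure {t : G | orderOf t = 2}).map (QuotientGroup.mk' (Subgroup.center G)) := by
    rw [hgen, Subgroup.map_top_of_surjective _ (QuotientGroup.mk'_surjective _)]
  rw [h1, MonoidHom.map_closure, Subgroup.closure_le]
  rintro _ ⟨t, ht, rfl⟩
  apply Subgroup.subset_closure
  exact QC_orderOf_mk hodd ht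

end Cfsg.Agent.Helper21.CA
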