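import Cfsg.Agent.Helper21.CA.IB
import Cfsg.Agent.Helper21.CA.IC

/-!
# S2202 piece RA : a group generated by its involutions is perfect (under `Setup`). Uses IB, IC.
-/

set_option autoImplicit false
open scoped Pointwise

namespace Cfsg.Agent.Helper21.CA

universe u
variable {G : Type u} [Group G] [Finite G]

omit [Finite G] in
/-- a conjugate times the inverse is a commutator -/
theorem RA_conj_mul_inv_mem (n t : G) : n * t * n⁻¹ * t⁻¹ ∈ commutator G := by
  rw [commutator_def]
  have := Subgroup.commutator_mem_commutator (Subgroup.mem_top n) (Subgroup.mem_top t)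
  rwa [commutatorElement_def] at this

/-- (R2a) Let `t ≠ t'` be involutions of `P` with `t t'` an involution of `P` (`exists_two_inv`). By (I13) any two
involutions of `P` are conjugate: `s' = n s n⁻¹`, so `s' s⁻¹ = [n, s] ∈ G'`. Hence `t ≡ t' ≡ t t'` modulo `G'`, so
`t' ∈ G'`; then every involution (conjugate to `t'` by (I12)) is in `G'`, and `G = ⟨involutions⟩ ≤ G'`. -/
theorem commutator_eq_top (S : Setup G) (hgen : Subgroup.closure {t : G | orderOf t = 2} = ⊤) :
    commutator G = ⊤ := by
  obtain ⟨P⟩ : Nonempty (Sylow 2 G) := inferInstance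
  obtain ⟨t, t', ht, htP, ht', ht'P, -, htt', htt'P⟩ := exists_two_inv S P
  -- `t t' t⁻¹ ∈ G'`
  obtain ⟨m, -, -, hm⟩ := NN_trans S P ht htP htt' htt'P
  have h1 : t * t' * t⁻¹ ∈ commutator G := by
    rw [← hm]; exact RA_conj_mul_inv_mem m t
  have hnorm : (commutator G).Normal := inferInstance
  have h2 : t' ∈ commutator G := by
    have := hnorm.conj_mem _ h1 t⁻¹
    simpa [mul_assoc] using this
  rw [eq_top_iff, ← hgen, Subgroup.closure_le]
  intro u hu
  obtain ⟨g, -, hg⟩ := conj_inv S ht' (show orderOf u = 2 from hu)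
  rw [← hg]
  exact hnorm.conj_mem _ h2 g

end Cfsg.Agent.Helper21.CA
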