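import Cfsg.Agent.Helper21.CA.QB
import Cfsg.Agent.Helper21.CA.FA

/-!
# S2202 piece RB : if `L = ⟨involutions⟩ ≃* SL₂(F)` then `G = L × C_G(L)`. Uses IA, IB, IC, QA, QB, FA.
-/

set_option autoImplicit false
set_option linter.unusedSectionVars false
set_option linter.style.haveILetI false
open scoped Pointwise

namespace Cfsg.Agent.Helper21.CA

universe u
variable {G : Type u} [Group G] [Finite G]

theorem RB_orderOf_conj (x g : G) : orderOf (x * g * x⁻¹) = orderOf g := by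
  have := orderOf_injective (MulAut.conj x).toMonoidHom (MulAut.conj x).injective g
  simpa using this

/-- an element of `N(P)` does not move another point to `P`. -/
theorem RB_smul_ne (P : Sylow 2 G) {x : G} (hx : x ∈ NN P) {Q : Sylow 2 G} (hQ : Q ≠ P) :
    x • Q ≠ P := by
  intro h
  apply hQ
  have h2 : x⁻¹ • P = P := ((basic_le P).2.2.2.1 _).mpr ((NN P).inv_mem hx)
  calc Q = x⁻¹ • (x • Q) := (inv_smul_smul x Q).symm
    _ = x⁻¹ • P := by rw [h]
    _ = P := h2

/-- `x y x⁻¹ = y` gives `y x = x y` -/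
theorem RB_comm_of_conj {x y : G} (h : x * y * x⁻¹ = y) : y * x = x * y := by
  calc y * x = (x * y * x⁻¹) * x := by rw [h]
    _ = x * y := by group

/-- a `Type`-level copy of a finite abelian group -/
theorem RB_exists_small_copy (C : Type u) [Group C] [Finite C] (hcomm : ∀ x y : C, x * y = y * x) :
    ∃ (A : Type) (_ : CommGroup A) (_ : Finite A), Nat.card A = Nat.card C ∧ Nonempty (C ≃* A) := by
  letI : CommGroup C := { (inferInstance : Group C) with mul_comm := hcomm }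
  exact ⟨Shrink.{0} C, inferInstance, Finite.of_equiv C (equivShrink.{0, u} C),
    Nat.card_congr (equivShrink.{0, u} C).symm, ⟨(Shrink.mulEquiv).symm⟩⟩

/-- a map all of whose fibres have `k` elements -/
theorem RB_card_eq_mul {A B : Type*} [Finite A] [Finite B] (φ : A → B) (k : ℕ)
    (hk : ∀ b, Nat.card {a // φ a = b} = k) : Nat.card A = Nat.card B * k := by
  classical
  haveI : Fintype B := Fintype.ofFinite B
  rw [← Nat.card_congr (Equiv.sigmaFiberEquiv φ), Nat.card_sigma,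
    Finset.sum_congr rfl (fun b _ => hk b), Finset.sum_const, Finset.card_univ, smul_eq_mul,
    Nat.card_eq_fintype_card]

/-- transport of (F3) along `e`: `P₀ = P ∩ L` has exponent 2, order `#F`, and is self-centralizing in `L`. -/
theorem RB_key (S : Setup G) (F : Type) [Field F] [Fintype F] [CharP F 2]
    (e : ↥(Subgroup.closure {t : G | orderOf t = 2}) ≃* Matrix.SpecialLinearGroup (Fin 2) F)
    (P : Sylow 2 G) :
    (∀ x ∈ (P : Subgroup G) ⊓ Subgroup.closure {t : G | orderOf t = 2}, x ^ 2 = 1) ∧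
    Nat.card ((P : Subgroup G) ⊓ Subgroup.closure {t : G | orderOf t = 2} : Subgroup G)
      = Fintype.card F ∧
    (∀ x ∈ Subgroup.closure {t : G | orderOf t = 2},
      (∀ y ∈ (P : Subgroup G) ⊓ Subgroup.closure {t : G | orderOf t = 2}, x * y = y * x) →
        x ∈ (P : Subgroup G)) := by
  haveI : Fact (Nat.Prime 2) := ⟨Nat.prime_two⟩
  have hL : ∀ t : G, orderOf t = 2 → t ∈ Subgroup.closure {t : G | orderOf t = 2} :=
    fun t ht => Subgroup.subset_closure ht
  obtain ⟨U, hU⟩ := exists_sylow_subgroupOf S _ hL P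
  let U' : Sylow 2 (Matrix.SpecialLinearGroup (Fin 2) F) := U.mapSurjective (f := e.toMonoidHom) e.surjective
  have hU'coe : (U' : Subgroup (Matrix.SpecialLinearGroup (Fin 2) F)) =
      (U : Subgroup ↥(Subgroup.closure {t : G | orderOf t = 2})).map e.toMonoidHom := Sylow.coe_mapSurjective (f := e.toMonoidHom) e.surjective U
  obtain ⟨hc, hexp, hcent⟩ := sylow_two_SL2 F U'
  have hmemU : ∀ (x : G) (hx : x ∈ Subgroup.closure {t : G | orderOf t = 2}),
      (⟨x, hx⟩ : ↥(Subgroup.closure {t : G | orderOf t = 2})) ∈ (U : Subgroup ↥(Subgroup.closure {t : G | orderOf t = 2})) ↔ x ∈ P := by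
    intro x hx
    rw [hU, Subgroup.mem_subgroupOf]
    exact Iff.rfl
  have hmemU' : ∀ z : ↥(Subgroup.closure {t : G | orderOf t = 2}),
      e z ∈ (U' : Subgroup (Matrix.SpecialLinearGroup (Fin 2) F)) ↔ z ∈ (U : Subgroup ↥(Subgroup.closure {t : G | orderOf t = 2})) := by
    intro z
    rw [hU'coe, Subgroup.mem_map]
    constructor
    · rintro ⟨w, hw, hwz⟩
      have : w = z := e.injective hwz
      rwa [← this]
    · intro hz
      exact ⟨z, hz, rfl⟩
  refine ⟨?_, ?_, ?_⟩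
  · rintro x ⟨hxP, hxL⟩
    have h1 : e ⟨x, hxL⟩ ∈ (U' : Subgroup (Matrix.SpecialLinearGroup (Fin 2) F)) := (hmemU' _).mpr ((hmemU x hxL).mpr hxP)
    have h2 := hexp _ h1
    rw [← map_pow] at h2
    have h3 : (⟨x, hxL⟩ : ↥(Subgroup.closure {t : G | orderOf t = 2})) ^ 2 = 1 :=
      e.injective (by rw [h2, map_one])
    exact congrArg Subtype.val h3
  · have h1 : Nat.card (U' : Subgroup (Matrix.SpecialLinearGroup (Fin 2) F)) = Nat.card (U : Subgroup ↥(Subgroup.closure {t : G | orderOf t = 2})) := by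
      rw [hU'coe]
      exact (Nat.card_congr ((U : Subgroup ↥(Subgroup.closure {t : G | orderOf t = 2})).equivMapOfInjective e.toMonoidHom e.injective).toEquiv).symm
    have h2 : Nat.card (U : Subgroup ↥(Subgroup.closure {t : G | orderOf t = 2})) = Nat.card
        ((P : Subgroup G) ⊓ Subgroup.closure {t : G | orderOf t = 2} : Subgroup G) := by
      rw [hU, ← Subgroup.inf_subgroupOf_right]
      exact Nat.card_congr (Subgroup.subgroupOfEquivOfLe inf_le_right).toEquiv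
    rw [← h2, ← h1]
    exact hc
  · intro x hxL hcomm
    have h1 : e ⟨x, hxL⟩ ∈ Subgroup.centralizer ((U' : Subgroup (Matrix.SpecialLinearGroup (Fin 2) F)) : Set (Matrix.SpecialLinearGroup (Fin 2) F)) := by
      rw [Subgroup.mem_centralizer_iff]
      intro y hy
      have hy' : y ∈ (U' : Subgroup (Matrix.SpecialLinearGroup (Fin 2) F)) := hy
      rw [hU'coe] at hy'
      obtain ⟨z, hz, rfl⟩ := Subgroup.mem_map.mp hy'
      have hzP : (z : G) ∈ P := (hmemU z z.2).mp hz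
      have h2 := hcomm z ⟨hzP, z.2⟩
      have h3 : (⟨x, hxL⟩ : ↥(Subgroup.closure {t : G | orderOf t = 2})) * z = z * ⟨x, hxL⟩ :=
        Subtype.ext h2
      show e z * e ⟨x, hxL⟩ = e ⟨x, hxL⟩ * e z
      rw [← map_mul, ← map_mul, h3]
    rw [hcent] at h1
    exact (hmemU x hxL).mp ((hmemU' _).mp h1)

/-- the involutions of `P` are the nonidentity elements of `P ∩ L` -/
theorem RB_ff (S : Setup G) (F : Type) [Field F] [Fintype F] [CharP F 2]
    (e : ↥(Subgroup.closure {t : G | orderOf t = 2}) ≃* Matrix.SpecialLinearGroup (Fin 2) F)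
    (P : Sylow 2 G) : ff P + 1 = Fintype.card F := by
  haveI : Fact (Nat.Prime 2) := ⟨Nat.prime_two⟩
  obtain ⟨hexp, hcard, -⟩ := RB_key S F e P
  have hInv : Inv (P : Subgroup G) =
      (((P : Subgroup G) ⊓ Subgroup.closure {t : G | orderOf t = 2} : Subgroup G) : Set G) \ {1} := by
    ext t
    constructor
    · rintro ⟨ht, htP⟩
      refine ⟨⟨htP, Subgroup.subset_closure ht⟩, ?_⟩
      intro h1
      rw [Set.mem_singleton_iff] at h1
      rw [h1, orderOf_one] at ht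
      omega
    · rintro ⟨ht, ht1⟩
      exact ⟨orderOf_eq_prime (hexp t ht) ht1, ht.1⟩
  have h1 : ff P = Nat.card ((P : Subgroup G) ⊓ Subgroup.closure {t : G | orderOf t = 2} : Subgroup G) - 1 := by
    unfold ff
    rw [Nat.card_coe_set_eq, hInv, Set.ncard_sdiff_singleton_of_mem (Subgroup.one_mem _),
      ← Nat.card_coe_set_eq]
    rfl
  have h2 : 0 < Nat.card ((P : Subgroup G) ⊓ Subgroup.closure {t : G | orderOf t = 2} : Subgroup G) :=
    Nat.card_pos
  omega

/-- (R1b-0) `L = ⟨involutions⟩ ≃* SL₂(F)`, `q = #F`, `P` a Sylow 2-subgroup of `G`, `P₀ = P ∩ L`.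
By (Q2b) `P₀` (as a subgroup of `L`) is a Sylow 2-subgroup of `L`; transporting (F3) along the isomorphism:
`#P₀ = q`, `P₀` has exponent 2, `C(P) ∩ L = C_L(P₀) = P₀` (`C(P) ∩ L ≤ C_L(P₀)`; and `P₀ ≤ C(P)` by (I1)). The involutions of `P`
are the nonidentity elements of `P₀`, so `f = q - 1`. -/
theorem sylow_inf_closure_inv (S : Setup G)
    (h : IsSL2 ↥(Subgroup.closure {t : G | orderOf t = 2})) (P : Sylow 2 G) :
    (∀ x ∈ (P : Subgroup G) ⊓ Subgroup.closure {t : G | orderOf t = 2}, x ^ 2 = 1) ∧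
    HH P ⊓ Subgroup.closure {t : G | orderOf t = 2}
      = (P : Subgroup G) ⊓ Subgroup.closure {t : G | orderOf t = 2} ∧
    Nat.card ((P : Subgroup G) ⊓ Subgroup.closure {t : G | orderOf t = 2} : Subgroup G) = ff P + 1 ∧
    Nat.card ↥(Subgroup.closure {t : G | orderOf t = 2}) = (ff P + 1) * ((ff P + 1) ^ 2 - 1) := by
  obtain ⟨F, hField, hFin, hchar, ⟨e⟩⟩ := h
  obtain ⟨hexp, hcard, hself⟩ := RB_key S F e P
  have hff := RB_ff S F e P
  have hne := exists_inv_mem S P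
  obtain ⟨-, -, -, -, hPH⟩ := HH_eq_mul S.ca P hne
  refine ⟨hexp, ?_, ?_, ?_⟩
  · apply le_antisymm
    · rintro x ⟨hxH, hxL⟩
      refine ⟨hself x hxL (fun y hy => ?_), hxL⟩
      exact ((Subgroup.mem_centralizer_iff.mp hxH) y hy.1).symm
    · exact inf_le_inf_right _ hPH
  · rw [hcard, hff]
  · rw [Nat.card_congr e.toEquiv, card_SL2 F, hff]

/-- semiregularity of `P ∩ L` on the other Sylow 2-subgroups -/
theorem RB_semiregular (S : Setup G)
    (h : IsSL2 ↥(Subgroup.closure {t : G | orderOf t = 2})) {P Q : Sylow 2 G} (hQP : Q ≠ P) {s : G}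
    (hs : s ∈ (P : Subgroup G) ⊓ Subgroup.closure {t : G | orderOf t = 2}) (hsQ : s • Q = Q) :
    s = 1 := by
  haveI : Fact (Nat.Prime 2) := ⟨Nat.prime_two⟩
  by_contra hs1
  have hexp := (sylow_inf_closure_inv S h P).1 s hs
  have ho : orderOf s = 2 := orderOf_eq_prime hexp hs1
  have h1 : s ∈ NN Q := ((basic_le Q).2.2.2.1 s).mp hsQ
  have h2 : s ∈ Q := inv_mem_of_mem_NN Q ho h1
  exact hQP (sylow_eq_of_inv S.ca Q P ho h2 hs.1)

/-- `#(N(P) ∩ L) = f (f + 1)` -/
theorem RB_card_NN_inf (S : Setup G)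
    (h : IsSL2 ↥(Subgroup.closure {t : G | orderOf t = 2})) (P : Sylow 2 G) :
    Nat.card (NN P ⊓ Subgroup.closure {t : G | orderOf t = 2} : Subgroup G) = ff P * (ff P + 1) := by
  obtain ⟨-, hHL, hcard, -⟩ := sylow_inf_closure_inv S h P
  obtain ⟨t₀, ht₀, ht₀P⟩ := exists_inv_mem S P
  have hNP : ∀ n ∈ NN P, ∀ x ∈ P, n * x * n⁻¹ ∈ P := by
    intro n hn x hx
    exact (Subgroup.mem_normalizer_iff.mp hn x).mp hx
  let φ : ↥(NN P ⊓ Subgroup.closure {t : G | orderOf t = 2} : Subgroup G) → ↥(Inv (P : Subgroup G)) :=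
    fun n => ⟨(n : G) * t₀ * (n : G)⁻¹, by
      refine ⟨?_, hNP _ n.2.1 _ ht₀P⟩
      rw [RB_orderOf_conj]
      exact ht₀⟩
  have hfib : ∀ b : ↥(Inv (P : Subgroup G)), Nat.card {a // φ a = b} =
      Nat.card ((P : Subgroup G) ⊓ Subgroup.closure {t : G | orderOf t = 2} : Subgroup G) := by
    rintro ⟨t', hInv⟩
    have ht' : orderOf t' = 2 := hInv.1
    have ht'P : t' ∈ P := hInv.2
    obtain ⟨n₀, hn₀N, hn₀L, hn₀⟩ := NN_trans S P ht₀ ht₀P ht' ht'P
    have hPN : (P : Subgroup G) ≤ NN P := (basic_le P).2.2.1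
    have hcomm := sylow_comm S.ca P
    have hto : ∀ a : {a // φ a = ⟨t', hInv⟩}, n₀⁻¹ * ((a.1 : ↥(NN P ⊓ Subgroup.closure {t : G | orderOf t = 2} : Subgroup G)) : G) ∈
        ((P : Subgroup G) ⊓ Subgroup.closure {t : G | orderOf t = 2} : Subgroup G) := by
      intro a
      have ha : ((a.1 : ↥(NN P ⊓ Subgroup.closure {t : G | orderOf t = 2} : Subgroup G)) : G) * t₀ *
          ((a.1 : ↥(NN P ⊓ Subgroup.closure {t : G | orderOf t = 2} : Subgroup G)) : G)⁻¹ = t' :=
        congrArg Subtype.val a.2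
      set x : G := ((a.1 : ↥(NN P ⊓ Subgroup.closure {t : G | orderOf t = 2} : Subgroup G)) : G) with hx
      have hxL : x ∈ Subgroup.closure {t : G | orderOf t = 2} := (Subgroup.mem_inf.mp a.1.2).2
      have hmem : n₀⁻¹ * x ∈ HH P ⊓ Subgroup.closure {t : G | orderOf t = 2} := by
        refine Subgroup.mem_inf.mpr ⟨?_, Subgroup.mul_mem _ (Subgroup.inv_mem _ hn₀L) hxL⟩
        rw [← centralizer_inv_eq S.ca P ht₀ ht₀P, Subgroup.mem_centralizer_iff]
        intro y hy
        rw [Set.mem_singleton_iff] at hy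
        subst hy
        apply RB_comm_of_conj
        rw [mul_inv_rev, inv_inv]
        calc n₀⁻¹ * x * y * (x⁻¹ * n₀)
            = n₀⁻¹ * (x * y * x⁻¹) * n₀ := by group
          _ = n₀⁻¹ * (n₀ * y * n₀⁻¹) * n₀ := by rw [ha, hn₀]
          _ = y := by group
      rw [hHL] at hmem
      exact hmem
    have hfrom : ∀ p : ↥((P : Subgroup G) ⊓ Subgroup.closure {t : G | orderOf t = 2} : Subgroup G),
        n₀ * (p : G) ∈ (NN P ⊓ Subgroup.closure {t : G | orderOf t = 2} : Subgroup G) := by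
      intro p
      exact Subgroup.mem_inf.mpr ⟨Subgroup.mul_mem _ hn₀N (hPN (Subgroup.mem_inf.mp p.2).1),
        Subgroup.mul_mem _ hn₀L (Subgroup.mem_inf.mp p.2).2⟩
    have hfrom' : ∀ p : ↥((P : Subgroup G) ⊓ Subgroup.closure {t : G | orderOf t = 2} : Subgroup G),
        φ ⟨n₀ * (p : G), hfrom p⟩ = ⟨t', hInv⟩ := by
      intro p
      apply Subtype.ext
      show n₀ * (p : G) * t₀ * (n₀ * (p : G))⁻¹ = t'
      have h1 : (p : G) * t₀ = t₀ * (p : G) := hcomm _ (Subgroup.mem_inf.mp p.2).1 _ ht₀P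
      rw [← hn₀, mul_inv_rev]
      calc n₀ * (p : G) * t₀ * ((p : G)⁻¹ * n₀⁻¹) = n₀ * ((p : G) * t₀) * (p : G)⁻¹ * n₀⁻¹ := by group
        _ = n₀ * (t₀ * (p : G)) * (p : G)⁻¹ * n₀⁻¹ := by rw [h1]
        _ = n₀ * t₀ * n₀⁻¹ := by group
    refine Nat.card_congr
      { toFun := fun a => ⟨n₀⁻¹ * ((a.1 : ↥(NN P ⊓ Subgroup.closure {t : G | orderOf t = 2} : Subgroup G)) : G), hto a⟩
        invFun := fun p => ⟨⟨n₀ * (p : G), hfrom p⟩, hfrom' p⟩
        left_inv := ?_
        right_inv := ?_ }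
    · intro a
      apply Subtype.ext
      apply Subtype.ext
      show n₀ * (n₀⁻¹ * ((a.1 : ↥(NN P ⊓ Subgroup.closure {t : G | orderOf t = 2} : Subgroup G)) : G)) = _
      group
    · intro p
      apply Subtype.ext
      show n₀⁻¹ * (n₀ * (p : G)) = (p : G)
      group
  have := RB_card_eq_mul φ _ hfib
  rw [this, hcard]
  rfl

/-- the number of Sylow 2-subgroups is `f + 2 = q + 1` -/
theorem RB_card_sylow (S : Setup G)
    (h : IsSL2 ↥(Subgroup.closure {t : G | orderOf t = 2})) (P : Sylow 2 G) :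
    Nat.card (Sylow 2 G) = ff P + 2 := by
  obtain ⟨-, -, -, hcardL⟩ := sylow_inf_closure_inv S h P
  have hN := RB_card_NN_inf S h P
  let φ : ↥(Subgroup.closure {t : G | orderOf t = 2}) → Sylow 2 G := fun l => (l : G) • P
  have hfib : ∀ R : Sylow 2 G, Nat.card {a // φ a = R} =
      Nat.card (NN P ⊓ Subgroup.closure {t : G | orderOf t = 2} : Subgroup G) := by
    intro R
    obtain ⟨l₀, hl₀L, hl₀⟩ := sylow_trans S P R
    refine Nat.card_congr
      { toFun := fun a => ⟨(l₀⁻¹ * (a.1 : G)), ?_⟩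
        invFun := fun n => ⟨⟨l₀ * (n : G), ?_⟩, ?_⟩
        left_inv := ?_
        right_inv := ?_ }
    · refine ⟨?_, Subgroup.mul_mem _ (Subgroup.inv_mem _ hl₀L) a.1.2⟩
      apply ((basic_le P).2.2.2.1 _).mp
      have ha : (a.1 : G) • P = R := a.2
      rw [mul_smul, ha, ← hl₀, inv_smul_smul]
    · exact Subgroup.mul_mem _ hl₀L n.2.2
    · show (l₀ * (n : G)) • P = R
      rw [mul_smul, ((basic_le P).2.2.2.1 _).mpr n.2.1, hl₀]
    · intro a
      apply Subtype.ext
      apply Subtype.ext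
      show l₀ * (l₀⁻¹ * (a.1 : G)) = (a.1 : G)
      group
    · intro n
      apply Subtype.ext
      show l₀⁻¹ * (l₀ * (n : G)) = (n : G)
      group
  have h1 := RB_card_eq_mul φ _ hfib
  rw [hcardL, hN] at h1
  obtain ⟨hf3, -, -⟩ := three_le_ff S P
  have h2 : (ff P + 1) ^ 2 - 1 = ff P * (ff P + 2) := by
    have : (ff P + 1) ^ 2 = ff P * (ff P + 2) + 1 := by ring
    omega
  rw [h2] at h1
  have h3 : (ff P + 2) * (ff P * (ff P + 1)) = Nat.card (Sylow 2 G) * (ff P * (ff P + 1)) := by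
    rw [← h1]
    ring
  have hpos : 0 < ff P * (ff P + 1) := by positivity
  exact (Nat.eq_of_mul_eq_mul_right hpos h3).symm

/-- (R1b-1) `P₀ = P ∩ L` acts regularly on the Sylow 2-subgroups other than `P`.
Semiregular: `s ∈ P₀ ∩ N(Q)`, `s ≠ 1`, is an involution of `N(Q)`, so `s ∈ Q` (I7) and `P = Q` (I5).
Count: `L` is transitive on `Sylow 2 G` (`sylow_trans`) with stabilizer `N(P) ∩ L`, and `N(P) ∩ L` is transitive on the `f`
involutions of `P` (I13) with stabilizer `C(t) ∩ L = C(P) ∩ L = P₀` (I2): `#(N(P) ∩ L) = q f = q (q-1)` and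
`#Sylow 2 G = q(q²-1)/(q(q-1)) = q + 1`. A semiregular group of order `q` on `q` points is regular. -/
theorem inf_closure_inv_regular (S : Setup G)
    (h : IsSL2 ↥(Subgroup.closure {t : G | orderOf t = 2})) (P : Sylow 2 G) :
    ∀ Q R : Sylow 2 G, Q ≠ P → R ≠ P →
      ∃ s ∈ (P : Subgroup G) ⊓ Subgroup.closure {t : G | orderOf t = 2}, s • Q = R := by
  intro Q R hQP hRP
  obtain ⟨-, -, hcard, -⟩ := sylow_inf_closure_inv S h P
  have hPN : (P : Subgroup G) ≤ NN P := (basic_le P).2.2.1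
  have hmem : ∀ s : ↥((P : Subgroup G) ⊓ Subgroup.closure {t : G | orderOf t = 2} : Subgroup G),
      (s : G) • Q ≠ P := fun s => RB_smul_ne P (hPN (Subgroup.mem_inf.mp s.2).1) hQP
  let f : ↥((P : Subgroup G) ⊓ Subgroup.closure {t : G | orderOf t = 2} : Subgroup G) →
      {R : Sylow 2 G // R ≠ P} := fun s => ⟨(s : G) • Q, hmem s⟩
  have hinj : Function.Injective f := by
    intro s s' hss
    have h1 : (s : G) • Q = (s' : G) • Q := congrArg Subtype.val hss
    have h2 : ((s' : G)⁻¹ * (s : G)) • Q = Q := by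
      rw [mul_smul, h1, inv_smul_smul]
    have h3 := RB_semiregular S h hQP (Subgroup.mul_mem _ (Subgroup.inv_mem _ s'.2) s.2) h2
    apply Subtype.ext
    exact (inv_mul_eq_one.mp h3).symm
  have hcardX : Nat.card {R : Sylow 2 G // R ≠ P} = ff P + 1 := by
    have : {R : Sylow 2 G | R ≠ P} = ({P} : Set (Sylow 2 G))ᶜ := by
      ext R
      simp
    show Nat.card ↥{R : Sylow 2 G | R ≠ P} = _
    rw [Nat.card_coe_set_eq, this, Set.ncard_compl, Set.ncard_singleton, RB_card_sylow S h P]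
    rfl
  have hbij : Function.Bijective f :=
    hinj.bijective_of_nat_card_le (by rw [hcardX, hcard])
  obtain ⟨s, hs⟩ := hbij.2 ⟨R, hRP⟩
  exact ⟨s, s.2, congrArg Subtype.val hs⟩

/-- (R1b-2) an element `c` normalizing every Sylow 2-subgroup centralizes every involution `t`. Let `t ∈ P` (I6) and
`y = c t c⁻¹ t⁻¹`. Then `y = (c t c⁻¹) t⁻¹ ∈ P` since `c ∈ N(P)`; and `y = c (t c⁻¹ t⁻¹)` normalizes every Sylow 2-subgroup `Q`
(as `t c⁻¹ t⁻¹ ∈ N(t • (t⁻¹ • Q)) = N(Q)`). If `y ≠ 1`, a power `s` of `y` is an involution of `P` normalizing some `Q ≠ P`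
(I16), so `s ∈ Q` (I7) and `P = Q` (I5): contradiction. -/
theorem comm_inv_of_forall_mem_NN (S : Setup G) {c : G} (hc : ∀ Q : Sylow 2 G, c ∈ NN Q) {t : G}
    (ht : orderOf t = 2) : c * t = t * c := by
  haveI : Fact (Nat.Prime 2) := ⟨Nat.prime_two⟩
  obtain ⟨P, htP⟩ := exists_sylow_of_inv ht
  set y := c * t * c⁻¹ * t⁻¹ with hy
  have hyP : y ∈ P := by
    have h1 : c * t * c⁻¹ ∈ P := (Subgroup.mem_normalizer_iff.mp (hc P) t).mp htP
    exact (P : Subgroup G).mul_mem h1 ((P : Subgroup G).inv_mem htP)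
  have hyN : ∀ Q : Sylow 2 G, y ∈ NN Q := by
    intro Q
    have h1 : t * c⁻¹ * t⁻¹ ∈ NN (t • (t⁻¹ • Q)) :=
      ((conj_mem_iff (t⁻¹ • Q) t c⁻¹).2.2.1).mpr ((NN _).inv_mem (hc _))
    rw [smul_inv_smul] at h1
    have h2 : y = c * (t * c⁻¹ * t⁻¹) := by
      rw [hy]
      group
    rw [h2]
    exact (NN Q).mul_mem (hc Q) h1
  have hy1 : y = 1 := by
    by_contra hne
    obtain ⟨Q, hQP⟩ := exists_ne_sylow S P
    -- an involution among the powers of `y`
    obtain ⟨k, hk⟩ := (IsPGroup.iff_orderOf.mp P.isPGroup') ⟨y, hyP⟩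
    have hk' : orderOf y = 2 ^ k := by
      rw [← hk]
      exact (Subgroup.orderOf_mk y hyP).symm
    have hk0 : k ≠ 0 := by
      rintro rfl
      rw [pow_zero, orderOf_eq_one_iff] at hk'
      exact hne hk'
    obtain ⟨j, rfl⟩ : ∃ j, k = j + 1 := ⟨k - 1, by omega⟩
    set s := y ^ (2 ^ j) with hs
    have hs2 : s ^ 2 = 1 := by
      rw [hs, ← pow_mul, ← pow_succ, ← hk']
      exact pow_orderOf_eq_one y
    have hs1 : s ≠ 1 := by
      rw [hs]
      apply pow_ne_one_of_lt_orderOf (by positivity)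
      rw [hk', pow_succ]
      have : 0 < 2 ^ j := by positivity
      omega
    have hso : orderOf s = 2 := orderOf_eq_prime hs2 hs1
    have hsP : s ∈ P := (P : Subgroup G).pow_mem hyP _
    have hsN : s ∈ NN Q := (NN Q).pow_mem (hyN Q) _
    have hsQ : s ∈ Q := inv_mem_of_mem_NN Q hso hsN
    exact hQP (sylow_eq_of_inv S.ca Q P hso hsQ hsP)
  have h3 : c * t * c⁻¹ * t⁻¹ = 1 := hy1
  calc c * t = (c * t * c⁻¹ * t⁻¹) * t * c := by group
    _ = t * c := by rw [h3, one_mul]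

/-- an element commuting with all involutions centralizes `L` -/
theorem RB_mem_centralizer {c : G} (hc : ∀ t : G, orderOf t = 2 → c * t = t * c) :
    c ∈ Subgroup.centralizer ((Subgroup.closure {t : G | orderOf t = 2} : Subgroup G) : Set G) := by
  have h1 : Subgroup.closure {t : G | orderOf t = 2} ≤ Subgroup.centralizer ({c} : Set G) := by
    rw [Subgroup.closure_le]
    intro t ht
    rw [SetLike.mem_coe, Subgroup.mem_centralizer_iff]
    intro y hy
    rw [Set.mem_singleton_iff] at hy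
    subst hy
    exact hc t ht
  rw [Subgroup.mem_centralizer_iff]
  intro x hx
  have h2 := Subgroup.mem_centralizer_iff.mp (h1 hx) c (Set.mem_singleton c)
  exact h2.symm

/-- (R1b-i) `G = L C_G(L)`. `G = L N(P)` (`sylow_trans`), `N(P) = (N(P) ∩ L) C(P)` ((I13): `n t n⁻¹ = n₀ t n₀⁻¹` with `n₀ ∈ N(P) ∩ L`,
so `n₀⁻¹ n ∈ C(t) = C(P)`); hence `G = L C(P)`. Let `h ∈ C(P)`, fix `Q ≠ P`; by (R1b-1) `h • Q = s • Q` with `s ∈ P₀`.
Any `Q' ≠ P` is `s' • Q` with `s' ∈ P₀`, and `h, s, s'` commute (`C(P)` is abelian and contains `P`), so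
`h • Q' = s' • h • Q = s' • s • Q = s • Q'`: the element `c = s⁻¹ h` normalizes every Sylow 2-subgroup, so it centralizes every
involution (R1b-2), hence `L`. -/
theorem mul_centralizer_closure_inv (S : Setup G)
    (h : IsSL2 ↥(Subgroup.closure {t : G | orderOf t = 2})) :
    ∀ g : G, ∃ l ∈ Subgroup.closure {t : G | orderOf t = 2},
      ∃ c ∈ Subgroup.centralizer ((Subgroup.closure {t : G | orderOf t = 2} : Subgroup G) : Set G),
        g = l * c := by
  intro g
  obtain ⟨P⟩ : Nonempty (Sylow 2 G) := inferInstance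
  obtain ⟨t₀, ht₀, ht₀P⟩ := exists_inv_mem S P
  have hne : ∃ t : G, orderOf t = 2 ∧ t ∈ P := ⟨t₀, ht₀, ht₀P⟩
  obtain ⟨-, -, -, -, hPH⟩ := HH_eq_mul S.ca P hne
  have hHN : HH P ≤ NN P := (basic_le P).2.1
  have hHcomm := HH_comm S.ca P hne
  -- step 1: `g = l n` with `n ∈ N(P)`
  obtain ⟨l, hlL, hl⟩ := sylow_trans S P (g • P)
  have hn : l⁻¹ * g ∈ NN P := by
    apply ((basic_le P).2.2.2.1 _).mp
    rw [mul_smul, ← hl, inv_smul_smul]
  -- step 2: `n = n₀ h'` with `n₀ ∈ N(P) ∩ L`, `h' ∈ C(P)`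
  have ht' : orderOf ((l⁻¹ * g) * t₀ * (l⁻¹ * g)⁻¹) = 2 := by
    rw [RB_orderOf_conj]
    exact ht₀
  have ht'P : (l⁻¹ * g) * t₀ * (l⁻¹ * g)⁻¹ ∈ P :=
    (Subgroup.mem_normalizer_iff.mp hn t₀).mp ht₀P
  obtain ⟨n₀, hn₀N, hn₀L, hn₀⟩ := NN_trans S P ht₀ ht₀P ht' ht'P
  have hh' : n₀⁻¹ * (l⁻¹ * g) ∈ HH P := by
    rw [← centralizer_inv_eq S.ca P ht₀ ht₀P, Subgroup.mem_centralizer_iff]
    intro y hy
    rw [Set.mem_singleton_iff] at hy
    subst hy
    have : n₀⁻¹ * (l⁻¹ * g) * y * (n₀⁻¹ * (l⁻¹ * g))⁻¹ = y := by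
      rw [mul_inv_rev, inv_inv]
      calc n₀⁻¹ * (l⁻¹ * g) * y * ((l⁻¹ * g)⁻¹ * n₀)
          = n₀⁻¹ * ((l⁻¹ * g) * y * (l⁻¹ * g)⁻¹) * n₀ := by group
        _ = n₀⁻¹ * (n₀ * y * n₀⁻¹) * n₀ := by rw [hn₀]
        _ = y := by group
    calc y * (n₀⁻¹ * (l⁻¹ * g))
        = (n₀⁻¹ * (l⁻¹ * g) * y * (n₀⁻¹ * (l⁻¹ * g))⁻¹) * (n₀⁻¹ * (l⁻¹ * g)) := by rw [this]
      _ = n₀⁻¹ * (l⁻¹ * g) * y := by group
  set h' := n₀⁻¹ * (l⁻¹ * g) with hh'def
  -- step 3: `h' = s c`
  obtain ⟨Q, hQP⟩ := exists_ne_sylow S P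
  have hh'Q : h' • Q ≠ P := RB_smul_ne P (hHN hh') hQP
  obtain ⟨s, hs, hsQ⟩ := inf_closure_inv_regular S h P Q (h' • Q) hQP hh'Q
  have hsH : s ∈ HH P := hPH hs.1
  have hcN : ∀ Q' : Sylow 2 G, s⁻¹ * h' ∈ NN Q' := by
    intro Q'
    apply ((basic_le Q').2.2.2.1 _).mp
    by_cases hQ' : Q' = P
    · rw [hQ']
      exact ((basic_le P).2.2.2.1 _).mpr
        ((NN P).mul_mem ((NN P).inv_mem (hHN hsH)) (hHN hh'))
    · obtain ⟨s', hs', hs'Q⟩ := inf_closure_inv_regular S h P Q Q' hQP hQ'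
      have hs'H : s' ∈ HH P := hPH hs'.1
      have e1 : h' * s' = s' * h' := hHcomm _ hh' _ hs'H
      have e2 : s * s' = s' * s := hHcomm _ hsH _ hs'H
      rw [mul_smul, ← hs'Q, ← mul_smul h' s' Q, e1, mul_smul s' h' Q, ← hsQ, ← mul_smul s' s Q, ← e2,
        mul_smul s s' Q, inv_smul_smul]
  have hcent := RB_mem_centralizer (fun t ht => comm_inv_of_forall_mem_NN S hcN ht)
  refine ⟨l * n₀ * s, ?_, s⁻¹ * h', hcent, ?_⟩
  · exact Subgroup.mul_mem _ (Subgroup.mul_mem _ hlL hn₀L) hs.2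
  · rw [hh'def]
    group

/-- `L` is a normal subgroup -/
theorem RB_normal : (Subgroup.closure {t : G | orderOf t = 2}).Normal := by
  constructor
  intro x hx g
  induction hx using Subgroup.closure_induction with
  | mem y hy =>
    apply Subgroup.subset_closure
    show orderOf (g * y * g⁻¹) = 2
    rw [RB_orderOf_conj]
    exact hy
  | one => simp
  | mul y z _ _ hy hz =>
    have : g * (y * z) * g⁻¹ = (g * y * g⁻¹) * (g * z * g⁻¹) := by group
    rw [this]
    exact Subgroup.mul_mem _ hy hz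
  | inv y _ hy =>
    have : g * y⁻¹ * g⁻¹ = (g * y * g⁻¹)⁻¹ := by group
    rw [this]
    exact Subgroup.inv_mem _ hy

/-- (R1b-ii) `L` and `C = C_G(L)` are normal, `L ∩ C = Z(L) = 1` (F9), `G = L C`: so `G ≃* L × C`
(`MonoidHom.noncommCoprod`, bijective). `C ≤ C(t)` is abelian; `C` has odd order since an involution of `C` would lie in
`L ∩ C = 1`. Replace `C : Type u` by a copy `A : Type` (e.g. `Fin (Nat.card C)` with the transported structure,
`Equiv.commGroup`, `Equiv.mulEquiv`). -/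
theorem isSL2xA_of_closure_inv (S : Setup G)
    (h : IsSL2 ↥(Subgroup.closure {t : G | orderOf t = 2})) : IsSL2xA G := by
  haveI : Fact (Nat.Prime 2) := ⟨Nat.prime_two⟩
  have hmul := mul_centralizer_closure_inv S h
  obtain ⟨F, hField, hFin, hchar, ⟨e⟩⟩ := h
  -- `L ∩ C = 1`
  have hLC : ∀ x : G, x ∈ Subgroup.closure {t : G | orderOf t = 2} →
      x ∈ Subgroup.centralizer ((Subgroup.closure {t : G | orderOf t = 2} : Subgroup G) : Set G) →
      x = 1 := by
    intro x hxL hxC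
    have h1 : e ⟨x, hxL⟩ ∈ Subgroup.center (Matrix.SpecialLinearGroup (Fin 2) F) := by
      rw [Subgroup.mem_center_iff]
      intro y
      obtain ⟨z, rfl⟩ := e.surjective y
      have h2 := Subgroup.mem_centralizer_iff.mp hxC z z.2
      have h3 : z * (⟨x, hxL⟩ : ↥(Subgroup.closure {t : G | orderOf t = 2})) = ⟨x, hxL⟩ * z :=
        Subtype.ext h2
      rw [← map_mul, ← map_mul, h3]
    rw [center_SL2 F, Subgroup.mem_bot] at h1
    have h4 : (⟨x, hxL⟩ : ↥(Subgroup.closure {t : G | orderOf t = 2})) = 1 :=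
      e.injective (by rw [h1, map_one])
    exact congrArg Subtype.val h4
  -- `C` is abelian
  obtain ⟨P⟩ : Nonempty (Sylow 2 G) := inferInstance
  obtain ⟨t₀, ht₀, ht₀P⟩ := exists_inv_mem S P
  have hne : ∃ t : G, orderOf t = 2 ∧ t ∈ P := ⟨t₀, ht₀, ht₀P⟩
  have hCcomm : ∀ x y : ↥(Subgroup.centralizer
      ((Subgroup.closure {t : G | orderOf t = 2} : Subgroup G) : Set G)), x * y = y * x := by
    intro x y
    have hxH : (x : G) ∈ HH P := by
      rw [← centralizer_inv_eq S.ca P ht₀ ht₀P, Subgroup.mem_centralizer_iff]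
      intro z hz
      rw [Set.mem_singleton_iff] at hz
      subst hz
      exact Subgroup.mem_centralizer_iff.mp x.2 z (Subgroup.subset_closure ht₀)
    have hyH : (y : G) ∈ HH P := by
      rw [← centralizer_inv_eq S.ca P ht₀ ht₀P, Subgroup.mem_centralizer_iff]
      intro z hz
      rw [Set.mem_singleton_iff] at hz
      subst hz
      exact Subgroup.mem_centralizer_iff.mp y.2 z (Subgroup.subset_closure ht₀)
    exact Subtype.ext (HH_comm S.ca P hne _ hxH _ hyH)
  -- `C` has odd order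
  have hCodd : Odd (Nat.card ↥(Subgroup.centralizer
      ((Subgroup.closure {t : G | orderOf t = 2} : Subgroup G) : Set G))) := by
    rw [← Nat.not_even_iff_odd]
    intro hev
    obtain ⟨x, hx⟩ := exists_prime_orderOf_dvd_card' 2 hev.two_dvd
    have hx' : orderOf (x : G) = 2 := by
      rw [Subgroup.orderOf_coe]
      exact hx
    have h1 := hLC x (Subgroup.subset_closure hx') x.2
    rw [h1, orderOf_one] at hx'
    omega
  -- the isomorphism `L × C ≃* G`
  let f : ↥(Subgroup.closure {t : G | orderOf t = 2}) ×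
      ↥(Subgroup.centralizer ((Subgroup.closure {t : G | orderOf t = 2} : Subgroup G) : Set G)) →* G :=
    MonoidHom.noncommCoprod (Subgroup.subtype _) (Subgroup.subtype _)
      (fun l c => (Subgroup.mem_centralizer_iff.mp c.2 l l.2))
  have hf : ∀ p, f p = (p.1 : G) * (p.2 : G) := fun p => rfl
  have hfbij : Function.Bijective f := by
    constructor
    · rw [injective_iff_map_eq_one]
      rintro ⟨l, c⟩ hlc
      rw [hf] at hlc
      have h1 : (l : G) = (c : G)⁻¹ := eq_inv_of_mul_eq_one_left hlc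
      have h2 : (l : G) ∈ Subgroup.centralizer
          ((Subgroup.closure {t : G | orderOf t = 2} : Subgroup G) : Set G) := by
        rw [h1]
        exact Subgroup.inv_mem _ c.2
      have h3 : (l : G) = 1 := hLC _ l.2 h2
      have h4 : (c : G) = 1 := by
        rw [h3, one_mul] at hlc
        exact hlc
      exact Prod.ext (Subtype.ext h3) (Subtype.ext h4)
    · intro g
      obtain ⟨l, hl, c, hc, hg⟩ := hmul g
      exact ⟨(⟨l, hl⟩, ⟨c, hc⟩), hg.symm⟩
  let E₁ : ↥(Subgroup.closure {t : G | orderOf t = 2}) ×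
      ↥(Subgroup.centralizer ((Subgroup.closure {t : G | orderOf t = 2} : Subgroup G) : Set G)) ≃* G :=
    MulEquiv.ofBijective f hfbij
  -- a copy of `C` in `Type`
  obtain ⟨A, instA, finA, hcardA, ⟨E₂⟩⟩ := RB_exists_small_copy _ hCcomm
  refine ⟨F, hField, hFin, A, instA, finA, hchar, ?_, ⟨E₁.symm.trans (MulEquiv.prodCongr e E₂)⟩⟩
  rw [hcardA]
  exact hCodd

end Cfsg.Agent.Helper21.CA
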