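import Cfsg.Agent.Helper21.CA.RA
import Cfsg.Agent.Helper21.CA.FB

/-!
# S2202 piece RC : a perfect central extension of `SL₂(2^m)` by a group of odd order is trivial (transfer).
Uses IB (`center_le_KK`: `#Z(G)` odd), RA (`commutator_eq_top`), FB (`sylow_odd_cyclic_SL2`).
-/

set_option autoImplicit false
open scoped Pointwise

namespace Cfsg.Agent.Helper21.CA

universe u
variable {G : Type u} [Group G] [Finite G]

omit [Finite G] in
/-- a homomorphism from a perfect group to a commutative group is trivial -/
theorem RC_hom_eq_one {A : Type*} [CommGroup A] (hperf : commutator G = ⊤) (f : G →* A) (g : G) :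
    f g = 1 := by
  have h1 : commutator G ≤ f.ker := Abelianization.commutator_subset_ker f
  rw [hperf] at h1
  exact MonoidHom.mem_ker.mp (h1 (Subgroup.mem_top g))

/-- a central element of prime order `p` lies in every Sylow `p`-subgroup -/
theorem RC_central_mem_sylow {p : ℕ} [Fact p.Prime] (T : Sylow p G) (z : G)
    (hz : z ∈ Subgroup.center G) (hord : orderOf z = p) : z ∈ T := by
  have hpg : IsPGroup p (Subgroup.zpowers z) := by
    apply IsPGroup.of_card (n := 1)
    rw [Nat.card_zpowers, hord, pow_one]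
  obtain ⟨Q, hQ⟩ := hpg.exists_le_sylow
  obtain ⟨g, hg⟩ := MulAction.exists_smul_eq G Q T
  have hzQ : z ∈ Q := hQ (Subgroup.mem_zpowers z)
  have h1 : g * z * g⁻¹ ∈ g • Q := by
    rw [Sylow.smul_def]
    have := Subgroup.smul_mem_pointwise_smul z (MulAut.conj g) (Q : Subgroup G) hzQ
    rwa [MulAut.smul_def, MulAut.conj_apply] at this
  rw [hg] at h1
  have h2 : g * z * g⁻¹ = z := by
    rw [Subgroup.mem_center_iff] at hz
    rw [hz g, mul_inv_cancel_right]
  rwa [h2] at h1

/-- (R2b) Suppose `Z = Z(G) ≠ 1`; take `z ∈ Z` of prime order `p` (Cauchy); `p` is odd. Let `T` be a Sylow `p`-subgroup of `G`;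
`z ∈ T` (a central `p`-element lies in every Sylow `p`-subgroup). The image of `T` in `G/Z ≃* SL₂(F)` is a `p`-group, so lies in a
Sylow `p`-subgroup, which is cyclic (F4): `T/(T ∩ Z)` is cyclic, and `T ∩ Z` is central in `T`, so `T` is abelian.
The transfer `V : G →* T` satisfies `V z = z ^ [G:T]` (`MonoidHom.transfer_eq_pow` with `g := z` central: the `key`
hypothesis is trivial). `G` is perfect (R2a), so `V = 1`; but `[G:T]` is prime to `p` and `z` has order `p`, so
`z ^ [G:T] ≠ 1`. -/
theorem center_eq_bot_of_quotient (S : Setup G)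
    (hgen : Subgroup.closure {t : G | orderOf t = 2} = ⊤)
    (h : IsSL2 (G ⧸ Subgroup.center G)) : Subgroup.center G = ⊥ := by
  classical
  by_contra hne
  have hperf : commutator G = ⊤ := commutator_eq_top S hgen
  obtain ⟨P0⟩ : Nonempty (Sylow 2 G) := inferInstance
  have hodd : Odd (Nat.card (Subgroup.center G)) := (center_le_KK S P0).2
  -- a prime divisor of the order of the centre
  have hcard : Nat.card (Subgroup.center G) ≠ 1 := by
    intro h1
    exact hne (Subgroup.card_eq_one.mp h1)
  obtain ⟨p, hp, hpdvd⟩ := Nat.exists_prime_and_dvd hcard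
  have : Fact p.Prime := ⟨hp⟩
  have hp2 : p ≠ 2 := by
    rintro rfl
    exact (Nat.not_even_iff_odd.mpr hodd) (even_iff_two_dvd.mpr hpdvd)
  obtain ⟨z0, hz0⟩ := exists_prime_orderOf_dvd_card' (G := Subgroup.center G) p hpdvd
  set z : G := (z0 : G) with hzdef
  have hzc : z ∈ Subgroup.center G := z0.2
  have hzord : orderOf z = p := by
    rw [hzdef, Subgroup.orderOf_coe, hz0]
  obtain ⟨T⟩ : Nonempty (Sylow p G) := inferInstance
  have hzT : z ∈ T := RC_central_mem_sylow T z hzc hzord
  -- the quotient map to `SL₂(F)`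
  obtain ⟨F, hF1, hF2, hchar, ⟨e⟩⟩ := h
  let φ : G →* Matrix.SpecialLinearGroup (Fin 2) F :=
    e.toMonoidHom.comp (QuotientGroup.mk' (Subgroup.center G))
  have hker : ∀ x : G, φ x = 1 → x ∈ Subgroup.center G := by
    intro x hx
    have h1 : e (QuotientGroup.mk' (Subgroup.center G) x) = 1 := hx
    have h2 : QuotientGroup.mk' (Subgroup.center G) x = 1 := by
      rw [← e.map_one] at h1
      exact e.injective h1
    exact (QuotientGroup.eq_one_iff x).mp h2
  -- `T` is abelian
  have hTcomm : ∀ a b : T, a * b = b * a := by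
    let f0 : T →* Matrix.SpecialLinearGroup (Fin 2) F := φ.comp (T : Subgroup G).subtype
    have hpg : IsPGroup p f0.range := by
      have hT : IsPGroup p T := T.isPGroup'
      exact IsPGroup.of_surjective hT f0.rangeRestrict f0.rangeRestrict_surjective
    obtain ⟨Q', hQ'⟩ := hpg.exists_le_sylow
    have hcyc : IsCyclic ↥(Q' : Subgroup (Matrix.SpecialLinearGroup (Fin 2) F)) :=
      sylow_odd_cyclic_SL2 F p hp2 Q'
    have : IsCyclic f0.range := by
      have h1 : IsCyclic (f0.range.subgroupOf (Q' : Subgroup _)) := inferInstance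
      exact isCyclic_of_surjective (Subgroup.subgroupOfEquivOfLe hQ').toMonoidHom
        (Subgroup.subgroupOfEquivOfLe hQ').surjective
    refine fun a b => (MonoidHom.isMulCommutative_of_isCyclic_of_ker_le_center
      f0.rangeRestrict ?_).is_comm.comm a b
    intro x hx
    rw [MonoidHom.mem_ker] at hx
    have h1 : φ (x : G) = 1 := by
      have := congrArg Subtype.val hx
      simpa [f0] using this
    have h2 := hker _ h1
    rw [Subgroup.mem_center_iff] at h2 ⊢
    intro y
    apply Subtype.ext
    exact h2 (y : G)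
  let _ : CommGroup T := { (inferInstance : Group T) with mul_comm := hTcomm }
  -- the transfer
  have key : ∀ (k : ℕ) (g₀ : G), g₀⁻¹ * z ^ k * g₀ ∈ (T : Subgroup G) →
      g₀⁻¹ * z ^ k * g₀ = z ^ k := by
    intro k g₀ _
    have hzk : z ^ k ∈ Subgroup.center G := (Subgroup.center G).pow_mem hzc k
    rw [Subgroup.mem_center_iff] at hzk
    rw [mul_assoc, ← hzk g₀, inv_mul_cancel_left]
  have htr := MonoidHom.transfer_eq_pow (MonoidHom.id (T : Subgroup G)) z key
  rw [RC_hom_eq_one hperf] at htr
  have h1 : z ^ (T : Subgroup G).index = 1 := by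
    have := congrArg Subtype.val htr
    simpa using this.symm
  have h2 : p ∣ (T : Subgroup G).index := by
    have h3 := orderOf_dvd_of_pow_eq_one h1
    rwa [hzord] at h3
  exact T.not_dvd_index h2

end Cfsg.Agent.Helper21.CA
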