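import Cfsg.Agent.Helper21.CA.GC

/-!
# S2202 piece SE : a subgroup `M` controlling the fusion of its involutions strongly
(`SE M : ∀ g t, orderOf t = 2 → t ∈ M → g*t*g⁻¹ ∈ M → g ∈ M`). Uses GC only.
-/

set_option autoImplicit false

namespace Cfsg.Agent.Helper21.CA

universe u
variable {G : Type u} [Group G]

theorem SE_mul_self {v : G} (hv : orderOf v = 2) : v * v = 1 := by
  have h : v ^ 2 = 1 := by rw [← hv]; exact pow_orderOf_eq_one v
  rwa [sq] at h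

theorem SE_inv_eq_self {v : G} (hv : orderOf v = 2) : v⁻¹ = v :=
  inv_eq_of_mul_eq_one_left (SE_mul_self hv)

theorem SE_orderOf_conj (g t : G) : orderOf (g * t * g⁻¹) = orderOf t := by
  have := (MulAut.conj g).orderOf_eq t
  rwa [MulAut.conj_apply] at this

theorem SE_mem_map_conj {M : Subgroup G} {g x : G} :
    x ∈ M.map (MulAut.conj g).toMonoidHom ↔ g⁻¹ * x * g ∈ M := by
  rw [Subgroup.mem_map_equiv, MulAut.conj_symm_apply]

/-- (SE0) `t ∈ M` an involution, `v ∉ M` an involution: `t*v` has odd order. -/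
theorem SE.odd_mul_of_not_mem [Finite G] {M : Subgroup G} (hM : SE M) {t v : G}
    (ht : orderOf t = 2) (htM : t ∈ M) (hv : orderOf v = 2) (hvM : v ∉ M) :
    Odd (orderOf (t * v)) := by
  by_contra hodd
  rw [Nat.not_odd_iff_even] at hodd
  obtain ⟨z, hz, hzt, hzv⟩ := exists_central_inv_of_even ht hv hodd
  have hzM : z ∈ M := by
    apply hM z t ht htM
    rw [hzt, mul_inv_cancel_right]
    exact htM
  apply hvM
  apply hM v z hz hzM
  rw [← hzv, mul_inv_cancel_right]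
  exact hzM

/-- (SE2) no involution in `M ∩ gMg⁻¹` for `g ∉ M`. -/
theorem SE.no_inv_inter {M : Subgroup G} (hM : SE M) {g x : G} (hg : g ∉ M)
    (hx : x ∈ M) (hxg : g⁻¹ * x * g ∈ M) : orderOf x ≠ 2 := by
  intro hx2
  apply hg
  have h : g⁻¹ ∈ M := by
    apply hM g⁻¹ x hx2 hx
    rwa [inv_inv]
  simpa using M.inv_mem h

/-- (SE1) by (SE2) `u ∉ M`; then (SE0). -/
theorem SE.odd_mul [Finite G] {M : Subgroup G} (hM : SE M) {g t u : G} (hg : g ∉ M)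
    (ht : orderOf t = 2) (htM : t ∈ M) (hu : orderOf u = 2) (huM : g⁻¹ * u * g ∈ M) :
    Odd (orderOf (t * u)) := by
  apply hM.odd_mul_of_not_mem ht htM hu
  intro huM'
  exact hM.no_inv_inter hg huM' huM hu

/-- (SE-conj) a conjugate of an `SE` subgroup is `SE`. -/
theorem SE.conj {M : Subgroup G} (hM : SE M) (g : G) :
    SE (M.map (MulAut.conj g).toMonoidHom) := by
  intro h t ht htM hh
  rw [SE_mem_map_conj] at htM hh ⊢
  apply hM (g⁻¹ * h * g) (g⁻¹ * t * g) _ htM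
  · have : g⁻¹ * h * g * (g⁻¹ * t * g) * (g⁻¹ * h * g)⁻¹ = g⁻¹ * (h * t * h⁻¹) * g := by group
    rw [this]; exact hh
  · have := SE_orderOf_conj g⁻¹ t
    rw [inv_inv] at this
    rw [this, ht]

theorem SE_not_mem_of_coset {M : Subgroup G} {g v : G} (hg : g ∉ M) (hv : g⁻¹ * v ∈ M) : v ∉ M := by
  intro hvM
  apply hg
  have h : g⁻¹ ∈ M := by
    have := M.mul_mem hv (M.inv_mem hvM)
    rwa [mul_inv_cancel_right] at this
  simpa using M.inv_mem h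

/-- (SE3) the bijection `J(g) → Inv(gMg⁻¹)`, `v ↦ v t v⁻¹`. -/
theorem SE.bijOn_J [Finite G] {M : Subgroup G} (hM : SE M) {g t : G} (hg : g ∉ M)
    (ht : orderOf t = 2) (htM : t ∈ M) :
    Set.BijOn (fun v : G => v * t * v⁻¹) {v : G | orderOf v = 2 ∧ g⁻¹ * v ∈ M}
      {u : G | orderOf u = 2 ∧ g⁻¹ * u * g ∈ M} := by
  refine ⟨?_, ?_, ?_⟩
  · rintro v ⟨hv, hvM⟩
    refine ⟨by rw [SE_orderOf_conj]; exact ht, ?_⟩
    have : g⁻¹ * (v * t * v⁻¹) * g = (g⁻¹ * v) * t * (g⁻¹ * v)⁻¹ := by group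
    show g⁻¹ * (v * t * v⁻¹) * g ∈ M
    rw [this]
    exact M.mul_mem (M.mul_mem hvM htM) (M.inv_mem hvM)
  · rintro v ⟨hv, hvM⟩ v' ⟨hv', hvM'⟩ heq
    have hvn : v ∉ M := SE_not_mem_of_coset hg hvM
    have hvn' : v' ∉ M := SE_not_mem_of_coset hg hvM'
    exact inv_conj_unique ht hv hv' rfl heq.symm (hM.odd_mul_of_not_mem ht htM hv hvn)
      (hM.odd_mul_of_not_mem ht htM hv' hvn')
  · rintro u ⟨hu, huM⟩
    have hodd := hM.odd_mul hg ht htM hu huM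
    obtain ⟨v, hv, hvt, -⟩ := exists_inv_conj_of_odd ht hu hodd
    refine ⟨v, ⟨hv, ?_⟩, hvt⟩
    apply hM (g⁻¹ * v) t ht htM
    have : g⁻¹ * v * t * (g⁻¹ * v)⁻¹ = g⁻¹ * (v * t * v⁻¹) * g := by group
    rw [this, hvt]
    exact huM

/-- (SE4) description of `J(g)` through one of its members `v₀`. -/
theorem SE.J_eq_image {M : Subgroup G} (hM : SE M) {g v₀ : G} (hg : g ∉ M)
    (hv₀ : orderOf v₀ = 2) (hv₀g : g⁻¹ * v₀ ∈ M) :
    {v : G | orderOf v = 2 ∧ g⁻¹ * v ∈ M} =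
      (fun x : G => x * v₀) '' {x : G | x ∈ M ∧ g⁻¹ * x * g ∈ M ∧ v₀ * x * v₀⁻¹ = x⁻¹} := by
  have h0 : v₀⁻¹ = v₀ := SE_inv_eq_self hv₀
  have h00 : v₀ * v₀ = 1 := SE_mul_self hv₀
  ext v
  constructor
  · rintro ⟨hv, hvM⟩
    have h1 : v⁻¹ = v := SE_inv_eq_self hv
    refine ⟨v * v₀, ⟨?_, ?_, ?_⟩, ?_⟩
    · have : v * v₀ = (g⁻¹ * v)⁻¹ * (g⁻¹ * v₀) := by
        rw [mul_inv_rev, inv_inv, h1]; group
      rw [this]
      exact M.mul_mem (M.inv_mem hvM) hv₀g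
    · have : g⁻¹ * (v * v₀) * g = (g⁻¹ * v) * (g⁻¹ * v₀)⁻¹ := by
        rw [mul_inv_rev, inv_inv, h0]; group
      rw [this]
      exact M.mul_mem hvM (M.inv_mem hv₀g)
    · rw [mul_inv_rev, h0, h1, mul_assoc, mul_assoc, h00, mul_one]
    · show v * v₀ * v₀ = v
      rw [mul_assoc, h00, mul_one]
  · rintro ⟨x, ⟨hxM, hxg, hxv⟩, rfl⟩
    show orderOf (x * v₀) = 2 ∧ g⁻¹ * (x * v₀) ∈ M
    refine ⟨?_, ?_⟩
    · apply orderOf_eq_prime
      · rw [sq]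
        have : x * v₀ * (x * v₀) = x * (v₀ * x * v₀⁻¹) := by rw [h0]; group
        rw [this, hxv, mul_inv_cancel]
      · intro h1
        have hv₀M : v₀ ∈ M := by
          have : v₀ = x⁻¹ := eq_inv_of_mul_eq_one_right h1
          rw [this]; exact M.inv_mem hxM
        exact SE_not_mem_of_coset hg hv₀g hv₀M
    · have : g⁻¹ * (x * v₀) = (g⁻¹ * x * g) * (g⁻¹ * v₀) := by group
      rw [this]
      exact M.mul_mem hxg hv₀g

/-- (SE5) the elements of `M ∩ gMg⁻¹` inverted by `v₀ ∈ J(g)` are, via `x ↦ x t x⁻¹`, in bijection with the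
involutions of `M`. -/
theorem SE.bijOn_inverted [Finite G] {M : Subgroup G} (hM : SE M) {g v₀ t : G} (hg : g ∉ M)
    (hv₀ : orderOf v₀ = 2) (hv₀g : g⁻¹ * v₀ ∈ M) (ht : orderOf t = 2) (htM : t ∈ M) :
    Set.BijOn (fun x : G => x * t * x⁻¹)
      {x : G | x ∈ M ∧ g⁻¹ * x * g ∈ M ∧ v₀ * x * v₀⁻¹ = x⁻¹}
      {t' : G | orderOf t' = 2 ∧ t' ∈ M} := by
  have h0 : v₀⁻¹ = v₀ := SE_inv_eq_self hv₀
  have h00 : v₀ * v₀ = 1 := SE_mul_self hv₀
  -- the conjugate subgroup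
  have hM' : SE (M.map (MulAut.conj g).toMonoidHom) := hM.conj g
  have hg' : g⁻¹ ∉ M.map (MulAut.conj g).toMonoidHom := by
    rw [SE_mem_map_conj]
    intro h
    apply hg
    have h2 : g⁻¹ ∈ M := by
      have : g⁻¹ * g⁻¹ * g = g⁻¹ := by group
      rwa [this] at h
    simpa using M.inv_mem h2
  have hu₀ : orderOf (v₀ * t * v₀⁻¹) = 2 := by rw [SE_orderOf_conj]; exact ht
  have hu₀M : v₀ * t * v₀⁻¹ ∈ M.map (MulAut.conj g).toMonoidHom := by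
    rw [SE_mem_map_conj]
    have : g⁻¹ * (v₀ * t * v₀⁻¹) * g = (g⁻¹ * v₀) * t * (g⁻¹ * v₀)⁻¹ := by group
    rw [this]
    exact M.mul_mem (M.mul_mem hv₀g htM) (M.inv_mem hv₀g)
  have key := hM'.bijOn_J hg' hu₀ hu₀M
  -- identify the two sets
  have hS1 : {v : G | orderOf v = 2 ∧ (g⁻¹)⁻¹ * v ∈ M.map (MulAut.conj g).toMonoidHom}
      = {v : G | orderOf v = 2 ∧ g⁻¹ * v ∈ M} := by
    ext v
    simp only [Set.mem_ofPred_eq]
    constructor
    · rintro ⟨hv, h⟩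
      refine ⟨hv, ?_⟩
      rw [SE_mem_map_conj] at h
      have h1 : v⁻¹ = v := SE_inv_eq_self hv
      have : g⁻¹ * v = (g⁻¹ * (g⁻¹⁻¹ * v) * g)⁻¹ := by
        rw [inv_inv]
        have : (g⁻¹ * (g * v) * g)⁻¹ = g⁻¹ * v⁻¹ := by group
        rw [this, h1]
      rw [this]
      exact M.inv_mem h
    · rintro ⟨hv, h⟩
      refine ⟨hv, ?_⟩
      rw [SE_mem_map_conj]
      have h1 : v⁻¹ = v := SE_inv_eq_self hv
      have : g⁻¹ * (g⁻¹⁻¹ * v) * g = (g⁻¹ * v)⁻¹ := by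
        rw [inv_inv]
        have : (g⁻¹ * v)⁻¹ = v⁻¹ * g := by group
        rw [this, h1]; group
      rw [this]
      exact M.inv_mem h
  have hS2 : {u : G | orderOf u = 2 ∧ (g⁻¹)⁻¹ * u * g⁻¹ ∈ M.map (MulAut.conj g).toMonoidHom}
      = {t' : G | orderOf t' = 2 ∧ t' ∈ M} := by
    ext u
    simp only [Set.mem_ofPred_eq]
    rw [SE_mem_map_conj]
    have : g⁻¹ * (g⁻¹⁻¹ * u * g⁻¹) * g = u := by group
    rw [this]
  rw [hS1, hS2] at key
  -- the first bijection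
  have hφ : Set.BijOn (fun x : G => x * v₀)
      {x : G | x ∈ M ∧ g⁻¹ * x * g ∈ M ∧ v₀ * x * v₀⁻¹ = x⁻¹}
      {v : G | orderOf v = 2 ∧ g⁻¹ * v ∈ M} := by
    rw [hM.J_eq_image hg hv₀ hv₀g]
    exact Set.InjOn.bijOn_image (fun a _ b _ h => mul_right_cancel h)
  have hcomp := key.comp hφ
  refine hcomp.congr ?_
  intro x _
  show (x * v₀) * (v₀ * t * v₀⁻¹) * (x * v₀)⁻¹ = x * t * x⁻¹
  have : (x * v₀) * (v₀ * t * v₀⁻¹) * (x * v₀)⁻¹ = x * (v₀ * v₀) * t * (v₀ * v₀)⁻¹ * x⁻¹ := by group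
  rw [this, h00, mul_one, inv_one, mul_one]

end Cfsg.Agent.Helper21.CA
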